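import Cfsg.Agent.H401.Orb
set_option linter.all false

-- part: H401/L5
section
/-!
# The linear space case
-/

set_option autoImplicit false
open Subgroup MulAction
open scoped Pointwise

namespace Cfsg.Agent.H401

variable {G X : Type*} [Group G] [Finite G] [MulAction G X] [Finite X] {p : ℕ} [Fact p.Prime]

/-- The subgroup generated by the Sylow subgroups fixing both points. -/
def DD (p : ℕ) (G : Type*) {X : Type*} [Group G] [MulAction G X] (γ δ : X) : Subgroup G :=
  plus p (stabilizer G γ ⊓ stabilizer G δ)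

omit [Finite G] [Finite X] [Fact p.Prime] in
theorem DD_comm (γ δ : X) : DD p G γ δ = DD p G δ γ := by
  unfold DD
  rw [inf_comm]

omit [Finite G] [Finite X] [Fact p.Prime] in
theorem DD_smul (g : G) (γ δ : X) : DD p G (g • γ) (g • δ) = MulAut.conj g • DD p G γ δ := by
  unfold DD
  rw [smul_plus, stabilizer_smul', stabilizer_smul', smul_inf]

omit [Finite G] [Finite X] [Fact p.Prime] in
theorem DD_le_left (γ δ : X) : DD p G γ δ ≤ stabilizer G γ := (plus_le _).trans inf_le_left

omit [Finite G] [Finite X] [Fact p.Prime] in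
theorem DD_le_right (γ δ : X) : DD p G γ δ ≤ stabilizer G δ := (plus_le _).trans inf_le_right

/-- The linear space property at a point. -/
structure LS (p : ℕ) (G : Type*) {X : Type*} [Group G] [MulAction G X] (l : ℕ) (β : X) :
    Prop where
  conj : ∀ ω, ω ≠ β → ∀ ω', ω' ≠ β → ∃ g : G, DD p G β ω' = MulAut.conj g • DD p G β ω
  norm : ∀ ω, ω ≠ β → ∀ Q : Sylow p G, (Q : Subgroup G) ≤ stabilizer G β →
    (Q : Subgroup G) ≤ normalizer (DD p G β ω : Set G) → (Q : Subgroup G) ≤ stabilizer G ω
  cnt : ∀ ω, ω ≠ β → (fs (DD p G β ω) X \ {β}).ncard = l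

omit [Finite G] [Finite X] [Fact p.Prime] in
theorem LS.smul {l : ℕ} {β : X} (h : LS p G l β) (g : G) : LS p G l (g • β) := by
  have hred : ∀ ω : X, ω ≠ g • β → g⁻¹ • ω ≠ β := by
    intro ω hω h1
    apply hω
    rw [← h1, smul_inv_smul]
  have hD : ∀ ω : X, DD p G (g • β) ω = MulAut.conj g • DD p G β (g⁻¹ • ω) := by
    intro ω
    rw [← DD_smul, smul_inv_smul]
  constructor
  · intro ω hω ω' hω'
    obtain ⟨k, hk⟩ := h.conj _ (hred ω hω) _ (hred ω' hω')
    refine ⟨g * k * g⁻¹, ?_⟩
    rw [hD, hD, hk, smul_smul, smul_smul, ← map_mul, ← map_mul]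
    congr 2
    group
  · intro ω hω Q hQ hQ'
    have h1 : ((g⁻¹ • Q : Sylow p G) : Subgroup G) ≤ stabilizer G β := by
      rw [Sylow.coe_subgroup_smul, map_inv, ← Subgroup.subset_pointwise_smul_iff,
        ← stabilizer_smul']
      exact hQ
    have h2 : ((g⁻¹ • Q : Sylow p G) : Subgroup G) ≤
        normalizer (DD p G β (g⁻¹ • ω) : Set G) := by
      intro x hx
      rw [Sylow.coe_subgroup_smul, mem_pointwise_smul_iff_inv_smul_mem, ← map_inv, inv_inv,
        MulAut.smul_def, MulAut.conj_apply] at hx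
      have h3 := hQ' hx
      rw [mem_normalizer_iff_smul, hD, smul_smul, ← map_mul] at h3
      rw [mem_normalizer_iff_smul]
      have h4 : MulAut.conj g • (MulAut.conj x • DD p G β (g⁻¹ • ω)) =
          MulAut.conj g • DD p G β (g⁻¹ • ω) := by
        rw [smul_smul, ← map_mul]
        rw [← h3]
        congr 2
        group
      exact smul_left_cancel _ h4
    have h3 := h.norm _ (hred ω hω) _ h1 h2
    rw [Sylow.coe_subgroup_smul, map_inv, ← Subgroup.subset_pointwise_smul_iff,
        ← stabilizer_smul', smul_inv_smul] at h3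
    exact h3
  · intro ω hω
    have h1 : fs (DD p G (g • β) ω) X \ {g • β} =
        (fun x => g • x) '' (fs (DD p G β (g⁻¹ • ω)) X \ {β}) := by
      ext x
      simp only [Set.mem_diff, Set.mem_singleton_iff, Set.mem_image]
      constructor
      · rintro ⟨hx1, hx2⟩
        refine ⟨g⁻¹ • x, ⟨?_, hred x hx2⟩, smul_inv_smul _ _⟩
        rw [← fs_smul _ g, ← hD, smul_inv_smul]
        exact hx1
      · rintro ⟨y, ⟨hy1, hy2⟩, rfl⟩
        refine ⟨?_, fun h => hy2 (smul_left_cancel g h)⟩
        rw [hD, fs_smul]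
        exact hy1
    rw [h1, Set.ncard_image_of_injective _ (MulAction.injective g)]
    exact h.cnt _ (hred ω hω)

omit [Finite X] [Fact p.Prime] in
/-- A point of a line determines the line. -/
theorem LS.eq {l : ℕ} {β : X} (h : LS p G l β) {ω ω' : X} (hω : ω ≠ β) (hω' : ω' ≠ β)
    (h1 : ω' ∈ fs (DD p G β ω) X) : DD p G β ω' = DD p G β ω := by
  obtain ⟨g, hg⟩ := h.conj ω hω ω' hω'
  have h2 : DD p G β ω ≤ DD p G β ω' := by
    have h3 : plus p (DD p G β ω) = DD p G β ω := plus_plus _
    rw [← h3]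
    apply plus_mono
    exact le_inf (DD_le_left _ _) h1
  exact (eq_of_smul_le hg h2).symm

theorem ls_false [IsPretransitive G X] {P : Sylow p G} (hP : Nat.card P = p) {f l : ℕ}
    (hf : (fs (P : Subgroup G) X).ncard = f) (hX : Nat.card X = f + p * l) (hl : 2 ≤ l)
    (hfp : p + 1 ≤ f) {β : X} (hβ : LS p G l β) : False := by
  have hLS : ∀ γ : X, LS p G l γ := by
    intro γ
    obtain ⟨g, rfl⟩ := MulAction.exists_smul_eq G β γ
    exact hβ.smul g
  have hpp : p.Prime := Fact.out
  set Γ := fs (P : Subgroup G) X with hΓ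
  have hcompl : Γᶜ.ncard = p * l := by
    have := Set.ncard_add_ncard_compl Γ
    omega
  -- (c)
  have hc : ∀ γ ∈ Γ, ∀ δ, δ ∉ Γ → ∀ γ' ∈ Γ, γ' ∈ fs (DD p G γ δ) X → γ' = γ := by
    intro γ hγ δ hδ γ' hγ' h1
    by_contra hne
    have hδγ : δ ≠ γ := fun h => hδ (h ▸ hγ)
    have h2 := (hLS γ).eq hδγ hne h1
    apply hδ
    refine le_trans ?_ (DD_le_right (p := p) γ δ)
    rw [← h2]
    exact le_plus (le_inf hγ hγ')
  -- orbits of P
  have horb : ∀ x, x ∉ Γ → (orbit (P : Subgroup G) x).ncard = p := fun x hx =>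
    ncard_orbit_eq hP hx
  have hgen : ∀ g ∈ (P : Subgroup G), g ≠ 1 → zpowers g = (P : Subgroup G) := fun g hg hg1 =>
    zpowers_eq hP hg hg1
  have hfixone : ∀ g ∈ (P : Subgroup G), ∀ x, x ∉ Γ → g • x = x → g = 1 := by
    intro g hg x hx hgx
    by_contra hg1
    apply hx
    rw [hΓ, ← hgen g hg hg1, fs_zpowers]
    exact hgx
  have hΓinv : ∀ g ∈ (P : Subgroup G), ∀ x, x ∉ Γ → g • x ∉ Γ := by
    intro g hg x hx h1
    have h2 : g⁻¹ • (g • x) = g • x := h1 (inv_mem hg)
    rw [inv_smul_smul] at h2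
    rw [← h2] at h1
    exact hx h1
  -- (d)
  have hd : ∀ γ ∈ Γ, ∀ δ, δ ∉ Γ → ∀ y, y ≠ γ → y ∈ fs (DD p G γ δ) X →
      ∀ g ∈ (P : Subgroup G), g • y ∈ fs (DD p G γ δ) X → g = 1 := by
    intro γ hγ δ hδ y hyγ hy g hg hgy
    have hδγ : δ ≠ γ := fun h => hδ (h ▸ hγ)
    have hyΓ : y ∉ Γ := fun h => hyγ (hc γ hγ δ hδ y h hy)
    by_contra hg1
    have hgγ : g • γ = γ := hγ hg
    have hgyγ : g • y ≠ γ := by
      intro h
      rw [← hgγ] at h
      exact hyγ (smul_left_cancel g h)
    have h1 := (hLS γ).eq hδγ hyγ hy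
    have h2 := (hLS γ).eq hδγ hgyγ hgy
    have h3 : MulAut.conj g • DD p G γ y = DD p G γ y := by
      rw [← DD_smul, hgγ, h2, h1]
    have h4 : (P : Subgroup G) ≤ normalizer (DD p G γ y : Set G) := by
      rw [← hgen g hg hg1, zpowers_le, mem_normalizer_iff_smul]
      exact h3
    exact hyΓ ((hLS γ).norm y hyγ P hγ h4)
  -- (e)
  have he : ∀ γ ∈ Γ, ∀ δ, δ ∉ Γ → ∀ x, x ∉ Γ →
      ∃ y, y ≠ γ ∧ y ∈ fs (DD p G γ δ) X ∧ y ∈ orbit (P : Subgroup G) x := by
    intro γ hγ δ hδ x hx
    have hδγ : δ ≠ γ := fun h => hδ (h ▸ hγ)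
    let L := fs (DD p G γ δ) X \ {γ}
    have hLΓ : ∀ y ∈ L, y ∉ Γ := fun y hy h => hy.2 (hc γ hγ δ hδ y h hy.1)
    let F : ↥(P : Subgroup G) × ↥L → (Γᶜ : Set X) := fun q =>
      ⟨(q.1 : G) • (q.2 : X), hΓinv q.1 q.1.2 q.2 (hLΓ q.2 q.2.2)⟩
    have hFinj : Function.Injective F := by
      rintro ⟨g, y⟩ ⟨g', y'⟩ hF
      have h1 : (g : G) • (y : X) = (g' : G) • (y' : X) := congrArg Subtype.val hF
      have h2 : ((g' : G)⁻¹ * (g : G)) • (y : X) = y' := by
        rw [mul_smul, h1, inv_smul_smul]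
      have h3 : ((g' : G)⁻¹ * (g : G)) = 1 := by
        apply hd γ hγ δ hδ y y.2.2 y.2.1 _ (mul_mem (inv_mem g'.2) g.2)
        rw [h2]
        exact y'.2.1
      have h4 : g = g' := by
        apply Subtype.ext
        rw [inv_mul_eq_one] at h3
        exact h3.symm
      subst h4
      have h5 : y = y' := by
        apply Subtype.ext
        rw [← h2, inv_mul_cancel, one_smul]
      rw [h5]
    have hcard : Nat.card (Γᶜ : Set X) ≤ Nat.card (↥(P : Subgroup G) × ↥L) := by
      rw [Nat.card_prod, Nat.card_coe_set_eq, Nat.card_coe_set_eq, hcompl, (hLS γ).cnt δ hδγ]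
      exact le_of_eq (congrArg (· * l) hP.symm)
    have hbij := hFinj.bijective_of_nat_card_le hcard
    obtain ⟨⟨g, y⟩, hgy⟩ := hbij.2 ⟨x, hx⟩
    have h1 : (g : G) • (y : X) = x := congrArg Subtype.val hgy
    refine ⟨y, y.2.2, y.2.1, ⟨g⁻¹, ?_⟩⟩
    rw [← h1]
    exact inv_smul_smul (g : G) (y : X)
  -- (f)
  have hne1 : (Γᶜ).Nonempty := by
    rw [← Set.ncard_pos, hcompl]
    exact Nat.mul_pos hpp.pos (by omega)
  obtain ⟨δ, hδ⟩ := hne1
  have hx0 : ∃ x0, x0 ∉ Γ ∧ x0 ∉ orbit (P : Subgroup G) δ := by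
    by_contra hcon
    push Not at hcon
    have h1 : Γᶜ ⊆ orbit (P : Subgroup G) δ := fun x hx => hcon x hx
    have h2 := Set.ncard_le_ncard h1 (Set.toFinite _)
    rw [hcompl, horb δ hδ] at h2
    have h3 : p * 2 ≤ p * l := Nat.mul_le_mul_left _ hl
    have := hpp.pos
    omega
  obtain ⟨x0, hx0, hx0δ⟩ := hx0
  choose y hy1 hy2 hy3 using fun γ : Γ => he γ γ.2 δ hδ x0 hx0
  have hyinj : Function.Injective
      (fun γ : Γ => (⟨y γ, hy3 γ⟩ : orbit (P : Subgroup G) x0)) := by
    intro γ γ' hγγ'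
    have h0 : y γ = y γ' := congrArg Subtype.val hγγ'
    have hyδ : y γ ≠ δ := by
      intro h
      apply hx0δ
      have h1 := hy3 γ
      rw [h] at h1
      exact mem_orbit_symm.1 h1
    have key : ∀ γ : Γ, y γ ≠ δ → DD p G δ (y γ) = DD p G (γ : X) δ := by
      intro γ hyδ
      have hγδ : (γ : X) ≠ δ := fun h => hδ (h ▸ γ.2)
      have h1 : y γ ∈ fs (DD p G δ (γ : X)) X := by
        rw [DD_comm]
        exact hy2 γ
      have := (hLS δ).eq hγδ hyδ h1
      rw [this, DD_comm]
    have h1 := key γ hyδ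
    have h2 := key γ' (h0 ▸ hyδ)
    rw [← h0, h1] at h2
    apply Subtype.ext
    symm
    apply hc γ γ.2 δ hδ γ' γ'.2
    rw [h2]
    exact DD_le_left _ _
  have hfinal := Nat.card_le_card_of_injective _ hyinj
  rw [Nat.card_coe_set_eq, Nat.card_coe_set_eq, hf, horb x0 hx0] at hfinal
  omega

end Cfsg.Agent.H401
end

-- part: H401/CaseA0
section
/-!
# The linear space case: the hypotheses
-/

set_option autoImplicit false
open Subgroup MulAction
open scoped Pointwise

namespace Cfsg.Agent.H401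

universe u

section Mlevel

variable {M : Type*} {X : Type u} [Group M] [Finite M] [MulAction M X] [Finite X] {p : ℕ}
  [Fact p.Prime]

theorem mlevel (hp2 : p ≠ 2) (hM : PGen p M) {P : Sylow p M} (hPc : Nat.card P = p) {β : X}
    (hβ : ∀ m : M, m • β = β) {ι : Type u} [Fintype ι] {f l : ℕ}
    (d : Dat p P β f l ι) (hc1 : ∀ i, d.c i = 1) {i0 : ι}
    (hcrit : AltCrit p (d.a i0)) (hX : Nat.card X = f + p * l) :
    (∀ ω : X, ω ≠ β → ∀ ω' : X, ω' ≠ β →
      ∃ m : M, plus p (stabilizer M ω') = MulAut.conj m • plus p (stabilizer M ω)) ∧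
    (∀ ω : X, ω ≠ β → ∀ Q : Sylow p M,
      (Q : Subgroup M) ≤ normalizer (plus p (stabilizer M ω) : Set M) →
        (Q : Subgroup M) ≤ stabilizer M ω) ∧
    (∀ ω : X, ω ≠ β → (fs (plus p (stabilizer M ω)) X \ {β}).ncard = l) := by
  classical
  have hcard : ∀ i, Nat.card (M ⧸ d.U i) = d.a i + p := by
    intro i
    rw [d.hc i, hc1 i, mul_one]
  have halt : ∀ i, d.a i < p := fun i => (d.bd i).1 (hc1 i)
  have hU0 : IsAltCo P (d.U i0) (d.a i0) := ⟨d.coatom i0, d.ha i0, hcard i0, halt i0, hcrit⟩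
  have hconj := fun i => hU0.conj hp2 hM hPc (d.coatom i) (d.ha i) (hcard i) (halt i)
  have ha2 := hcrit.two_le
  obtain ⟨Q0, hQ0⟩ := exists_sylow_le (P := P) (U := d.U i0) (by rw [hU0.fix]; omega)
  -- the subgroups generated by the Sylow subgroups of the stabilizers
  have hst : ∀ i, plus p (stabilizer M (d.δ i)) = plus p (d.U i) := by
    intro i
    apply le_antisymm (plus_mono (d.le i))
    rw [plus_le_iff]
    intro Q hQ
    exact le_plus (d.syl i Q hQ)
  have hK : ∀ ω : X, ω ≠ β →
      ∃ m : M, plus p (stabilizer M ω) = MulAut.conj m • plus p (d.U i0) := by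
    intro ω hω
    obtain ⟨i, m, hm⟩ := d.cover ω hω
    obtain ⟨-, g, hg⟩ := hconj i
    refine ⟨m * g⁻¹, ?_⟩
    simp only at hm
    rw [← hm, stabilizer_smul', ← smul_plus, hst i, map_mul, mul_smul]
    congr 1
    rw [hg, ← smul_plus, map_inv, inv_smul_smul]
  have hne_smul : ∀ m : M, ∀ ω : X, ω ≠ β → m • ω ≠ β := by
    intro m ω hω h
    apply hω
    rw [← hβ m] at h
    exact smul_left_cancel m h
  -- uniqueness of the coset
  have huniq : ∀ m m' : M,
      MulAut.conj m • plus p (d.U i0) = MulAut.conj m' • plus p (d.U i0) →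
      (m : M ⧸ d.U i0) = (m' : M ⧸ d.U i0) := by
    intro m m' h
    rw [QuotientGroup.eq]
    apply mem_of_smul_plus_eq hM hU0.coatom hQ0
    rw [map_mul, mul_smul, ← h, map_inv, inv_smul_smul]
  have huniq' : ∀ m m' : M, (m : M ⧸ d.U i0) = (m' : M ⧸ d.U i0) →
      MulAut.conj m • plus p (d.U i0) = MulAut.conj m' • plus p (d.U i0) := by
    intro m m' h
    rw [QuotientGroup.eq] at h
    have h1 : MulAut.conj (m⁻¹ * m') • plus p (d.U i0) = plus p (d.U i0) := by
      rw [smul_plus, smul_eq_of_mem h]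
    rw [map_mul, mul_smul, map_inv, inv_smul_eq_iff] at h1
    exact h1.symm
  refine ⟨?_, ?_, ?_⟩
  · intro ω hω ω' hω'
    obtain ⟨m, hm⟩ := hK ω hω
    obtain ⟨m', hm'⟩ := hK ω' hω'
    refine ⟨m' * m⁻¹, ?_⟩
    rw [hm', hm, map_mul, mul_smul, map_inv, inv_smul_smul]
  · intro ω hω Q hQ
    obtain ⟨m, hm⟩ := hK ω hω
    have h1 : (Q : Subgroup M) ≤ MulAut.conj m • d.U i0 := by
      intro x hx
      have h2 := hQ hx
      rw [mem_normalizer_iff_smul, hm, smul_smul, ← map_mul] at h2
      have h3 : MulAut.conj (m⁻¹ * (x * m)) • plus p (d.U i0) = plus p (d.U i0) := by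
        rw [map_mul, mul_smul, h2, map_inv, inv_smul_smul]
      have h4 := mem_of_smul_plus_eq hM hU0.coatom hQ0 h3
      rw [mem_pointwise_smul_iff_inv_smul_mem, ← map_inv, MulAut.smul_def, MulAut.conj_apply,
        inv_inv, mul_assoc]
      exact h4
    have h2 := le_plus h1
    rw [← smul_plus, ← hm] at h2
    exact h2.trans (plus_le _)
  · intro ω hω
    choose! μ hμ using hK
    let φ : X → M ⧸ d.U i0 := fun x => (μ x : M ⧸ d.U i0)
    have hφ : ∀ m : M, ∀ x ∈ ({β}ᶜ : Set X), φ (m • x) = m • φ x := by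
      intro m x hx
      have hx' : x ≠ β := hx
      apply huniq
      rw [← hμ _ (hne_smul m x hx'), stabilizer_smul', ← smul_plus, hμ x hx', smul_smul,
        ← map_mul]
      rfl
    have hcount := ncard_preimage ({β}ᶜ : Set X) (fun m x hx => hne_smul m x hx) φ hφ (φ ω)
      Set.univ
    simp only [Set.mem_univ, and_true, Set.ofPred_mem_eq, Set.ncard_univ, hcard] at hcount
    have hfib : {x | x ∈ ({β}ᶜ : Set X) ∧ φ x = φ ω} =
        fs (plus p (stabilizer M ω)) X \ {β} := by
      ext x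
      simp only [Set.mem_ofPred_eq, Set.mem_compl_iff, Set.mem_singleton_iff, Set.mem_diff]
      rw [and_comm]
      apply and_congr_left
      intro hx
      constructor
      · intro h
        have h1 := huniq' _ _ h
        rw [← hμ x hx, ← hμ ω hω] at h1
        rw [mem_fs, ← h1]
        exact plus_le _
      · intro h
        apply huniq
        rw [← hμ x hx, ← hμ ω hω]
        have h1 : plus p (stabilizer M ω) ≤ plus p (stabilizer M x) :=
          le_plus_iff_of_plus_le.1 h
        symm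
        refine eq_of_smul_le (g := μ x * (μ ω)⁻¹) ?_ h1
        rw [hμ x hx, hμ ω hω, map_mul, mul_smul, map_inv, inv_smul_smul]
    rw [hfib] at hcount
    have hcompl : ({β}ᶜ : Set X).ncard + 1 = f + p * l := by
      have := Set.ncard_add_ncard_compl ({β} : Set X)
      rw [Set.ncard_singleton] at this
      omega
    have hal : f = 1 + d.a i0 * l := by
      have e0 : ∑ i, d.b i * d.a i = d.a i0 * ∑ i, d.b i * d.c i := by
        rw [Finset.mul_sum]
        apply Finset.sum_congr rfl
        intro i _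
        rw [hc1 i, (hconj i).1]
        ring
      have e1 := d.sum_a
      rw [e0, d.sum_c] at e1
      exact e1
    have hp : 0 < p := (Fact.out : p.Prime).pos
    apply Nat.eq_of_mul_eq_mul_right (show 0 < d.a i0 + p by omega)
    rw [← hcount]
    have e1 : l * (d.a i0 + p) = d.a i0 * l + p * l := by ring
    omega

end Mlevel

variable {G : Type*} {X : Type u} [Group G] [Finite G] [MulAction G X] [Finite X] {p : ℕ}
  [Fact p.Prime]

omit [Finite X] in
theorem DD_eq_map {P : Sylow p G} {β : X} (hP : (P : Subgroup G) ≤ stabilizer G β) (ω : X) :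
    DD p G β ω = (plus p (stabilizer (plus p (stabilizer G β)) ω)).map
      (plus p (stabilizer G β)).subtype := by
  rw [map_plus (le_plus hP)]
  unfold DD
  apply le_antisymm
  · rw [plus_le_iff]
    intro Q hQ
    apply le_plus
    intro x hx
    have hxM : x ∈ plus p (stabilizer G β) := le_plus (hQ.trans inf_le_left) hx
    exact ⟨⟨x, hxM⟩, (hQ hx).2, rfl⟩
  · apply plus_mono
    rintro _ ⟨x, hx, rfl⟩
    exact ⟨plus_le _ x.2, hx⟩

omit [Finite G] [Finite X] in
theorem card_subtype {P : Sylow p G} (hPc : Nat.card P = p) {M : Subgroup G}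
    (hPM : (P : Subgroup G) ≤ M) : Nat.card (P.subtype hPM) = p :=
  (Nat.card_congr (subgroupOfEquivOfLe hPM).toEquiv).trans hPc

omit [Finite G] [Fact p.Prime] in
theorem smul_map_subtype {M : Subgroup G} (m : M) (K : Subgroup M) :
    (MulAut.conj m • K).map M.subtype = MulAut.conj (m : G) • K.map M.subtype := by
  ext x
  simp only [mem_map, mem_pointwise_smul_iff_inv_smul_mem, ← map_inv, MulAut.smul_def,
    MulAut.conj_apply, coe_subtype]
  constructor
  · rintro ⟨y, hy, rfl⟩
    exact ⟨_, hy, by simp⟩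
  · rintro ⟨y, hy, hyx⟩
    refine ⟨m * y * m⁻¹, by simpa [mul_assoc] using hy, ?_⟩
    rw [Subgroup.coe_mul, Subgroup.coe_mul, hyx]
    simp [mul_assoc]

theorem fs_map_subtype {M : Subgroup G} (K : Subgroup M) :
    fs (K.map M.subtype) X = fs K X := by
  ext x
  rw [mem_fs, mem_fs]
  constructor
  · intro h k hk
    exact h ⟨k, hk, rfl⟩
  · rintro h _ ⟨k, hk, rfl⟩
    exact h hk

theorem ls_of_dat (hp2 : p ≠ 2) {P : Sylow p G}
    (hPc : Nat.card P = p) {β : X}
    (hP : (P : Subgroup G) ≤ stabilizer G β) {ι : Type u} [Fintype ι] {f l : ℕ}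
    (d : Dat p (P.subtype (le_plus hP)) β f l ι) (hc1 : ∀ i, d.c i = 1) {i0 : ι}
    (hcrit : AltCrit p (d.a i0)) (hX : Nat.card X = f + p * l) : LS p G l β := by
  obtain ⟨h1, h2, h3⟩ := mlevel hp2 (pGen_plus hP) (card_subtype hPc (le_plus hP))
    (fun m => plus_le _ m.2) d hc1 hcrit hX
  constructor
  · intro ω hω ω' hω'
    obtain ⟨m, hm⟩ := h1 ω hω ω' hω'
    refine ⟨m, ?_⟩
    rw [DD_eq_map hP, DD_eq_map hP, hm, smul_map_subtype]
  · intro ω hω Q hQ hQ'
    have hQM : (Q : Subgroup G) ≤ plus p (stabilizer G β) := le_plus hQ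
    have h4 := h2 ω hω (Q.subtype hQM) (by
      intro x hx
      rw [Sylow.coe_subtype, mem_subgroupOf] at hx
      have h5 := hQ' hx
      rw [mem_normalizer_iff_smul, DD_eq_map hP, ← smul_map_subtype] at h5
      rw [mem_normalizer_iff_smul]
      exact map_injective (subtype_injective _) h5)
    intro x hx
    have h5 : (⟨x, hQM hx⟩ : plus p (stabilizer G β)) ∈
        (Q.subtype hQM : Subgroup (plus p (stabilizer G β))) := by
      rw [Sylow.coe_subtype, mem_subgroupOf]
      exact hx
    exact h4 h5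
  · intro ω hω
    rw [DD_eq_map hP, fs_map_subtype]
    exact h3 ω hω

end Cfsg.Agent.H401
end

-- part: H401/CaseA
section
/-!
# Case A: all the orbits have one nontrivial block orbit
-/

set_option autoImplicit false
open Subgroup MulAction
open scoped Pointwise

namespace Cfsg.Agent.H401

universe u

theorem not_altCrit {p a : ℕ} (h : ¬ AltCrit p a) : a ≤ 2 ∧ ((p = 3 ∨ p = 5) → a ≤ 1) := by
  unfold AltCrit at h
  omega

theorem numericA1 {p : ℕ} (hp : p.Prime) (hp3 : 3 ≤ p) {f l : ℕ} {ι : Type*} [Fintype ι]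
    (a c b : ι → ℕ) (hc1 : ∀ i, c i = 1) (hcrit : ∀ i, ¬ AltCrit p (a i))
    (hsc : ∑ i, b i * c i = l) (hsa : f = 1 + ∑ i, b i * a i) (hf : p + 1 ≤ f)
    (hf' : (p - 1) * l + 2 ≤ f + 2 * (p - 1)) (hl : 2 ≤ l) : p = 3 ∧ l = 3 ∧ f = 4 := by
  have hsb : ∑ i, b i = l := by
    rw [← hsc]
    apply Finset.sum_congr rfl
    intro i _
    rw [hc1 i, mul_one]
  have h2 : ∑ i, b i * a i ≤ 2 * l := by
    rw [← hsb, Finset.mul_sum]
    apply Finset.sum_le_sum
    intro i _
    rw [mul_comm]
    exact Nat.mul_le_mul_right _ (not_altCrit (hcrit i)).1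
  have h1 : (p = 3 ∨ p = 5) → ∑ i, b i * a i ≤ l := by
    intro h
    rw [← hsb]
    apply Finset.sum_le_sum
    intro i _
    exact (Nat.mul_le_mul_left _ ((not_altCrit (hcrit i)).2 h)).trans (by rw [mul_one])
  rcases Nat.lt_or_ge p 7 with h7 | h7
  · have h35 : p = 3 ∨ p = 5 := by
      interval_cases p
      · left; rfl
      · exact absurd hp (by norm_num)
      · right; rfl
      · exact absurd hp (by norm_num)
    have h1 := h1 h35
    rcases h35 with rfl | rfl
    · omega
    · omega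
  · exfalso
    obtain ⟨q, rfl⟩ : ∃ q, p = q + 7 := ⟨p - 7, by omega⟩
    have e1 : (q + 7 - 1) * l = q * l + 6 * l := by
      rw [show q + 7 - 1 = q + 6 by omega]
      ring
    rw [e1] at hf'
    have e2 : q * 2 ≤ q * l := Nat.mul_le_mul_left _ hl
    omega

variable {G : Type*} {X : Type u} [Group G] [Finite G] [MulAction G X] [Finite X] {p : ℕ}
  [Fact p.Prime]

theorem Dat.two_le {M : Type*} [Group M] [MulAction M X] {P : Sylow p M} {β : X}
    {f l : ℕ} {ι : Type u} [Fintype ι] (d : Dat p P β f l ι) : 2 ≤ l := by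
  have h1 := d.sum_a
  have h2 := d.f_ge
  have hne : Nonempty ι := by
    by_contra hne
    rw [not_nonempty_iff] at hne
    rw [Finset.univ_eq_empty, Finset.sum_empty] at h1
    have := (Fact.out : p.Prime).pos
    omega
  obtain ⟨i⟩ := hne
  have h3 := d.c_pos i
  have h4 := d.c_lt i
  omega

theorem caseA [IsPretransitive G X] (hp2 : p ≠ 2) {P : Sylow p G}
    (hPc : Nat.card P = p) {β : X}
    (hP : (P : Subgroup G) ≤ stabilizer G β) {ι : Type u} [Fintype ι] {f l : ℕ}
    (hf : (fs (P : Subgroup G) X).ncard = f) (hX : Nat.card X = f + p * l)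
    (d : Dat p (P.subtype (le_plus hP)) β f l ι) (hc1 : ∀ i, d.c i = 1) : False := by
  have hp : p.Prime := Fact.out
  have hp3 : 3 ≤ p := by
    have := hp.two_le
    omega
  by_cases h : ∃ i, AltCrit p (d.a i)
  · obtain ⟨i0, hcrit⟩ := h
    exact ls_false hPc hf hX d.two_le d.f_ge (ls_of_dat hp2 hPc hP d hc1 hcrit hX)
  · push Not at h
    obtain ⟨h1, h2, h3⟩ := numericA1 hp hp3 d.a d.c d.b hc1 h d.sum_c d.sum_a d.f_ge d.f_ge' d.two_le
    refine no_thirteen (by rw [hX, h1, h2, h3]) h1 P (by rw [hf, h3])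

end Cfsg.Agent.H401
end

-- part: H401/B0
section
/-!
# Case B0: an alternating block orbit and a large one
-/

set_option autoImplicit false
open Subgroup MulAction
open scoped Pointwise

namespace Cfsg.Agent.H401

/-- `f1 ∣ l1` and the lower bound for `f1` force `l1 = 2`. -/
theorem numeric_cd {p f1 l1 : ℕ} (hp3 : 3 ≤ p) (hl : 2 ≤ l1) (hf : (p - 1) * (l1 - 2) + 1 ≤ f1)
    (hd : f1 ∣ l1) (hpf : ¬ p ∣ f1) : l1 = 2 ∧ f1 ≤ 2 ∧ 1 ≤ f1 := by
  have h1 : f1 ≤ l1 := Nat.le_of_dvd (by omega) hd
  obtain ⟨k, rfl⟩ : ∃ k, l1 = k + 2 := ⟨l1 - 2, by omega⟩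
  obtain ⟨q, rfl⟩ : ∃ q, p = q + 1 := ⟨p - 1, by omega⟩
  simp only [Nat.add_sub_cancel] at hf
  rcases Nat.eq_zero_or_pos k with rfl | hk
  · omega
  · exfalso
    obtain ⟨j, rfl⟩ : ∃ j, k = j + 1 := ⟨k - 1, by omega⟩
    have h4 : q * (j + 1) = q * j + q := by ring
    have h5 : 2 * j ≤ q * j := Nat.mul_le_mul_right _ (by omega)
    have hj : j = 0 := by omega
    subst hj
    have hq : q = 2 := by omega
    subst hq
    have : f1 = 3 := by omega
    apply hpf
    rw [this]

variable {M : Type*} [Group M] [Finite M] {p : ℕ} [Fact p.Prime]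

/-- An element acting as a given even permutation, a power of which is an `r`-element acting
nontrivially, and centralizing `P`. -/
theorem exists_r_element {Z : Type*} [MulAction M Z] {r : ℕ} [hr : Fact r.Prime] (y : M)
    (hy : ∃ z : Z, y • z ≠ z) (hyr : ∀ z : Z, y ^ r • z = z) :
    ∃ c ∈ zpowers y, (∃ t, orderOf c = r ^ t) ∧ ∃ z : Z, c • z ≠ z := by
  obtain ⟨u, hu⟩ : ∃ u, orderOf y = r ^ (orderOf y).factorization r * u :=
    ⟨_, (Nat.ordProj_mul_ordCompl_eq_self (orderOf y) r).symm⟩
  have hpos : 0 < orderOf y := orderOf_pos y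
  have hu0 : 0 < u := by
    rcases Nat.eq_zero_or_pos u with h | h
    · rw [h, mul_zero] at hu
      omega
    · exact h
  have hucop : Nat.Coprime r u := by
    rw [Nat.Prime.coprime_iff_not_dvd hr.out]
    rintro ⟨v, hv⟩
    rw [hv, ← mul_assoc, ← pow_succ] at hu
    have h1 : r ^ ((orderOf y).factorization r + 1) ∣ orderOf y := ⟨v, hu⟩
    have h2 := (hr.out.pow_dvd_iff_le_factorization hpos.ne').1 h1
    omega
  refine ⟨y ^ u, pow_mem (mem_zpowers y) u, ⟨(orderOf y).factorization r, ?_⟩, ?_⟩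
  · rw [orderOf_pow_of_dvd hu0.ne' ⟨_, by rw [mul_comm]; exact hu⟩]
    conv_lhs => rw [hu]
    exact Nat.mul_div_cancel _ hu0
  · by_contra hcon
    push Not at hcon
    obtain ⟨z, hz⟩ := hy
    apply hz
    -- `y` is a product of powers of `y ^ r` and `y ^ u`
    have hrs : y ^ r ∈ stabilizer M z := hyr z
    have hus : y ^ u ∈ stabilizer M z := hcon z
    have hb := Nat.gcd_eq_gcd_ab r u
    rw [Nat.Coprime.gcd_eq_one hucop] at hb
    have h1 : y = (y ^ r) ^ (Nat.gcdA r u) * (y ^ u) ^ (Nat.gcdB r u) := by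
      rw [← zpow_natCast, ← zpow_natCast, ← zpow_mul, ← zpow_mul, ← zpow_add, ← hb]
      simp
    rw [← mem_stabilizer_iff, h1]
    exact mul_mem (zpow_mem hrs _) (zpow_mem hus _)

/-- Elements commuting with a `p`-group modulo a normal `p'`-group can be corrected to commute. -/
theorem exists_commuting {P K : Subgroup M} (hP : IsPGroup p P) (hK : K.Normal)
    (hpK : ¬ p ∣ Nat.card K) {x : M} (hx : ∀ g ∈ P, x⁻¹ * g * x * g⁻¹ ∈ K) :
    ∃ k ∈ K, ∀ g ∈ P, (x * k) * g = g * (x * k) := by
  let P' : Subgroup (MulAut M) := P.map MulAut.conj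
  have hP' : IsPGroup p P' := hP.map _
  let S : Set M := {y | x⁻¹ * y ∈ K}
  have hS : ∀ m ∈ P', ∀ y ∈ S, m • y ∈ S := by
    rintro _ ⟨g, hg, rfl⟩ y hy
    change x⁻¹ * (g * y * g⁻¹) ∈ K
    have h1 : x⁻¹ * (g * y * g⁻¹) = (x⁻¹ * g * x * g⁻¹) * (g * (x⁻¹ * y) * g⁻¹) := by group
    rw [h1]
    exact K.mul_mem (hx g hg) (hK.conj_mem _ hy g)
  have h1 := ncard_modEq (X := M) hP' S hS
  have h2 : S.ncard = Nat.card K := by
    have : S = (fun k => x * k) '' (K : Set M) := by
      ext y
      simp only [S, Set.mem_ofPred_eq, Set.mem_image, SetLike.mem_coe]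
      constructor
      · intro hy
        exact ⟨x⁻¹ * y, hy, by simp⟩
      · rintro ⟨k, hk, rfl⟩
        simpa using hk
    rw [this, Set.ncard_image_of_injective _ (mul_right_injective x)]
    rfl
  rw [h2] at h1
  have h3 : (fs P' M ∩ S).Nonempty := by
    rw [Set.nonempty_iff_ne_empty]
    intro h
    rw [h, Set.ncard_empty] at h1
    exact hpK ((Nat.modEq_zero_iff_dvd).1 h1)
  obtain ⟨y, hy1, hy2⟩ := h3
  refine ⟨x⁻¹ * y, hy2, ?_⟩
  intro g hg
  have h4 : g * y * g⁻¹ = y := hy1 (mem_map_of_mem _ hg)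
  rw [mul_inv_cancel_left]
  rw [mul_inv_eq_iff_eq_mul] at h4
  exact h4.symm

theorem isPGroup_zpowers {r t : ℕ} {c : M} (h : orderOf c = r ^ t) : IsPGroup r (zpowers c) := by
  apply IsPGroup.of_card (n := t)
  rw [Nat.card_zpowers, h]

theorem mem_normalCore_of_fs {V : Subgroup M} {c : M} (h : ∀ y : M ⧸ V, c • y = y) :
    c ∈ V.normalCore := by
  rw [normalCore_eq_ker, MonoidHom.mem_ker]
  ext y
  exact h y

theorem smul_of_mem_normalCore {V : Subgroup M} {c : M} (h : c ∈ V.normalCore) (y : M ⧸ V) :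
    c • y = y := by
  rw [normalCore_eq_ker, MonoidHom.mem_ker] at h
  have := DFunLike.congr_fun h y
  exact this

/-- **Case B0.** -/
theorem IsAltCo.false_of_large {P : Sylow p M} {U : Subgroup M} {a : ℕ} (h : IsAltCo P U a)
    (hp2 : p ≠ 2) (hM : PGen p M) (hP : Nat.card P = p) {V : Subgroup M} (hV : IsCoatom V)
    {f1 l1 : ℕ} (hf1 : (fs (P : Subgroup M) (M ⧸ V)).ncard = f1)
    (hV1 : Nat.card (M ⧸ V) = f1 + p * l1) (hl1 : 2 ≤ l1) (hf : (p - 1) * (l1 - 2) + 1 ≤ f1)
    (hnum : l1 = 2 → p ≤ a + f1) : False := by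
  classical
  have hp : p.Prime := Fact.out
  have hp3 : 3 ≤ p := by
    have := hp.two_le
    omega
  have hcore := h.core_not_le hp2 hM hP hV hf1 hV1 hl1 hf
  have hKn : U.normalCore.Normal := normalCore_normal U
  have hKne := normalCore_ne_top h.coatom.1
  have hpK := not_dvd_card_of_normal hM hP hKn hKne
  have hsup : U.normalCore ⊔ V = ⊤ := by
    apply hV.2
    rw [right_lt_sup]
    exact hcore
  -- `K` is transitive
  have htr1 : ∀ y : M ⧸ V, ∃ k ∈ U.normalCore, k • (((1 : M) : M ⧸ V)) = y := by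
    intro y
    obtain ⟨g, rfl⟩ := QuotientGroup.mk_surjective y
    have hg : g ∈ (↑(U.normalCore ⊔ V) : Set M) := by rw [hsup]; trivial
    rw [Subgroup.normal_mul] at hg
    obtain ⟨k, hk, v, hv, rfl⟩ := hg
    refine ⟨k, hk, ?_⟩
    change ((k * 1 : M) : M ⧸ V) = ((k * v : M) : M ⧸ V)
    rw [mul_one, QuotientGroup.eq]
    simpa using hv
  have htr : ∀ x y : M ⧸ V, ∃ k ∈ U.normalCore, k • x = y := by
    intro x y
    obtain ⟨k, hk, rfl⟩ := htr1 x
    obtain ⟨k', hk', rfl⟩ := htr1 y
    exact ⟨k' * k⁻¹, mul_mem hk' (inv_mem hk), by rw [smul_smul, inv_mul_cancel_right]⟩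
  have hnefix : (fs (P : Subgroup M) (M ⧸ V)).Nonempty := by
    apply Set.nonempty_of_ncard_ne_zero
    rw [hf1]
    omega
  have hdvd := ncard_fs_dvd (X := M ⧸ V) P.isPGroup' hpK
    (by rw [normalizer_eq_top_iff.2 hKn]; exact le_top) htr hnefix
  rw [hf1, hV1] at hdvd
  have hpf : ¬ p ∣ f1 := by
    obtain ⟨y, hy⟩ := hnefix
    have h1 := not_dvd_card_of_fixed P hy
    rw [hV1] at h1
    intro h2
    exact h1 (dvd_add h2 (dvd_mul_right _ _))
  have hdvd2 : f1 ∣ l1 := by
    have h1 : f1 ∣ p * l1 := (Nat.dvd_add_right dvd_rfl).1 hdvd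
    exact Nat.Coprime.dvd_of_dvd_mul_left ((Nat.coprime_comm.1 ((hp.coprime_iff_not_dvd).2 hpf))) h1
  obtain ⟨hl2, hf12, hf11⟩ := numeric_cd hp3 hl1 hf hdvd2 hpf
  have hapf := hnum hl2
  have halt := h.lt
  have hKV : V.normalCore ≤ U.normalCore :=
    h.normal_le hp2 hM hP (normalCore_normal V) (normalCore_ne_top hV.1)
  have := Fintype.ofFinite M
  have := Fintype.ofFinite (M ⧸ U)
  have := Fintype.ofFinite (M ⧸ V)
  have hr := h.range hp2 hM hP
  subst hl2
  rcases Nat.lt_or_ge p 5 with hp5 | hp5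
  · -- `p = 3`
    have hp3' : p = 3 := by
      interval_cases p
      · rfl
      · exact absurd hp (by norm_num)
    subst hp3'
    have ha : a = 2 := by
      have := h.crit.two_le
      omega
    subst ha
    have hZ : Nat.card (M ⧸ U) = 5 := h.card
    have h5 : Fact (Nat.Prime 5) := ⟨by norm_num⟩
    have hnt : Nontrivial (M ⧸ U) := by
      rw [← Finite.one_lt_card_iff_nontrivial, hZ]
      norm_num
    have hA : Nat.card (alternatingGroup (M ⧸ U)) = 60 := by
      have h7 := two_mul_nat_card_alternatingGroup (α := M ⧸ U)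
      rw [Nat.card_perm, hZ] at h7
      have h71 : (5 : ℕ).factorial = 120 := by norm_num [Nat.factorial]
      rw [h71] at h7
      omega
    obtain ⟨σ, hσ⟩ := exists_prime_orderOf_dvd_card' (G := alternatingGroup (M ⧸ U)) 5
      (by rw [hA]; norm_num)
    have hσr : (σ : Equiv.Perm (M ⧸ U)) ∈ (toPermHom M (M ⧸ U)).range := by
      rw [hr]
      exact σ.2
    obtain ⟨y, hy⟩ := hσr
    have hσo : orderOf (σ : Equiv.Perm (M ⧸ U)) = 5 := by rw [Subgroup.orderOf_coe, hσ]
    obtain ⟨c, -, ⟨t, ht⟩, z, hz⟩ := exists_r_element (Z := M ⧸ U) (r := 5) y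
      (by
        by_contra hcon
        push Not at hcon
        have : toPermHom M (M ⧸ U) y = 1 := by
          ext z
          exact hcon z
        rw [← hy, this, orderOf_one] at hσo
        norm_num at hσo)
      (by
        intro z
        have : toPermHom M (M ⧸ U) (y ^ 5) = 1 := by
          rw [map_pow, hy, ← hσo, pow_orderOf_eq_one]
        exact DFunLike.congr_fun this z)
    have hcV : toPermHom M (M ⧸ V) c ≠ 1 := by
      intro hc
      have : c ∈ V.normalCore := by rw [normalCore_eq_ker]; exact hc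
      exact hz (smul_of_mem_normalCore (hKV this) z)
    have hYc : Fintype.card (M ⧸ V) = f1 + 6 := by
      rw [← Nat.card_eq_fintype_card, hV1]
    have hco : orderOf (toPermHom M (M ⧸ V) c) = 5 := by
      have h1 : orderOf (toPermHom M (M ⧸ V) c) ∣ 5 ^ t := by
        rw [← ht]
        exact orderOf_map_dvd _ _
      obtain ⟨s, -, hs⟩ := (Nat.dvd_prime_pow h5.out).1 h1
      have h2 : orderOf (toPermHom M (M ⧸ V) c) ∣ (8 : ℕ).factorial := by
        have h3 : orderOf (toPermHom M (M ⧸ V) c) ∣ Nat.card (Equiv.Perm (M ⧸ V)) :=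
          orderOf_dvd_natCard _
        rw [Nat.card_perm, Nat.card_eq_fintype_card, hYc] at h3
        exact h3.trans (Nat.factorial_dvd_factorial (by omega))
      rcases s with _ | _ | s
      · exfalso
        apply hcV
        rwa [pow_zero, orderOf_eq_one_iff] at hs
      · simpa using hs
      · exfalso
        rw [hs, pow_succ, pow_succ] at h2
        have h3 : 25 ∣ (8 : ℕ).factorial := by
          refine dvd_trans ⟨5 ^ s, ?_⟩ h2
          ring
        norm_num [Nat.factorial] at h3
    have hcyc : (toPermHom M (M ⧸ V) c).IsCycle := by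
      apply Equiv.Perm.isCycle_of_prime_order'
      · rw [hco]; norm_num
      · rw [hco, hYc]; omega
    have hsupp : (toPermHom M (M ⧸ V) c).support.card = 5 := by
      rw [← hcyc.orderOf, hco]
    have hprim : IsPreprimitive (toPermHom M (M ⧸ V)).range (M ⧸ V) := by
      have hntV : Nontrivial (M ⧸ V) := by
        rw [← Finite.one_lt_card_iff_nontrivial, hV1]
        omega
      have h1 : IsPreprimitive M (M ⧸ V) := by
        rw [← isCoatom_stabilizer_iff_preprimitive M ((1 : M) : M ⧸ V), stabilizer_mk_one]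
        exact hV
      exact IsPreprimitive.of_surjective (M := M) (φ := (toPermHom M (M ⧸ V)).rangeRestrict)
        (f := { toFun := id, map_smul' := fun _ _ => rfl }) Function.surjective_id
    have hle : (toPermHom M (M ⧸ V)).range ≤ alternatingGroup (M ⧸ V) := by
      rintro _ ⟨d, rfl⟩
      exact sign_eq_one hp2 hM d
    have hrV : (toPermHom M (M ⧸ V)).range = alternatingGroup (M ⧸ V) := by
      apply le_antisymm hle
      rcases hf12.eq_or_lt with h2 | h2
      · exact Cfsg.Agent.S0713.result _ hprim (by norm_num) (by omega) (by omega) hcyc hsupp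
          ⟨c, rfl⟩
      · exact (Cfsg.Agent.H529.TwinCycle.eq_alternating_seven (by omega) hle hprim hcyc hsupp
          ⟨c, rfl⟩).ge
    apply hcore
    exact (normal_le_of_range hV.1 (by rw [hV1]; omega) hrV hM hP hKn hKne).trans
      (normalCore_le V)
  · -- `p ≥ 5`
    have ha3 : 3 ≤ a := by omega
    have h3 : Fact (Nat.Prime 3) := ⟨by norm_num⟩
    have hcard3 : 2 < (fs (P : Subgroup M) (M ⧸ U)).ncard := by rw [h.fix]; omega
    obtain ⟨z1, hz1, z2, hz2, z3, hz3, h12, h13, h23⟩ := (Set.two_lt_ncard).1 hcard3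
    let τ : Equiv.Perm (M ⧸ U) := Equiv.swap z1 z2 * Equiv.swap z1 z3
    have hτ3 : τ.IsThreeCycle := Equiv.Perm.isThreeCycle_swap_mul_swap_same h12 h13 h23
    have hτr : τ ∈ (toPermHom M (M ⧸ U)).range := by
      rw [hr]
      exact hτ3.mem_alternatingGroup
    obtain ⟨x, hx⟩ := hτr
    have hcomm : ∀ g ∈ (P : Subgroup M), toPermHom M (M ⧸ U) g * τ = τ * toPermHom M (M ⧸ U) g := by
      intro g hg
      have e1 : toPermHom M (M ⧸ U) g z1 = z1 := hz1 hg
      have e2 : toPermHom M (M ⧸ U) g z2 = z2 := hz2 hg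
      have e3 : toPermHom M (M ⧸ U) g z3 = z3 := hz3 hg
      have a1 : toPermHom M (M ⧸ U) g * Equiv.swap z1 z2 =
          Equiv.swap z1 z2 * toPermHom M (M ⧸ U) g := by
        rw [Equiv.mul_swap_eq_swap_mul, e1, e2]
      have a2 : toPermHom M (M ⧸ U) g * Equiv.swap z1 z3 =
          Equiv.swap z1 z3 * toPermHom M (M ⧸ U) g := by
        rw [Equiv.mul_swap_eq_swap_mul, e1, e3]
      simp only [τ]
      rw [← mul_assoc, a1, mul_assoc, a2, mul_assoc]
    obtain ⟨k, hk, hky⟩ := exists_commuting P.isPGroup' hKn hpK (x := x) (by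
      intro g hg
      rw [normalCore_eq_ker, MonoidHom.mem_ker, map_mul, map_mul, map_mul, map_inv, map_inv, hx]
      rw [mul_assoc τ⁻¹, hcomm g hg]
      group)
    have hyτ : toPermHom M (M ⧸ U) (x * k) = τ := by
      rw [normalCore_eq_ker, MonoidHom.mem_ker] at hk
      rw [map_mul, hk, mul_one, hx]
    obtain ⟨c, hc, ⟨t, ht⟩, z, hz⟩ := exists_r_element (Z := M ⧸ U) (r := 3) (x * k)
      (by
        refine ⟨z1, ?_⟩
        change toPermHom M (M ⧸ U) (x * k) z1 ≠ z1
        rw [hyτ]
        intro h4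
        have h5 := hτ3.isCycle
        simp only [τ, Equiv.Perm.mul_apply, Equiv.swap_apply_left] at h4
        rw [Equiv.swap_apply_of_ne_of_ne h13.symm h23.symm] at h4
        exact h13 h4.symm)
      (by
        intro z
        have : toPermHom M (M ⧸ U) ((x * k) ^ 3) = 1 := by
          rw [map_pow, hyτ, ← hτ3.orderOf, pow_orderOf_eq_one]
        exact DFunLike.congr_fun this z)
    -- `c` commutes with `P`
    have hcP : ∀ b ∈ zpowers c, ∀ g ∈ (P : Subgroup M), b * g = g * b := by
      intro b hb g hg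
      have h4 : zpowers c ≤ zpowers (x * k) := zpowers_le.2 hc
      obtain ⟨n, rfl⟩ := h4 hb
      exact (Commute.zpow_left (show Commute (x * k) g from hky g hg) n)
    have hCp := isPGroup_zpowers ht
    have hinvP : ∀ b ∈ zpowers c, ∀ y ∈ fs (P : Subgroup M) (M ⧸ V),
        b • y ∈ fs (P : Subgroup M) (M ⧸ V) := by
      intro b hb y hy g hg
      rw [mem_stabilizer_iff, smul_smul, ← hcP b hb g hg, mul_smul]
      congr 1
      exact hy hg
    have hinvS : ∀ b ∈ zpowers c, ∀ y ∈ (fs (P : Subgroup M) (M ⧸ V))ᶜ,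
        b • y ∈ (fs (P : Subgroup M) (M ⧸ V))ᶜ := by
      intro b hb y hy h4
      apply hy
      have := hinvP b⁻¹ (inv_mem hb) _ h4
      rwa [inv_smul_smul] at this
    have hinvC : ∀ g ∈ (P : Subgroup M), ∀ y ∈ fs (zpowers c) (M ⧸ V),
        g • y ∈ fs (zpowers c) (M ⧸ V) := by
      intro g hg y hy b hb
      rw [mem_stabilizer_iff, smul_smul, hcP b hb g hg, mul_smul]
      congr 1
      exact hy hb
    have hScard : ((fs (P : Subgroup M) (M ⧸ V))ᶜ).ncard = p * 2 := by
      have := Set.ncard_add_ncard_compl (fs (P : Subgroup M) (M ⧸ V))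
      rw [hf1, hV1] at this
      omega
    have hm1 := ncard_modEq (X := M ⧸ V) hCp _ hinvS
    rw [hScard] at hm1
    set A := fs (zpowers c) (M ⧸ V) ∩ (fs (P : Subgroup M) (M ⧸ V))ᶜ with hA
    have hm2 := ncard_modEq (X := M ⧸ V) P.isPGroup' A (by
      rintro g hg y ⟨hy1, hy2⟩
      refine ⟨hinvC g hg y hy1, ?_⟩
      intro h4
      apply hy2
      have h5 : g⁻¹ • (g • y) = g • y := h4 (inv_mem hg)
      rw [inv_smul_smul] at h5
      rw [h5]
      exact h4)
    have hempty : fs (P : Subgroup M) (M ⧸ V) ∩ A = ∅ := by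
      ext y
      simp only [hA, Set.mem_inter_iff, Set.mem_compl_iff, Set.mem_empty_iff_false, iff_false]
      tauto
    rw [hempty, Set.ncard_empty] at hm2
    obtain ⟨j, hj⟩ := (Nat.modEq_zero_iff_dvd).1 hm2
    have hAle : A.ncard ≤ p * 2 := by
      rw [← hScard]
      exact Set.ncard_le_ncard Set.inter_subset_right (Set.toFinite _)
    have hj2 : j ≤ 2 := by
      rw [hj] at hAle
      exact Nat.le_of_mul_le_mul_left hAle hp.pos
    have hp3n : ¬ 3 ∣ p := by
      intro h4
      have := (Nat.prime_dvd_prime_iff_eq (by norm_num) hp).1 h4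
      omega
    have hj' : j = 2 := by
      rw [hj] at hm1
      have h4 : p * 2 % 3 = p * j % 3 := hm1
      interval_cases j
      · omega
      · omega
      · rfl
    have hAeq : A = (fs (P : Subgroup M) (M ⧸ V))ᶜ := by
      apply Set.eq_of_subset_of_ncard_le Set.inter_subset_right _ (Set.toFinite _)
      rw [hScard, hj, hj']
    have hm3 := ncard_modEq (X := M ⧸ V) hCp _ hinvP
    rw [hf1] at hm3
    have hBle : (fs (zpowers c) (M ⧸ V) ∩ fs (P : Subgroup M) (M ⧸ V)).ncard ≤ f1 := by
      rw [← hf1]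
      exact Set.ncard_le_ncard Set.inter_subset_right (Set.toFinite _)
    have hBcard : (fs (zpowers c) (M ⧸ V) ∩ fs (P : Subgroup M) (M ⧸ V)).ncard = f1 := by
      have h4 : f1 % 3 = (fs (zpowers c) (M ⧸ V) ∩ fs (P : Subgroup M) (M ⧸ V)).ncard % 3 := hm3
      omega
    have hBeq : fs (zpowers c) (M ⧸ V) ∩ fs (P : Subgroup M) (M ⧸ V) =
        fs (P : Subgroup M) (M ⧸ V) := by
      apply Set.eq_of_subset_of_ncard_le Set.inter_subset_right _ (Set.toFinite _)
      rw [hf1, hBcard]
    have hall : ∀ y : M ⧸ V, c • y = y := by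
      intro y
      rw [← fs_zpowers]
      by_cases hy : y ∈ fs (P : Subgroup M) (M ⧸ V)
      · rw [← hBeq] at hy
        exact hy.1
      · have : y ∈ A := by rw [hAeq]; exact hy
        exact this.1
    exact hz (smul_of_mem_normalCore (hKV (mem_normalCore_of_fs hall)) z)

end Cfsg.Agent.H401
end

-- part: H401/Graph
section
/-!
# The rank three argument
-/

set_option autoImplicit false
open Subgroup MulAction
open scoped Pointwise

namespace Cfsg.Agent.H401

section TwoTrans

variable {D Z : Type*} [Group D] [Finite D] [MulAction D Z] {p : ℕ} [Fact p.Prime]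

theorem two_trans [Finite Z] [IsPretransitive D Z] (hp3 : 3 ≤ p) {P : Subgroup D}
    (hP : Nat.card P = p) {a : ℕ} (ha : a = 1 ∨ a = 2) (hf : (fs P Z).ncard = a)
    (hZ : Nat.card Z = a + p) (x y x' y' : Z) (hxy : x ≠ y) (hxy' : x' ≠ y') :
    ∃ d : D, d • x = x' ∧ d • y = y' := by
  classical
  have := Fintype.ofFinite Z
  have hp : p.Prime := Fact.out
  rcases ha with rfl | rfl
  · obtain ⟨z0, hz0⟩ := Set.ncard_eq_one.1 hf
    have hfix : ∀ z, z ∈ fs P Z ↔ z = z0 := by
      intro z
      rw [hz0, Set.mem_singleton_iff]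
    have hcompl : (fs P Z)ᶜ.ncard = p := by
      have := Set.ncard_add_ncard_compl (fs P Z)
      omega
    -- `P` is transitive on the complement
    have htr : ∀ u v : Z, u ≠ z0 → v ≠ z0 → ∃ g ∈ P, g • u = v := by
      intro u v hu hv
      have hu' : u ∉ fs P Z := by rw [hfix]; exact hu
      have horb : orbit P u = (fs P Z)ᶜ := by
        apply Set.eq_of_subset_of_ncard_le _ _ (Set.toFinite _)
        · rintro _ ⟨q, rfl⟩ hq
          rw [hfix] at hq
          simp only at hq
          have h1 : z0 ∈ fs P Z := by rw [hfix]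
          have h2 : (q : D)⁻¹ • z0 = z0 := h1 (inv_mem q.2)
          have h3 : (q : D) • u = z0 := hq
          rw [← h3, inv_smul_smul, h3] at h2
          exact hu h2
        · rw [hcompl]
          exact (ncard_orbit_eq hP hu').ge
      have h4 : v ∈ orbit P u := by
        rw [horb]
        intro h
        rw [hfix] at h
        exact hv h
      obtain ⟨g, hg⟩ := h4
      exact ⟨g, g.2, hg⟩
    obtain ⟨d, hd⟩ := MulAction.exists_smul_eq D x z0
    obtain ⟨d', hd'⟩ := MulAction.exists_smul_eq D x' z0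
    obtain ⟨g, hg, hgy⟩ := htr (d • y) (d' • y')
      (by rw [← hd]; exact fun h => hxy (smul_left_cancel d h.symm))
      (by rw [← hd']; exact fun h => hxy' (smul_left_cancel d' h.symm))
    refine ⟨d'⁻¹ * (g * d), ?_, ?_⟩
    · have h1 : z0 ∈ fs P Z := by rw [hfix]
      have h2 : g • z0 = z0 := h1 hg
      rw [mul_smul, mul_smul, hd, h2, ← hd', inv_smul_smul]
    · rw [mul_smul, mul_smul, hgy, inv_smul_smul]
  · obtain ⟨g, hg, hgc, hgp⟩ := exists_cycle (Z := Z) hP hf
      (by rw [← Nat.card_eq_fintype_card, hZ]) (by omega)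
    have htr : IsPretransitive (toPermHom D Z).range Z := by
      constructor
      intro x y
      obtain ⟨d, hd⟩ := MulAction.exists_smul_eq D x y
      exact ⟨⟨toPermHom D Z d, d, rfl⟩, hd⟩
    have hZ' : Fintype.card Z = p + 2 := by
      rw [← Nat.card_eq_fintype_card, hZ, add_comm]
    have hprim := Cfsg.Agent.H529.TwoCycles.isPreprimitive_of_cycle hp hgc hgp (by omega) htr
      ⟨g, rfl⟩
    have h3 := Cfsg.Agent.H529.TwinCycle.three_transitive hprim hp hZ' hgc hgp ⟨g, rfl⟩
    have h2 : IsMultiplyPretransitive (toPermHom D Z).range Z 2 :=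
      isMultiplyPretransitive_of_le (n := 3) (by norm_num)
        (by rw [Nat.card_eq_fintype_card, hZ']; omega)
    rw [is_two_pretransitive_iff] at h2
    obtain ⟨⟨_, d, rfl⟩, hd1, hd2⟩ := h2 hxy hxy'
    exact ⟨d, hd1, hd2⟩

end TwoTrans

theorem double_count {X Y : Type*} [Finite X] [Finite Y] (A : Set X) (B : Set Y)
    (E : X → Y → Prop) {m n : ℕ} (h1 : ∀ x ∈ A, {z | z ∈ B ∧ E x z}.ncard = m)
    (h2 : ∀ z ∈ B, {x | x ∈ A ∧ E x z}.ncard = n) : A.ncard * m = B.ncard * n := by
  classical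
  have := Fintype.ofFinite X
  have := Fintype.ofFinite Y
  rw [Set.ncard_eq_toFinset_card' A, Set.ncard_eq_toFinset_card' B]
  apply Finset.card_mul_eq_card_mul E
  · intro x hx
    rw [Set.mem_toFinset] at hx
    rw [← h1 x hx, Set.ncard_eq_toFinset_card']
    congr 1
    ext z
    simp [Finset.mem_bipartiteAbove]
  · intro z hz
    rw [Set.mem_toFinset] at hz
    rw [← h2 z hz, Set.ncard_eq_toFinset_card']
    congr 1
    ext x
    simp [Finset.mem_bipartiteBelow]

/-- The abstract counting argument. -/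
theorem graph_false {G X : Type*} [Group G] [MulAction G X] [Finite X] [IsPreprimitive G X]
    {p a f1 K1 : ℕ} [Fact p.Prime] (hp3 : 3 ≤ p) (ha : a = 1 ∨ a = 2) (E : X → X → Prop)
    (hE : ∀ (g : G) x y, E (g • x) (g • y) ↔ E x y) (β : X) (M : Subgroup G)
    (hMβ : M ≤ stabilizer G β) (hββ : ¬ E β β) (hN : {y | E β y}.ncard = a + p)
    (hR : {y | y ≠ β ∧ ¬ E β y}.ncard = K1) (hK1 : 2 * p ≤ K1) (hpK1 : ¬ p ∣ K1)
    (htrR : ∀ y, y ≠ β → ¬ E β y → ∀ z, z ≠ β → ¬ E β z → ∃ m ∈ M, m • y = z)
    (htrN : ∀ x y, E β x → E β y → x ≠ y → ∀ x' y', E β x' → E β y' → x' ≠ y' →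
      ∃ m ∈ M, m • x = x' ∧ m • y = y')
    {P : Subgroup G} (hP : IsPGroup p P) (hPβ : P ≤ stabilizer G β)
    (hfN : ∀ x, x ∈ fs P X → (fs P X ∩ {y | E x y}).ncard = a)
    (hfR : (fs P X ∩ {y | y ≠ β ∧ ¬ E β y}).ncard = f1) (hf1 : 3 ≤ f1 ∨ a = 1) : False := by
  have hp : p.Prime := Fact.out
  have hNx : ∀ x, {y | E x y}.ncard = a + p := by
    intro x
    obtain ⟨g, rfl⟩ := MulAction.exists_smul_eq G β x
    have : {y | E (g • β) y} = (fun y => g • y) '' {y | E β y} := by
      ext y
      simp only [Set.mem_ofPred_eq, Set.mem_image]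
      constructor
      · intro h
        refine ⟨g⁻¹ • y, ?_, smul_inv_smul _ _⟩
        rw [← hE g, smul_inv_smul]
        exact h
      · rintro ⟨z, hz, rfl⟩
        exact (hE g β z).2 hz
    rw [this, Set.ncard_image_of_injective _ (MulAction.injective g), hN]
  have hSx : ∀ x, {y | E y x}.ncard = {y | E y β}.ncard := by
    intro x
    obtain ⟨g, rfl⟩ := MulAction.exists_smul_eq G β x
    have : {y | E y (g • β)} = (fun y => g • y) '' {y | E y β} := by
      ext y
      simp only [Set.mem_ofPred_eq, Set.mem_image]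
      constructor
      · intro h
        refine ⟨g⁻¹ • y, ?_, smul_inv_smul _ _⟩
        rw [← hE g, smul_inv_smul]
        exact h
      · rintro ⟨z, hz, rfl⟩
        exact (hE g z β).2 hz
    rw [this, Set.ncard_image_of_injective _ (MulAction.injective g)]
  have hXpos : 0 < (Set.univ : Set X).ncard := by
    rw [Set.ncard_pos]
    exact ⟨β, trivial⟩
  -- symmetry
  have hS : {y | E y β}.ncard = a + p := by
    have h := double_count (Set.univ : Set X) (Set.univ : Set X) E (m := a + p)
      (n := {y | E y β}.ncard) (fun x _ => by simpa using hNx x) (fun z _ => by simpa using hSx z)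
    exact (Nat.eq_of_mul_eq_mul_left hXpos h).symm
  have hMsm : ∀ m ∈ M, m • β = β := fun m hm => hMβ hm
  have hSsub : {y | E y β} ⊆ {y | E β y} := by
    intro y hy
    by_contra hcon
    have hyβ : y ≠ β := by
      rintro rfl
      exact hββ hy
    have hsub : {y | y ≠ β ∧ ¬ E β y} ⊆ {y | E y β} := by
      rintro z ⟨hz1, hz2⟩
      obtain ⟨m, hm, rfl⟩ := htrR y hyβ hcon z hz1 hz2
      have h1 := (hE m y β).2 hy
      rw [hMsm m hm] at h1
      exact h1
    have h2 := Set.ncard_le_ncard hsub (Set.toFinite _)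
    rw [hR, hS] at h2
    omega
  have hSeq : {y | E y β} = {y | E β y} :=
    Set.eq_of_subset_of_ncard_le hSsub (by rw [hS, hN]) (Set.toFinite _)
  have hsymβ : ∀ y, E y β ↔ E β y := fun y => by
    have : y ∈ {y | E y β} ↔ y ∈ {y | E β y} := by rw [hSeq]
    exact this
  have hsym : ∀ x y, E x y ↔ E y x := by
    intro x y
    obtain ⟨g, rfl⟩ := MulAction.exists_smul_eq G β x
    have h1 : y = g • (g⁻¹ • y) := (smul_inv_smul _ _).symm
    rw [h1, hE, hE]
    exact (hsymβ _).symm
  have hirr : ∀ x, ¬ E x x := by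
    intro x
    obtain ⟨g, rfl⟩ := MulAction.exists_smul_eq G β x
    rw [hE]
    exact hββ
  have hcardX : Nat.card X = 1 + (a + p) + K1 := by
    have h1 : (Set.univ : Set X) = ({β} ∪ {y | E β y}) ∪ {y | y ≠ β ∧ ¬ E β y} := by
      ext y
      simp only [Set.mem_univ, Set.mem_union, Set.mem_singleton_iff, Set.mem_ofPred_eq, true_iff]
      tauto
    rw [← Set.ncard_univ, h1, Set.ncard_union_eq, Set.ncard_union_eq, Set.ncard_singleton, hN, hR]
    · rw [Set.disjoint_singleton_left]
      exact hββ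
    · rw [Set.disjoint_left]
      rintro y (hy | hy) ⟨h2, h3⟩
      · exact h2 hy
      · exact h3 hy
  -- no triangles
  have hno : ∀ x y, E β x → E β y → ¬ E x y := by
    intro x y hx hy hxy
    have hne : x ≠ y := by
      rintro rfl
      exact hirr x hxy
    have hall : ∀ x' y', E β x' → E β y' → x' ≠ y' → E x' y' := by
      intro x' y' hx' hy' hne'
      obtain ⟨m, hm, rfl, rfl⟩ := htrN x y hx hy hne x' y' hx' hy' hne'
      exact (hE m x y).2 hxy
    have hins : ∀ x, (insert x {y | E x y}).ncard = a + p + 1 := by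
      intro x
      rw [Set.ncard_insert_of_notMem (show x ∉ {y | E x y} from hirr x) (Set.toFinite _), hNx]
    obtain ⟨B, hBdef⟩ : ∃ B : Set X, B = insert β {y | E β y} := ⟨_, rfl⟩
    have hBc : B.ncard = a + p + 1 := by rw [hBdef]; exact hins β
    have hBx : ∀ x ∈ B, insert x {y | E x y} = B := by
      intro x hx
      rw [hBdef] at hx
      rcases hx with hx | hx
      · rw [hx, hBdef]
      · have hsub : B ⊆ insert x {y | E x y} := by
          intro y hy
          rw [hBdef] at hy
          rcases hy with hy | hy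
          · right
            rw [hy]
            exact (hsym _ _).1 hx
          · by_cases hxy' : y = x
            · left; exact hxy'
            · right
              exact hall x y hx hy (Ne.symm hxy')
        exact (Set.eq_of_subset_of_ncard_le hsub (by rw [hins, hBc]) (Set.toFinite _)).symm
    have hblock : IsBlock G B := by
      rw [isBlock_iff_smul_eq_of_nonempty]
      rintro g ⟨z, hz1, hz2⟩
      obtain ⟨x, hx, rfl⟩ := hz1
      have h1 := hBx x hx
      have h2 : insert (g • x) {y | E (g • x) y} = B := hBx _ hz2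
      calc g • B = g • insert x {y | E x y} := by rw [h1]
        _ = insert (g • x) {y | E (g • x) y} := by
          ext w
          rw [Set.mem_smul_set_iff_inv_smul_mem]
          simp only [Set.mem_insert_iff, Set.mem_ofPred_eq]
          rw [inv_smul_eq_iff]
          have h3 := hE g x (g⁻¹ • w)
          rw [smul_inv_smul] at h3
          rw [h3]
        _ = B := h2
    rcases IsPreprimitive.isTrivialBlock_of_isBlock hblock with h1 | h1
    · have h2 := Set.ncard_le_one_iff_subsingleton.2 h1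
      omega
    · rw [h1, Set.ncard_univ, hcardX] at hBc
      omega
  -- the parameter `μ`
  have hR1 : ∀ x, E β x → {z | z ∈ {y | y ≠ β ∧ ¬ E β y} ∧ E x z}.ncard = a + p - 1 := by
    intro x hx
    have : {z | z ∈ {y | y ≠ β ∧ ¬ E β y} ∧ E x z} = {y | E x y} \ {β} := by
      ext z
      simp only [Set.mem_ofPred_eq, Set.mem_diff, Set.mem_singleton_iff]
      constructor
      · rintro ⟨⟨h1, h2⟩, h3⟩
        exact ⟨h3, h1⟩
      · rintro ⟨h1, h2⟩
        exact ⟨⟨h2, fun h => hno x z hx h h1⟩, h1⟩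
    rw [this, Set.ncard_diff_singleton_of_mem (show β ∈ {y | E x y} from (hsym _ _).1 hx), hNx]
  have hRne : {y | y ≠ β ∧ ¬ E β y}.Nonempty := by
    rw [← Set.ncard_pos, hR]
    omega
  obtain ⟨z0, hz01, hz02⟩ := hRne
  set μ := {x | x ∈ {y | E β y} ∧ E x z0}.ncard with hμ
  have hμ' : ∀ z ∈ {y | y ≠ β ∧ ¬ E β y}, {x | x ∈ {y | E β y} ∧ E x z}.ncard = μ := by
    rintro z ⟨hz1, hz2⟩
    obtain ⟨m, hm, rfl⟩ := htrR z0 hz01 hz02 z hz1 hz2
    have : {x | x ∈ {y | E β y} ∧ E x (m • z0)} =
        (fun x => m • x) '' {x | x ∈ {y | E β y} ∧ E x z0} := by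
      ext x
      simp only [Set.mem_ofPred_eq, Set.mem_image]
      constructor
      · rintro ⟨h1, h2⟩
        refine ⟨m⁻¹ • x, ⟨?_, ?_⟩, smul_inv_smul _ _⟩
        · rw [← hE m, smul_inv_smul, hMsm m hm]
          exact h1
        · rw [← hE m, smul_inv_smul]
          exact h2
      · rintro ⟨y, ⟨h1, h2⟩, rfl⟩
        refine ⟨?_, (hE m y z0).2 h2⟩
        have := (hE m β y).2 h1
        rwa [hMsm m hm] at this
    rw [this, Set.ncard_image_of_injective _ (MulAction.injective m)]
  have hcount := double_count {y | E β y} {y | y ≠ β ∧ ¬ E β y} E hR1 hμ'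
  rw [hN, hR] at hcount
  rcases ha with rfl | rfl
  · -- `a = 1`
    have h1 : 1 + p - 1 = p := by omega
    rw [h1] at hcount
    have h2 : p ∣ K1 * μ := ⟨1 + p, by rw [← hcount, mul_comm]⟩
    rcases (Nat.Prime.dvd_mul hp).1 h2 with h3 | ⟨ν, h3⟩
    · exact hpK1 h3
    · rw [h3] at hcount
      have h4 : (1 + p) * p = (K1 * ν) * p := by
        rw [hcount]
        ring
      have h5 := Nat.eq_of_mul_eq_mul_right hp.pos h4
      have h6 : K1 ∣ 1 + p := ⟨ν, h5⟩
      have h7 := Nat.le_of_dvd (by omega) h6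
      omega
  · -- `a = 2`
    have hf3 : 3 ≤ f1 := by omega
    have hβΓ : β ∈ fs P X := hPβ
    obtain ⟨x1, x2, hx12, hx⟩ := Set.ncard_eq_two.1 (hfN β hβΓ)
    have hx1 : x1 ∈ fs P X ∧ E β x1 := by
      have : x1 ∈ fs P X ∩ {y | E β y} := by rw [hx]; simp
      exact this
    have hx2 : x2 ∈ fs P X ∧ E β x2 := by
      have : x2 ∈ fs P X ∩ {y | E β y} := by rw [hx]; simp
      exact this
    have hone : ∀ x, x ∈ fs P X → E β x → ((fs P X ∩ {y | E x y}) \ {β}).ncard = 1 := by
      intro x h1 h2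
      rw [Set.ncard_diff_singleton_of_mem
        (show β ∈ fs P X ∩ {y | E x y} from ⟨hβΓ, (hsym _ _).1 h2⟩), hfN x h1]
    obtain ⟨w1, hw1⟩ := Set.ncard_eq_one.1 (hone x1 hx1.1 hx1.2)
    obtain ⟨w2, hw2⟩ := Set.ncard_eq_one.1 (hone x2 hx2.1 hx2.2)
    have hex : ∃ z ∈ fs P X ∩ {y | y ≠ β ∧ ¬ E β y}, z ≠ w1 ∧ z ≠ w2 := by
      by_contra hcon
      push Not at hcon
      have hsub : fs P X ∩ {y | y ≠ β ∧ ¬ E β y} ⊆ {w1, w2} := by
        intro z hz
        by_cases h1 : z = w1
        · left; exact h1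
        · right
          exact hcon z hz h1
      have h1 := Set.ncard_le_ncard hsub (Set.toFinite _)
      have h2 := Set.ncard_insert_le w1 {w2}
      rw [Set.ncard_singleton] at h2
      omega
    obtain ⟨z, ⟨hz1, hz2⟩, hzw1, hzw2⟩ := hex
    have hC := ncard_modEq hP {x | x ∈ {y | E β y} ∧ E x z} (by
      rintro g hg x ⟨h1, h2⟩
      have hgβ : g • β = β := hPβ hg
      have hgz : g • z = z := hz1 hg
      refine ⟨?_, ?_⟩
      · have := (hE g β x).2 h1
        rwa [hgβ] at this
      · have := (hE g x z).2 h2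
        rwa [hgz] at this)
    have hempty : fs P X ∩ {x | x ∈ {y | E β y} ∧ E x z} = ∅ := by
      rw [Set.eq_empty_iff_forall_notMem]
      rintro x ⟨h1, h2, h3⟩
      have h4 : x ∈ ({x1, x2} : Set X) := by
        rw [← hx]
        exact ⟨h1, h2⟩
      have h5 : z ∈ (fs P X ∩ {y | E x y}) \ {β} := ⟨⟨hz1, h3⟩, hz2.1⟩
      rcases h4 with rfl | h4
      · rw [hw1] at h5
        exact hzw1 h5
      · rw [Set.mem_singleton_iff] at h4
        subst h4
        rw [hw2] at h5
        exact hzw2 h5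
    rw [hempty, Set.ncard_empty, hμ' z hz2] at hC
    obtain ⟨ν, hν⟩ := (Nat.modEq_zero_iff_dvd).1 hC
    rw [hν] at hcount
    have h1 : p ∣ (2 + p) * (2 + p - 1) := ⟨K1 * ν, by rw [hcount]; ring⟩
    rcases (Nat.Prime.dvd_mul hp).1 h1 with h2 | h2
    · have h3 : p ∣ 2 := (Nat.dvd_add_left dvd_rfl).1 h2
      have := Nat.le_of_dvd (by norm_num) h3
      omega
    · have h3 : 2 + p - 1 = 1 + p := by omega
      rw [h3] at h2
      have h4 : p ∣ 1 := (Nat.dvd_add_left dvd_rfl).1 h2
      have := Nat.le_of_dvd (by norm_num) h4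
      omega

end Cfsg.Agent.H401
end

-- part: H401/CaseB
section
/-!
# Case B: a large block orbit
-/

set_option autoImplicit false
open Subgroup MulAction
open scoped Pointwise

namespace Cfsg.Agent.H401

universe u

section

variable {G : Type*} {X : Type u} [Group G] [MulAction G X] {p : ℕ}

theorem orbit_conj (g : G) (H : Subgroup G) (y : X) :
    (orbit (MulAut.conj g • H : Subgroup G) (g • y) : Set X) = (fun x => g • x) '' orbit H y := by
  ext z
  constructor
  · rintro ⟨⟨k, hk⟩, rfl⟩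
    rw [mem_pointwise_smul_iff_inv_smul_mem, ← map_inv, MulAut.smul_def, MulAut.conj_apply] at hk
    refine ⟨(g⁻¹ * k * g) • y, ⟨⟨g⁻¹ * k * g, by simpa using hk⟩, rfl⟩, ?_⟩
    change g • ((g⁻¹ * k * g) • y) = k • (g • y)
    rw [smul_smul, smul_smul]
    congr 1
    group
  · rintro ⟨_, ⟨⟨k, hk⟩, rfl⟩, rfl⟩
    refine ⟨⟨g * k * g⁻¹, ?_⟩, ?_⟩
    · rw [mem_pointwise_smul_iff_inv_smul_mem, ← map_inv, MulAut.smul_def, MulAut.conj_apply]
      simpa [mul_assoc] using hk
    · change (g * k * g⁻¹) • (g • y) = g • (k • y)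
      rw [smul_smul, smul_smul]
      congr 1
      group

/-- orbit sizes of the point stabilizers -/
noncomputable def oc (p : ℕ) (G : Type*) {X : Type*} [Group G] [MulAction G X] (x y : X) : ℕ :=
  (orbit (plus p (stabilizer G x)) y).ncard

theorem oc_smul (g : G) (x y : X) : oc p G (g • x) (g • y) = oc p G x y := by
  unfold oc
  have h : plus p (stabilizer G (g • x)) = MulAut.conj g • plus p (stabilizer G x) := by
    rw [smul_plus, stabilizer_smul']
  rw [h, orbit_conj, Set.ncard_image_of_injective _ (MulAction.injective g)]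

variable [Finite G] [Fact p.Prime]

omit [Fact p.Prime] [Finite G] in
theorem fs_subtype {P : Sylow p G} {M : Subgroup G} (h : (P : Subgroup G) ≤ M) :
    fs ((P.subtype h : Sylow p M) : Subgroup M) X = fs (P : Subgroup G) X := by
  ext x
  rw [mem_fs, mem_fs, Sylow.coe_subtype]
  constructor
  · intro h1 g hg
    exact h1 (show (⟨g, h hg⟩ : M) ∈ (P : Subgroup G).subgroupOf M from hg)
  · intro h1 g hg
    exact h1 hg

end

theorem numericB1 {p : ℕ} (hp : p.Prime) (hp3 : 3 ≤ p) {b a e R : ℕ} (hb : 0 < b)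
    (hae : a + e = p - 1) (hcrit : ¬ AltCrit p a) (hR : b * e ≤ R) (hR2 : R + 2 ≤ p) :
    b = 1 ∧ (a = 1 ∨ a = 2) ∧ (a = 2 → 7 ≤ p) ∧ p < 2 * e + 2 := by
  obtain ⟨h1, h2⟩ := not_altCrit hcrit
  have h7 : p = 3 ∨ p = 5 ∨ 7 ≤ p := by
    rcases Nat.lt_or_ge p 7 with h7 | h7
    · interval_cases p
      · left; rfl
      · exact absurd hp (by norm_num)
      · right; left; rfl
      · exact absurd hp (by norm_num)
    · right; right; exact h7
  have hb1 : b = 1 := by
    by_contra hb1
    have h3 : 2 * e ≤ b * e := Nat.mul_le_mul_right _ (by omega)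
    omega
  subst hb1
  rw [one_mul] at hR
  refine ⟨rfl, ?_, ?_, ?_⟩ <;> omega

variable {G : Type*} {X : Type u} [Group G] [Finite G] [MulAction G X] [Finite X] {p : ℕ}
  [Fact p.Prime]

theorem caseB [IsPreprimitive G X] (hp2 : p ≠ 2) {P : Sylow p G}
    (hPc : Nat.card P = p) {β : X}
    (hP : (P : Subgroup G) ≤ stabilizer G β) {ι : Type u} [Fintype ι] {f l : ℕ}
    (d : Dat p (P.subtype (le_plus hP)) β f l ι) (hc1 : ¬ ∀ i, d.c i = 1) : False := by
  classical
  have hp : p.Prime := Fact.out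
  have hp3 : 3 ≤ p := by
    have := hp.two_le
    omega
  have hMgen : PGen p (plus p (stabilizer G β)) := pGen_plus hP
  have hPc' := card_subtype hPc (le_plus hP)
  push Not at hc1
  obtain ⟨i0, hi0⟩ := hc1
  have hc0 : 2 ≤ d.c i0 := by
    have := d.c_pos i0
    omega
  have he0 := d.e_ge i0 hc0
  have hS : ∑ i, d.b i * d.e i + 3 ≤ 2 * p := by
    have h1 := d.sum_e
    have h2 := d.f_ge'
    omega
  have hsplit := Finset.add_sum_erase Finset.univ (fun i => d.b i * d.e i) (Finset.mem_univ i0)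
  have hb0 : d.b i0 = 1 := by
    by_contra hb
    have hb' := d.b_pos i0
    have h1 : 2 * d.e i0 ≤ d.b i0 * d.e i0 := Nat.mul_le_mul_right _ (by omega)
    omega
  rw [hb0, one_mul] at hsplit
  have hle : ∀ j, j ≠ i0 → d.b j * d.e j ≤ ∑ i ∈ Finset.univ.erase i0, d.b i * d.e i := by
    intro j hj
    exact Finset.single_le_sum (f := fun i => d.b i * d.e i) (fun _ _ => Nat.zero_le _)
      (Finset.mem_erase.2 ⟨hj, Finset.mem_univ j⟩)
  set R := ∑ i ∈ Finset.univ.erase i0, d.b i * d.e i with hRdef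
  have hR : R + d.e i0 + 3 ≤ 2 * p := by omega
  have hc : ∀ j, j ≠ i0 → d.c j = 1 := by
    intro j hj
    by_contra hcj
    have h1 := d.c_pos j
    have h2 := d.e_ge j (by omega)
    have h3 := hle j hj
    have h4 : d.e j ≤ d.b j * d.e j := Nat.le_mul_of_pos_left _ (d.b_pos j)
    omega
  have ha0 := d.he i0
  have hf1 : (p - 1) * (d.c i0 - 2) + 1 ≤ d.a i0 := by
    obtain ⟨k, hk⟩ : ∃ k, d.c i0 = k + 2 := ⟨d.c i0 - 2, by omega⟩
    rw [hk] at ha0 ⊢
    rw [Nat.add_sub_cancel]
    rw [mul_add] at ha0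
    omega
  have hae : ∀ j, j ≠ i0 → d.a j + d.e j = p - 1 := by
    intro j hj
    have := d.he j
    rw [hc j hj, mul_one] at this
    exact this
  have hejle : ∀ j, d.e j ≤ d.b j * d.e j := fun j => Nat.le_mul_of_pos_left _ (d.b_pos j)
  have hUcard : ∀ j, j ≠ i0 → Nat.card (plus p (stabilizer G β) ⧸ d.U j) = d.a j + p := by
    intro j hj
    rw [d.hc j, hc j hj, mul_one]
  by_cases hex : ∃ j, j ≠ i0 ∧ AltCrit p (d.a j)
  · obtain ⟨j, hj, hcrit⟩ := hex
    have hU : IsAltCo (P.subtype (le_plus hP)) (d.U j) (d.a j) :=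
      ⟨d.coatom j, d.ha j, hUcard j hj, (d.bd j).1 (hc j hj), hcrit⟩
    refine hU.false_of_large hp2 hMgen hPc' (d.coatom i0) (d.ha i0) (d.hc i0) hc0 hf1 ?_
    intro hc2
    have h1 := hle j hj
    have h2 := hejle j
    have h3 := hae j hj
    rw [hc2] at ha0
    omega
  · push Not at hex
    -- another orbit
    have hexj : ∃ j, j ≠ i0 := by
      by_contra hcon
      push Not at hcon
      have h1 := d.sum_c
      have h2 : ∑ i, d.b i * d.c i = d.b i0 * d.c i0 := by
        apply Finset.sum_eq_single i0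
        · intro j _ hj
          exact absurd (hcon j) hj
        · intro h
          exact absurd (Finset.mem_univ _) h
      have h3 := d.c_lt i0
      rw [hb0, one_mul] at h2
      omega
    obtain ⟨j0, hj0⟩ := hexj
    have hR2 : R + 2 ≤ p := by omega
    obtain ⟨hbj, haj, haj2, hej⟩ := numericB1 hp hp3 (d.b_pos j0) (hae j0 hj0) (hex j0 hj0)
      (hle j0 hj0) hR2
    have huniq : ∀ i, i = i0 ∨ i = j0 := by
      intro i
      by_contra hcon
      push Not at hcon
      obtain ⟨-, -, -, hei⟩ := numericB1 hp hp3 (d.b_pos i) (hae i hcon.1) (hex i hcon.1)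
        (hle i hcon.1) hR2
      have h1 : d.b j0 * d.e j0 + d.b i * d.e i ≤ R := by
        have h2 := Finset.add_sum_erase (Finset.univ.erase i0) (fun i => d.b i * d.e i)
          (Finset.mem_erase.2 ⟨hj0, Finset.mem_univ j0⟩)
        have h3 : d.b i * d.e i ≤ ∑ i ∈ (Finset.univ.erase i0).erase j0, d.b i * d.e i :=
          Finset.single_le_sum (f := fun i => d.b i * d.e i) (fun _ _ => Nat.zero_le _)
            (Finset.mem_erase.2 ⟨hcon.2, Finset.mem_erase.2 ⟨hcon.1, Finset.mem_univ i⟩⟩)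
        omega
      have h4 := hejle j0
      have h5 := hejle i
      omega
    -- the data for the graph
    have hfsum : f = 1 + (d.a i0 + d.a j0) := by
      have h1 := d.sum_a
      have h2 : ∑ i, d.b i * d.a i = d.a i0 + d.a j0 := by
        rw [← Finset.add_sum_erase Finset.univ (fun i => d.b i * d.a i) (Finset.mem_univ i0),
          ← Finset.add_sum_erase (Finset.univ.erase i0) (fun i => d.b i * d.a i)
            (Finset.mem_erase.2 ⟨hj0, Finset.mem_univ j0⟩)]
        have h3 : (Finset.univ.erase i0).erase j0 = ∅ := by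
          ext i
          simp only [Finset.mem_erase, Finset.mem_univ, and_true, Finset.notMem_empty, iff_false]
          have := huniq i
          tauto
        rw [h3, Finset.sum_empty, add_zero, hb0, hbj, one_mul, one_mul]
      omega
    have hmβ : ∀ m : plus p (stabilizer G β), m • β = β := fun m => plus_le _ m.2
    have hococ : ∀ i, ∀ y ∈ orbit (plus p (stabilizer G β)) (d.δ i),
        oc p G β y = d.b i * (d.a i + p * d.c i) := by
      intro i y hy
      unfold oc
      rw [orbit_eq_iff.2 hy]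
      exact d.card_orbit i
    have hcj := hc j0 hj0
    have hoc0 : oc p G β β = 1 := by
      unfold oc
      have : (orbit (plus p (stabilizer G β)) β : Set X) = {β} := by
        ext y
        constructor
        · rintro ⟨m, rfl⟩
          exact hmβ m
        · rintro rfl
          exact mem_orbit_self _
      rw [this, Set.ncard_singleton]
    have hp2c : p * 2 ≤ p * d.c i0 := Nat.mul_le_mul_left _ hc0
    have hKa : d.b i0 * (d.a i0 + p * d.c i0) = d.a i0 + p * d.c i0 := by rw [hb0, one_mul]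
    have hkj : d.b j0 * (d.a j0 + p * d.c j0) = d.a j0 + p := by rw [hbj, hcj, one_mul, mul_one]
    have hcov : ∀ y, y ≠ β → y ∈ orbit (plus p (stabilizer G β)) (d.δ i0) ∨
        y ∈ orbit (plus p (stabilizer G β)) (d.δ j0) := by
      intro y hy
      obtain ⟨i, hi⟩ := d.cover y hy
      rcases huniq i with rfl | rfl
      · left; exact hi
      · right; exact hi
    have hE0 : ∀ y, oc p G β y = d.a j0 + p ↔
        y ∈ orbit (plus p (stabilizer G β)) (d.δ j0) := by
      intro y
      constructor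
      · intro h
        by_cases hy : y = β
        · rw [hy, hoc0] at h
          omega
        · rcases hcov y hy with h1 | h1
          · rw [hococ i0 y h1, hKa] at h
            omega
          · exact h1
      · intro h
        rw [hococ j0 y h, hkj]
    have hE1 : ∀ y, (y ≠ β ∧ ¬ oc p G β y = d.a j0 + p) ↔
        y ∈ orbit (plus p (stabilizer G β)) (d.δ i0) := by
      intro y
      constructor
      · rintro ⟨h1, h2⟩
        rcases hcov y h1 with h3 | h3
        · exact h3
        · exact absurd ((hE0 y).2 h3) h2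
      · intro h
        have h1 := hococ i0 y h
        rw [hKa] at h1
        refine ⟨?_, ?_⟩
        · rintro rfl
          rw [hoc0] at h1
          omega
        · rw [h1]
          omega
    have hSet0 : {y | oc p G β y = d.a j0 + p} =
        (orbit (plus p (stabilizer G β)) (d.δ j0) : Set X) := by
      ext y
      exact hE0 y
    have hSet1 : {y | y ≠ β ∧ ¬ oc p G β y = d.a j0 + p} =
        (orbit (plus p (stabilizer G β)) (d.δ i0) : Set X) := by
      ext y
      exact hE1 y
    refine graph_false (G := G) (X := X) (p := p) (a := d.a j0) (f1 := d.a i0)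
      (K1 := d.a i0 + p * d.c i0) hp3 haj (fun x y => oc p G x y = d.a j0 + p)
      (fun g x y => by rw [oc_smul]) β (plus p (stabilizer G β)) (plus_le _) ?_ ?_ ?_ ?_ ?_ ?_ ?_
      P.isPGroup' hP ?_ ?_ ?_
    · simp only [hoc0]
      omega
    · rw [hSet0, d.card_orbit j0, hkj]
    · rw [hSet1, d.card_orbit i0, hKa]
    · omega
    · have hne : (fs ((P.subtype (le_plus hP) : Sylow p (plus p (stabilizer G β))) :
          Subgroup (plus p (stabilizer G β))) (plus p (stabilizer G β) ⧸ d.U i0)).Nonempty := by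
        apply Set.nonempty_of_ncard_ne_zero
        rw [d.ha i0]
        omega
      obtain ⟨z, hz⟩ := hne
      have h1 := not_dvd_card_of_fixed _ hz
      rwa [d.hc i0] at h1
    · intro y hy1 hy2 z hz1 hz2
      have h1 := (hE1 y).1 ⟨hy1, hy2⟩
      have h2 := (hE1 z).1 ⟨hz1, hz2⟩
      rw [← orbit_eq_iff] at h1
      rw [← h1] at h2
      obtain ⟨m, hm⟩ := h2
      exact ⟨m, m.2, hm⟩
    · intro x y hx hy hxy x' y' hx' hy' hxy'
      have hst := d.eq_of_b j0 hbj
      rw [hE0] at hx hy hx' hy'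
      obtain ⟨m1, rfl⟩ := hx
      obtain ⟨m2, rfl⟩ := hy
      obtain ⟨m3, rfl⟩ := hx'
      obtain ⟨m4, rfl⟩ := hy'
      have key : ∀ m m' : plus p (stabilizer G β),
          ((m : plus p (stabilizer G β) ⧸ d.U j0) = m' ↔ m • d.δ j0 = m' • d.δ j0) := by
        intro m m'
        rw [QuotientGroup.eq, hst, mem_stabilizer_iff, mul_smul, inv_smul_eq_iff, eq_comm]
      obtain ⟨m, hm1, hm2⟩ := two_trans (Z := plus p (stabilizer G β) ⧸ d.U j0) hp3 hPc' haj
        (d.ha j0) (hUcard j0 hj0) (m1 : plus p (stabilizer G β) ⧸ d.U j0) m2 m3 m4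
        (fun h => hxy ((key _ _).1 h)) (fun h => hxy' ((key _ _).1 h))
      refine ⟨m, m.2, ?_, ?_⟩
      · have h1 : ((m * m1 : plus p (stabilizer G β)) : plus p (stabilizer G β) ⧸ d.U j0) = m3 :=
          hm1
        rw [key, mul_smul] at h1
        exact h1
      · have h1 : ((m * m2 : plus p (stabilizer G β)) : plus p (stabilizer G β) ⧸ d.U j0) = m4 :=
          hm2
        rw [key, mul_smul] at h1
        exact h1
    · -- fixed points in `N x`
      intro x hx
      obtain ⟨g, rfl⟩ := MulAction.exists_smul_eq G β x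
      have hQβ : ((g⁻¹ • P : Sylow p G) : Subgroup G) ≤ stabilizer G β := by
        rw [Sylow.coe_subgroup_smul, map_inv, ← Subgroup.subset_pointwise_smul_iff,
          ← stabilizer_smul']
        exact hx
      have h1 : fs (P : Subgroup G) X ∩ {y | oc p G (g • β) y = d.a j0 + p} =
          (fun y => g • y) '' (fs ((g⁻¹ • P : Sylow p G) : Subgroup G) X ∩
            {y | oc p G β y = d.a j0 + p}) := by
        have hPg : (P : Subgroup G) = MulAut.conj g • ((g⁻¹ • P : Sylow p G) : Subgroup G) := by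
          rw [Sylow.coe_subgroup_smul, map_inv, smul_inv_smul]
        ext y
        simp only [Set.mem_inter_iff, Set.mem_ofPred_eq, Set.mem_image]
        constructor
        · rintro ⟨h1, h2⟩
          refine ⟨g⁻¹ • y, ⟨?_, ?_⟩, smul_inv_smul _ _⟩
          · rw [← fs_smul _ g, smul_inv_smul, ← hPg]
            exact h1
          · rw [← oc_smul g, smul_inv_smul]
            exact h2
        · rintro ⟨z, ⟨h1, h2⟩, rfl⟩
          refine ⟨?_, ?_⟩
          · rw [hPg, fs_smul]
            exact h1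
          · rw [oc_smul]
            exact h2
      rw [h1, Set.ncard_image_of_injective _ (MulAction.injective g), hSet0,
        ← fs_subtype (le_plus hQβ)]
      obtain ⟨m, hm⟩ := MulAction.exists_smul_eq (plus p (stabilizer G β))
        (P.subtype (le_plus hP)) ((g⁻¹ • P : Sylow p G).subtype (le_plus hQβ))
      rw [← hm, Sylow.coe_subgroup_smul, ncard_fs_smul _ _ _ (fun m x hx => mem_orbit_smul m hx),
        d.fix_orbit j0, hbj, one_mul]
    · rw [hSet1, ← fs_subtype (le_plus hP), d.fix_orbit i0, hb0, one_mul]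
    · have h1 := d.f_ge
      rcases haj with h | h
      · right; exact h
      · left
        have := haj2 h
        omega

end Cfsg.Agent.H401
end

-- part: H401/HP
section
/-!
# The bound in the semiregular case
-/

set_option autoImplicit false
open Subgroup MulAction
open scoped Pointwise

namespace Cfsg.Agent.H401

universe u

/-- The bound `f < p t` for coset actions which are semiregular outside the fixed points. -/
def HPs (p : ℕ) {G : Type*} [Group G] (K : Subgroup G) : Prop :=
  ∀ P : Sylow p G, (∀ x : G ⧸ K, x ∉ fs (P : Subgroup G) (G ⧸ K) →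
    (P : Subgroup G) ⊓ stabilizer G x = ⊥) →
    ∀ t, Nat.card (G ⧸ K) = (fs (P : Subgroup G) (G ⧸ K)).ncard + Nat.card P * t →
      (fs (P : Subgroup G) (G ⧸ K)).ncard < p * t

section

variable {M X : Type*} [Group M] [Finite M] [MulAction M X] {p : ℕ}

theorem hp_orbit (y : X) (h : HPs p (stabilizer M y)) (P : Sylow p M)
    (hsr : ∀ x ∈ orbit M y, x ∉ fs (P : Subgroup M) X → (P : Subgroup M) ⊓ stabilizer M x = ⊥)
    {t : ℕ} (ht : (orbit M y).ncard = (fs (P : Subgroup M) X ∩ orbit M y).ncard +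
      Nat.card P * t) : (fs (P : Subgroup M) X ∩ orbit M y).ncard < p * t := by
  rw [← ncard_fs_orbit]
  apply h P
  · intro q hq
    obtain ⟨m, rfl⟩ := QuotientGroup.mk_surjective q
    have hst : stabilizer M (m : M ⧸ stabilizer M y) = stabilizer M (m • y) := by
      rw [stabilizer_smul']
      have : ((m : M) : M ⧸ stabilizer M y) = m • (((1 : M) : M ⧸ stabilizer M y)) := by
        change _ = ((m * 1 : M) : M ⧸ stabilizer M y)
        rw [mul_one]
      rw [this, stabilizer_smul', stabilizer_mk_one]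
    rw [hst]
    apply hsr _ (mem_orbit _ _)
    intro hx
    apply hq
    rw [mem_fs, hst]
    exact hx
  · rw [card_quot_orbit, ncard_fs_orbit, ht]

end

theorem exists_t {G X : Type*} [Group G] [Finite G] [MulAction G X] [Finite X] {p : ℕ}
    (P : Sylow p G) (S : Set X)
    (hS : ∀ m ∈ (P : Subgroup G), ∀ x ∈ S, m • x ∈ S)
    (hsr : ∀ x ∈ S, x ∉ fs (P : Subgroup G) X → (P : Subgroup G) ⊓ stabilizer G x = ⊥) :
    ∃ t, S.ncard = (fs (P : Subgroup G) X ∩ S).ncard + Nat.card P * t := by
  have h1 : Nat.card (P : Subgroup G) ∣ (S \ fs (P : Subgroup G) X).ncard := by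
    apply card_dvd_ncard
    · rintro m hm x ⟨hx1, hx2⟩
      refine ⟨hS m hm x hx1, ?_⟩
      intro h
      apply hx2
      have h2 : m⁻¹ • (m • x) = m • x := h (inv_mem hm)
      rw [inv_smul_smul] at h2
      rw [h2]
      exact h
    · rintro x ⟨hx1, hx2⟩
      exact hsr x hx1 hx2
  obtain ⟨t, ht⟩ := h1
  refine ⟨t, ?_⟩
  rw [Set.inter_comm, ← Set.ncard_inter_add_ncard_sdiff_eq_ncard S (fs (P : Subgroup G) X)
    (Set.toFinite _), ht]

theorem hp_prim {p : ℕ} [Fact p.Prime] {G X : Type u} [Group G] [Finite G]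
    [MulAction G X] [Finite X] [IsPreprimitive G X] [Nontrivial X] (hG : PGen p G)
    {P : Sylow p G}
    (hsr : ∀ x : X, x ∉ fs (P : Subgroup G) X → (P : Subgroup G) ⊓ stabilizer G x = ⊥)
    (IH : ∀ M : Subgroup G, PGen p M → ∀ U : Subgroup M, U ≠ ⊤ →
      Nat.card (M ⧸ U) < Nat.card X → HPs p U)
    {f t : ℕ} (hf : (fs (P : Subgroup G) X).ncard = f) (hX : Nat.card X = f + Nat.card P * t) :
    f < p * t := by
  classical
  have hp : p.Prime := Fact.out
  have hX2 : 1 < Nat.card X := Finite.one_lt_card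
  rcases Nat.eq_zero_or_pos f with hf0 | hf0
  · have : t ≠ 0 := by
      rintro rfl
      rw [mul_zero] at hX
      omega
    rw [hf0]
    exact Nat.mul_pos hp.pos (by omega)
  have hne : (fs (P : Subgroup G) X).Nonempty := by
    apply Set.nonempty_of_ncard_ne_zero
    omega
  obtain ⟨β, hβ⟩ := hne
  have hβ' : (P : Subgroup G) ≤ stabilizer G β := hβ
  have hPpos : 0 < Nat.card P := Nat.card_pos
  -- `p` does not divide `f`
  have hPne : t ≠ 0 → ¬ p ∣ f ∨ Nat.card P = 1 := by
    intro _
    by_cases hP1 : Nat.card P = 1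
    · right; exact hP1
    · left
      have h1 := not_dvd_card_of_fixed P hβ
      intro h2
      apply h1
      rw [hX]
      refine dvd_add h2 (Dvd.dvd.mul_right ?_ _)
      obtain ⟨k, hk⟩ := (IsPGroup.iff_card).1 P.isPGroup'
      rcases k with _ | k
      · exact absurd (by simpa using hk) hP1
      · rw [hk]
        exact dvd_pow_self p (by omega)
  set M := plus p (stabilizer G β) with hM
  obtain ⟨P', hP'⟩ : ∃ P' : Sylow p M, P' = P.subtype (le_plus hβ') := ⟨_, rfl⟩
  have hfs : fs (P' : Subgroup M) X = fs (P : Subgroup G) X := by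
    rw [hP']
    exact fs_subtype (le_plus hβ')
  have hcardP' : Nat.card P' = Nat.card P := by
    rw [hP']
    exact Nat.card_congr (subgroupOfEquivOfLe (le_plus hβ')).toEquiv
  have hMβ : ∀ m : M, m • β = β := fun m => plus_le _ m.2
  obtain ⟨ι, hι, δ, hδ, hcov, hsum⟩ := exists_reps (M := M) β hMβ
  have hsr' : ∀ x : X, x ∉ fs (P' : Subgroup M) X → (P' : Subgroup M) ⊓ stabilizer M x = ⊥ := by
    intro x hx
    rw [hfs] at hx
    have h1 := hsr x hx
    rw [eq_bot_iff]
    intro m hm
    have h2 : (m : G) ∈ (P : Subgroup G) ⊓ stabilizer G x := by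
      refine ⟨?_, hm.2⟩
      have h3 : m ∈ (P' : Subgroup M) := hm.1
      rw [hP', Sylow.coe_subtype, mem_subgroupOf] at h3
      exact h3
    rw [h1, mem_bot] at h2
    rw [mem_bot]
    exact Subtype.ext h2
  have hstab : ∀ x : X, x ≠ β → stabilizer M x ≠ ⊤ := by
    intro x hx hst
    apply hx
    apply eq_of_plus_le hG hβ'
    intro m hm
    have : (⟨m, hm⟩ : M) ∈ stabilizer M x := by
      rw [hst]; trivial
    exact this
  have ht' : ∀ i, ∃ t, (orbit M (δ i)).ncard =
      (fs (P' : Subgroup M) X ∩ orbit M (δ i)).ncard + Nat.card P * t := by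
    intro i
    obtain ⟨t, ht⟩ := exists_t P' (orbit M (δ i)) (fun m _ x hx => mem_orbit_smul m hx)
      (fun x _ hx => hsr' x hx)
    rw [hcardP'] at ht
    exact ⟨t, ht⟩
  choose s hs using ht'
  have hcardsum : Nat.card X = 1 + ∑ i, (orbit M (δ i)).ncard := by
    have := hsum Set.univ trivial
    simpa using this
  have hfsum : f = 1 + ∑ i, (fs (P' : Subgroup M) X ∩ orbit M (δ i)).ncard := by
    rw [← hf, ← hfs]
    apply hsum
    rw [hfs]
    exact hβ
  have hlt : ∀ i, (orbit M (δ i)).ncard < Nat.card X := by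
    intro i
    have h2 : (orbit M (δ i)).ncard ≤ ∑ i, (orbit M (δ i)).ncard :=
      Finset.single_le_sum (f := fun i => (orbit M (δ i)).ncard) (fun _ _ => Nat.zero_le _)
        (Finset.mem_univ i)
    omega
  have hbound : ∀ i, (fs (P' : Subgroup M) X ∩ orbit M (δ i)).ncard + 1 ≤ p * s i := by
    intro i
    have h1 := IH M (pGen_plus hβ') (stabilizer M (δ i)) (hstab _ (hδ i))
      (by rw [card_quot_orbit]; exact hlt i)
    exact hp_orbit (δ i) h1 P' (fun x _ hx => hsr' x hx) (by rw [hcardP']; exact hs i)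
  have hts : t = ∑ i, s i := by
    have h1 : Nat.card P * t = Nat.card P * ∑ i, s i := by
      have h2 : ∑ i, (orbit M (δ i)).ncard =
          ∑ i, (fs (P' : Subgroup M) X ∩ orbit M (δ i)).ncard + Nat.card P * ∑ i, s i := by
        rw [Finset.mul_sum, ← Finset.sum_add_distrib]
        exact Finset.sum_congr rfl fun i _ => hs i
      omega
    exact Nat.eq_of_mul_eq_mul_left hPpos h1
  have hsum2 : ∑ i, (fs (P' : Subgroup M) X ∩ orbit M (δ i)).ncard + Fintype.card ι ≤ p * t := by
    rw [hts, Finset.mul_sum, ← Finset.card_univ, Finset.card_eq_sum_ones,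
      ← Finset.sum_add_distrib]
    exact Finset.sum_le_sum fun i _ => hbound i
  have hιpos : 0 < Fintype.card ι := by
    rw [Fintype.card_pos_iff]
    by_contra hemp
    rw [not_nonempty_iff] at hemp
    rw [Finset.univ_eq_empty, Finset.sum_empty] at hcardsum
    omega
  have hle : f ≤ p * t := by omega
  rcases hle.eq_or_lt with h1 | h1
  · exfalso
    have ht0 : t ≠ 0 := by
      rintro rfl
      omega
    rcases hPne ht0 with h2 | h2
    · exact h2 ⟨t, h1⟩
    · -- `P` is trivial
      have hbot : (P : Subgroup G) = ⊥ := Subgroup.card_eq_one.1 h2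
      have h3 : fs (P : Subgroup G) X = Set.univ := by
        rw [Set.eq_univ_iff_forall]
        intro x
        rw [mem_fs, hbot]
        exact bot_le
      rw [h3, Set.ncard_univ] at hf
      rw [hf, h2, one_mul] at hX
      omega
  · exact h1

theorem hp_main {p : ℕ} [Fact p.Prime] (n : ℕ) :
    ∀ (G : Type u) [Group G] [Finite G] (K : Subgroup G), K ≠ ⊤ → Nat.card (G ⧸ K) = n →
      PGen p G → HPs p K := by
  have hp : p.Prime := Fact.out
  induction n using Nat.strong_induction_on with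
  | _ n IH =>
    intro G _ _ K hK hn hG P hsr t ht
    have hntK : Nontrivial (G ⧸ K) := by
      rw [QuotientGroup.nontrivial_iff]
      exact hK
    obtain ⟨U, hU, hKU⟩ := (eq_top_or_exists_le_coatom K).resolve_left hK
    rcases hKU.eq_or_lt with hEq | hLt
    · subst hEq
      have hprim : IsPreprimitive G (G ⧸ K) := by
        rw [← isCoatom_stabilizer_iff_preprimitive G ((1 : G) : G ⧸ K), stabilizer_mk_one]
        exact hU
      exact hp_prim hG hsr
        (fun M hM V hV hlt => IH _ (by rw [← hn]; exact hlt) M V hV rfl hM) rfl ht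
    · -- imprimitive case
      rcases Nat.eq_zero_or_pos (fs (P : Subgroup G) (G ⧸ K)).ncard with hf0 | hf0
      · have hX2 : 1 < Nat.card (G ⧸ K) := Finite.one_lt_card
        have : t ≠ 0 := by
          rintro rfl
          rw [mul_zero, hf0] at ht
          omega
        rw [hf0]
        exact Nat.mul_pos hp.pos (by omega)
      obtain ⟨β, hβ⟩ := Set.nonempty_of_ncard_ne_zero (by omega : (fs (P : Subgroup G) (G ⧸ K)).ncard ≠ 0)
      have hpn := not_dvd_card_of_fixed P hβ
      let φ : G ⧸ K → G ⧸ U := Subgroup.quotientMapOfLE hKU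
      have hφ : ∀ (g : G) (x : G ⧸ K), φ (g • x) = g • φ x := by
        intro g x
        obtain ⟨y, rfl⟩ := QuotientGroup.mk_surjective x
        rfl
      have hcnt := fun z T => ncard_preimage (Set.univ : Set (G ⧸ K)) (fun _ _ _ => trivial) φ
        (fun m x _ => hφ m x) z T
      simp only [Set.mem_univ, true_and] at hcnt
      have hfibcard : ∀ z, Nat.card (G ⧸ K) = {x | φ x = z}.ncard * Nat.card (G ⧸ U) := by
        intro z
        have := hcnt z Set.univ
        simpa using this
      have hfixφ : ∀ x, x ∈ fs (P : Subgroup G) (G ⧸ K) → φ x ∈ fs (P : Subgroup G) (G ⧸ U) := by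
        intro x hx g hg
        rw [mem_stabilizer_iff, ← hφ]
        congr 1
        exact hx hg
      have hsrU : ∀ z : G ⧸ U, z ∉ fs (P : Subgroup G) (G ⧸ U) →
          (P : Subgroup G) ⊓ stabilizer G z = ⊥ := by
        intro z hz
        by_contra hD
        have hDp : IsPGroup p ((P : Subgroup G) ⊓ stabilizer G z : Subgroup G) :=
          P.isPGroup'.to_le inf_le_left
        have hmod := ncard_modEq (X := G ⧸ K) hDp {x | φ x = z} (by
          rintro m hm x hx
          have h1 : φ x = z := hx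
          change φ (m • x) = z
          rw [hφ, h1]
          exact hm.2)
        have hnz : ¬ p ∣ {x | φ x = z}.ncard := by
          intro h
          apply hpn
          rw [hfibcard z]
          exact Dvd.dvd.mul_right h _
        have hne : (fs ((P : Subgroup G) ⊓ stabilizer G z) (G ⧸ K) ∩ {x | φ x = z}).Nonempty := by
          rw [Set.nonempty_iff_ne_empty]
          intro h
          rw [h, Set.ncard_empty] at hmod
          exact hnz ((Nat.modEq_zero_iff_dvd).1 hmod)
        obtain ⟨x, hx1, hx2⟩ := hne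
        by_cases hxf : x ∈ fs (P : Subgroup G) (G ⧸ K)
        · apply hz
          have h1 : φ x = z := hx2
          rw [← h1]
          exact hfixφ x hxf
        · apply hD
          rw [eq_bot_iff, ← hsr x hxf]
          exact le_inf inf_le_left hx1
      obtain ⟨t', ht'⟩ := exists_t P (Set.univ : Set (G ⧸ U)) (fun _ _ _ _ => trivial)
        (fun x _ hx => hsrU x hx)
      rw [Set.inter_univ, Set.ncard_univ] at ht'
      have hlt : Nat.card (G ⧸ U) < n := by
        rw [← hn]
        have h1 : K.index = K.relIndex U * U.index := (Subgroup.relIndex_mul_index hKU).symm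
        have h2 : Nat.card (G ⧸ K) = K.index := rfl
        have h3 : Nat.card (G ⧸ U) = U.index := rfl
        rw [h2, h3, h1]
        have h4 : K.relIndex U ≠ 0 := relIndex_ne_zero' _ _
        have h5 : K.relIndex U ≠ 1 := by
          intro h
          rw [Subgroup.relIndex_eq_one] at h
          exact absurd hLt (not_lt_of_ge h)
        have h6 : 0 < U.index := Nat.pos_of_ne_zero Subgroup.index_ne_zero_of_finite
        have h7 : 2 * U.index ≤ K.relIndex U * U.index := Nat.mul_le_mul_right _ (by omega)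
        omega
      have hIH := IH _ hlt G U hU.1 rfl hG P hsrU t' ht'
      set b := {x | φ x = ((1 : G) : G ⧸ U)}.ncard with hb
      have hbX := hfibcard ((1 : G) : G ⧸ U)
      rw [← hb] at hbX
      have hbf := hcnt ((1 : G) : G ⧸ U) (fs (P : Subgroup G) (G ⧸ U))
      rw [← hb] at hbf
      have hfle : (fs (P : Subgroup G) (G ⧸ K)).ncard ≤
          b * (fs (P : Subgroup G) (G ⧸ U)).ncard := by
        rw [← hbf]
        apply Set.ncard_le_ncard _ (Set.toFinite _)
        intro x hx
        exact hfixφ x hx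
      have hbpos : 0 < b := by
        rcases Nat.eq_zero_or_pos b with h | h
        · rw [h, zero_mul] at hbX
          have : 0 < Nat.card (G ⧸ K) := Nat.card_pos
          omega
        · exact h
      have hqpos : 0 < Nat.card P := Nat.card_pos
      have htle : b * t' ≤ t := by
        have h1 : Nat.card P * (b * t') ≤ Nat.card P * t := by
          have h2 : (fs (P : Subgroup G) (G ⧸ K)).ncard + Nat.card P * t =
              b * (fs (P : Subgroup G) (G ⧸ U)).ncard + Nat.card P * (b * t') := by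
            rw [← ht, hbX, ht']
            ring
          omega
        exact Nat.le_of_mul_le_mul_left h1 hqpos
      calc (fs (P : Subgroup G) (G ⧸ K)).ncard ≤ b * (fs (P : Subgroup G) (G ⧸ U)).ncard := hfle
        _ < b * (p * t') := Nat.mul_lt_mul_of_pos_left hIH hbpos
        _ = p * (b * t') := by ring
        _ ≤ p * t := Nat.mul_le_mul_left _ htle

end Cfsg.Agent.H401
end

-- part: H401/Local
section
/-!
# The local step
-/

set_option autoImplicit false
open Subgroup MulAction
open scoped Pointwise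

namespace Cfsg.Agent.H401

universe u

/-- The main bound for coset actions. -/
def FS (p : ℕ) {G : Type*} [Group G] (K : Subgroup G) : Prop :=
  ∀ P : Sylow p G, (2 * p - 1) * (fs (P : Subgroup G) (G ⧸ K)).ncard ≤
    (p - 1) * Nat.card (G ⧸ K)

theorem FS.orbit {M X : Type*} [Group M] [MulAction M X] {p : ℕ} {y : X}
    (h : FS p (stabilizer M y)) (P : Sylow p M) :
    (2 * p - 1) * (fs (P : Subgroup M) X ∩ orbit M y).ncard ≤ (p - 1) * (orbit M y).ncard := by
  rw [← ncard_fs_orbit, ← card_quot_orbit]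
  exact h P

/-- Points fixed by all the `p`-subgroups normalizing `R`. -/
def FF (p : ℕ) {G : Type*} [Group G] (R : Subgroup G) (X : Type*) [MulAction G X] : Set X :=
  {x | ∀ T : Subgroup G, IsPGroup p T → T ≤ normalizer (R : Set G) → T ≤ stabilizer G x}

section

variable {G X : Type*} [Group G] [MulAction G X] {p : ℕ}

theorem FF_smul (R : Subgroup G) (g : G) (x : X) (h : g • x ∈ FF p (MulAut.conj g • R) X) :
    x ∈ FF p R X := by
  intro T hT hTR
  have h1 := h (MulAut.conj g • T) (hT.map _) (by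
    intro y hy
    rw [mem_pointwise_smul_iff_inv_smul_mem] at hy
    have h2 := hTR hy
    rw [mem_normalizer_iff_smul] at h2 ⊢
    have h3 : y = g * (g⁻¹ * y * g) * g⁻¹ := by group
    have h4 : (MulAut.conj g)⁻¹ • y = g⁻¹ * y * g := by
      rw [← map_inv, MulAut.smul_def, MulAut.conj_apply, inv_inv]
    rw [h4] at h2
    rw [h3, map_mul, map_mul, mul_smul, mul_smul, map_inv, inv_smul_smul, h2])
  rw [stabilizer_smul', Subgroup.pointwise_smul_le_pointwise_smul_iff] at h1
  exact h1

theorem card_conj (g : G) (V : Subgroup G) :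
    Nat.card (MulAut.conj g • V : Subgroup G) = Nat.card V :=
  (Nat.card_congr (Subgroup.equivSMul (MulAut.conj g) V).toEquiv).symm

end

theorem local_step {p : ℕ} [Fact p.Prime] {G : Type u} {X : Type*} [Group G] [Finite G]
    [MulAction G X] [Finite X] [IsPretransitive G X] [FaithfulSMul G X]
    (IH : ∀ (G' : Type u) [Group G'] [Finite G'], Nat.card G' < Nat.card G → PGen p G' →
      ∀ K : Subgroup G', K ≠ ⊤ → FS p K)
    (P : Sylow p G) {r : ℕ} (hr : 1 < r)
    (hmax : ∀ x : X, x ∉ fs (P : Subgroup G) X →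
      Nat.card ((P : Subgroup G) ⊓ stabilizer G x : Subgroup G) ≤ r)
    (hne : (fs (P : Subgroup G) X).Nonempty) {δ : X} (hδ : δ ∉ fs (P : Subgroup G) X)
    {R : Subgroup G} (hR : R = (P : Subgroup G) ⊓ stabilizer G δ) (hRr : Nat.card R = r) :
    p * (fs (P : Subgroup G) X \ FF p R X).ncard ≤
      (p - 1) * (fs R X \ fs (P : Subgroup G) X).ncard ∧
    (fs (P : Subgroup G) X \ FF p R X).Nonempty := by
  classical
  have hp : p.Prime := Fact.out
  have hRδ : R ≤ stabilizer G δ := by rw [hR]; exact inf_le_right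
  have hRP : R ≤ (P : Subgroup G) := by rw [hR]; exact inf_le_left
  have hRp : IsPGroup p R := P.isPGroup'.to_le hRP
  have hRlt : R < (P : Subgroup G) := by
    refine lt_of_le_of_ne hRP ?_
    intro h
    apply hδ
    rw [mem_fs, ← h]
    exact hRδ
  -- every Sylow subgroup satisfies the maximality
  have hmax' : ∀ Q : Sylow p G, ∀ x : X, x ∉ fs (Q : Subgroup G) X →
      Nat.card ((Q : Subgroup G) ⊓ stabilizer G x : Subgroup G) ≤ r := by
    intro Q x hx
    obtain ⟨k, rfl⟩ := MulAction.exists_smul_eq G P Q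
    rw [Sylow.coe_subgroup_smul] at hx ⊢
    have h1 : k⁻¹ • x ∉ fs (P : Subgroup G) X := by
      intro h
      apply hx
      have := (fs_smul (P : Subgroup G) k (k⁻¹ • x)).2 h
      rwa [smul_inv_smul] at this
    have h2 : MulAut.conj k • (P : Subgroup G) ⊓ stabilizer G x =
        MulAut.conj k • ((P : Subgroup G) ⊓ stabilizer G (k⁻¹ • x)) := by
      rw [smul_inf, ← stabilizer_smul', smul_inv_smul]
    rw [h2, card_conj]
    exact hmax _ h1
  -- the normalizer is proper
  set V : Subgroup G := normalizer (R : Set G) with hV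
  have hVne : V ≠ ⊤ := by
    intro h
    have hRn : R.Normal := normalizer_eq_top_iff.1 h
    have h1 : R ≤ ⊥ := by
      intro g hg
      rw [mem_bot]
      apply FaithfulSMul.eq_of_smul_eq_smul (α := X)
      intro x
      obtain ⟨k, rfl⟩ := MulAction.exists_smul_eq G δ x
      rw [one_smul]
      have h2 : k⁻¹ * g * k ∈ R := by
        have := hRn.conj_mem g hg k⁻¹
        rwa [inv_inv] at this
      have h3 : (k⁻¹ * g * k) • δ = δ := hRδ h2
      rw [mul_smul, mul_smul, inv_smul_eq_iff] at h3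
      exact h3
    rw [le_bot_iff] at h1
    rw [h1, Subgroup.card_bot] at hRr
    omega
  have hVcard : Nat.card V < Nat.card G := by
    have h1 := Subgroup.card_le_card_group V
    rcases h1.eq_or_lt with h2 | h2
    · exact absurd (Subgroup.card_eq_iff_eq_top V |>.1 h2) hVne
    · exact h2
  -- a Sylow subgroup of `V`
  set T0 : Subgroup G := (P : Subgroup G) ⊓ V with hT0
  have hT0card : r < Nat.card T0 := by
    rw [← hRr]
    exact exists_normalizing_gt P.isPGroup' hRlt
  have hT0p : IsPGroup p T0 := P.isPGroup'.to_le inf_le_left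
  have hT0V : T0 ≤ V := inf_le_right
  obtain ⟨S, hS⟩ : ∃ S : Sylow p V, T0.subgroupOf V ≤ S :=
    (hT0p.comap_of_injective V.subtype (subtype_injective V)).exists_le_sylow
  set Sg : Subgroup G := (S : Subgroup V).map V.subtype with hSg
  have hSgp : IsPGroup p Sg := S.isPGroup'.map _
  have hSgV : Sg ≤ V := map_subtype_le _
  have hT0Sg : T0 ≤ Sg := by
    have : (T0.subgroupOf V).map V.subtype = T0 := by
      rw [subgroupOf_map_subtype, inf_eq_left.2 hT0V]
    rw [← this]
    exact map_mono hS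
  obtain ⟨Ps, hPs⟩ := hSgp.exists_le_sylow
  have hcardfs : (fs (Ps : Subgroup G) X).ncard = (fs (P : Subgroup G) X).ncard := by
    obtain ⟨k, rfl⟩ := MulAction.exists_smul_eq G P Ps
    rw [Sylow.coe_subgroup_smul, ncard_fs_smul']
  have hsub1 : fs (Ps : Subgroup G) X ⊆ fs Sg X := fun x hx => hPs.trans hx
  have hsub2 : fs Sg X ⊆ fs (P : Subgroup G) X := by
    intro x hx
    by_contra hxP
    have h1 := hmax x hxP
    have h2 : T0 ≤ (P : Subgroup G) ⊓ stabilizer G x := le_inf inf_le_left (hT0Sg.trans hx)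
    have h3 := Subgroup.card_le_of_le h2
    omega
  have hPsP : fs (Ps : Subgroup G) X = fs (P : Subgroup G) X :=
    Set.eq_of_subset_of_ncard_le (hsub1.trans hsub2) hcardfs.ge (Set.toFinite _)
  have hSgP : fs Sg X = fs (P : Subgroup G) X :=
    subset_antisymm hsub2 (hPsP ▸ hsub1)
  -- the subgroup generated by the Sylow subgroups of `V`
  obtain ⟨W, hW⟩ : ∃ W : Subgroup V, W = plus p (⊤ : Subgroup V) := ⟨_, rfl⟩
  have hWgen : PGen p W := by
    rw [hW]
    exact pGen_plus (P := S) le_top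
  have hSW : ∀ S' : Sylow p V, (S' : Subgroup V) ≤ W := by
    intro S'
    rw [hW]
    exact le_plus le_top
  have hWcard : Nat.card W < Nat.card G :=
    lt_of_le_of_lt (Subgroup.card_le_card_group W) hVcard
  have hfsW : fs ((S.subtype (hSW S) : Sylow p W) : Subgroup W) X = fs (P : Subgroup G) X := by
    rw [fs_subtype (G := V) (hSW S), ← hSgP, hSg, fs_map_subtype]
  have hFF : ∀ x : X, stabilizer W x = ⊤ ↔ x ∈ FF p R X := by
    intro x
    constructor
    · intro h T hT hTV t ht
      obtain ⟨S2, hS2⟩ := (hT.comap_of_injective V.subtype (subtype_injective V)).exists_le_sylow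
      have h1 : (⟨t, hTV ht⟩ : V) ∈ W := hSW S2 (hS2 ht)
      have h2 : (⟨⟨t, hTV ht⟩, h1⟩ : W) ∈ stabilizer W x := by rw [h]; trivial
      exact h2
    · intro h
      rw [eq_top_iff]
      rintro ⟨w, hw⟩ _
      have h1 : W ≤ stabilizer V x := by
        rw [hW, plus_le_iff]
        intro Q _ q hq
        have h2 := h ((Q : Subgroup V).map V.subtype) (Q.isPGroup'.map _) (map_subtype_le _)
          ⟨q, hq, rfl⟩
        exact h2
      exact h1 hw
  -- the sum over the orbits of `W`
  have hVR : ∀ v : V, ∀ x ∈ fs R X, v • x ∈ fs R X := by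
    intro v x hx
    have h1 : MulAut.conj (v : G) • R = R := mem_normalizer_iff_smul.1 v.2
    have h2 := (fs_smul R (v : G) x).2 hx
    rw [h1] at h2
    exact h2
  set Y : Set X := fs R X \ FF p R X with hY
  have hYinv : ∀ w : W, ∀ y ∈ Y, w • y ∈ Y := by
    rintro w y ⟨hy1, hy2⟩
    refine ⟨hVR w y hy1, ?_⟩
    intro h
    apply hy2
    rw [← hFF] at h ⊢
    have h1 : w⁻¹ ∈ stabilizer W (w • y) := by rw [h]; trivial
    rw [mem_stabilizer_iff, inv_smul_smul] at h1
    rw [h1, h]
  have hsum := sum_orbits (M := W) (A := fs ((S.subtype (hSW S) : Sylow p W) : Subgroup W) X)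
    hYinv (c1 := 2 * p - 1) (c2 := p - 1) (by
      rintro y ⟨hy1, hy2⟩
      apply FS.orbit
      apply IH W hWcard hWgen
      intro h
      exact hy2 ((hFF y).1 h))
  rw [hfsW] at hsum
  have hPR : fs (P : Subgroup G) X ⊆ fs R X := fun x hx => hRP.trans hx
  have hFFP : ∀ x, x ∈ FF p R X → x ∈ fs (P : Subgroup G) X := by
    intro x hx
    rw [← hSgP]
    exact hx Sg hSgp hSgV
  have e1 : fs (P : Subgroup G) X ∩ Y = fs (P : Subgroup G) X \ FF p R X := by
    ext x
    simp only [hY, Set.mem_inter_iff, Set.mem_diff]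
    constructor
    · rintro ⟨h1, h2, h3⟩
      exact ⟨h1, h3⟩
    · rintro ⟨h1, h3⟩
      exact ⟨h1, hPR h1, h3⟩
  have e2 : Y = (fs (P : Subgroup G) X \ FF p R X) ∪ (fs R X \ fs (P : Subgroup G) X) := by
    ext x
    simp only [hY, Set.mem_union, Set.mem_diff]
    constructor
    · rintro ⟨h1, h2⟩
      by_cases h3 : x ∈ fs (P : Subgroup G) X
      · left; exact ⟨h3, h2⟩
      · right; exact ⟨h1, h3⟩
    · rintro (⟨h1, h2⟩ | ⟨h1, h2⟩)
      · exact ⟨hPR h1, h2⟩
      · exact ⟨h1, fun h => h2 (hFFP x h)⟩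
  have e3 : Y.ncard = (fs (P : Subgroup G) X \ FF p R X).ncard +
      (fs R X \ fs (P : Subgroup G) X).ncard := by
    rw [e2, Set.ncard_union_eq _ (Set.toFinite _) (Set.toFinite _)]
    rw [Set.disjoint_left]
    rintro x ⟨h1, h2⟩ ⟨h3, h4⟩
    exact h4 h1
  rw [e1, e3] at hsum
  refine ⟨?_, ?_⟩
  · obtain ⟨q, rfl⟩ : ∃ q, p = q + 1 := ⟨p - 1, by have := hp.pos; omega⟩
    have h1 : 2 * (q + 1) - 1 = (q + 1) + q := by omega
    rw [h1, Nat.add_sub_cancel, add_mul, mul_add] at hsum
    rw [Nat.add_sub_cancel]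
    omega
  · -- a point of `Γ` moved by `W`
    obtain ⟨γ, hγ⟩ := hne
    obtain ⟨g, hg⟩ := MulAction.exists_smul_eq G γ δ
    have hPδ : ((g • P : Sylow p G) : Subgroup G) ≤ stabilizer G δ := by
      rw [Sylow.coe_subgroup_smul, ← hg, stabilizer_smul']
      exact Subgroup.pointwise_smul_le_pointwise_smul_iff.2 hγ
    obtain ⟨Q, hQ⟩ : ∃ Q : Sylow p (stabilizer G δ), R.subgroupOf (stabilizer G δ) ≤ Q :=
      (hRp.comap_of_injective (stabilizer G δ).subtype
        (subtype_injective (stabilizer G δ))).exists_le_sylow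
    obtain ⟨Q', hQ'⟩ := exists_sylow_map hPδ Q
    have hRQ' : R ≤ (Q' : Subgroup G) := by
      have : (R.subgroupOf (stabilizer G δ)).map (stabilizer G δ).subtype = R := by
        rw [subgroupOf_map_subtype, inf_eq_left.2 hRδ]
      rw [hQ', ← this]
      exact map_mono hQ
    have hQ'δ : (Q' : Subgroup G) ≤ stabilizer G δ := by
      rw [hQ']
      exact map_subtype_le _
    have hRQlt : R < (Q' : Subgroup G) := by
      refine lt_of_le_of_ne hRQ' ?_
      intro h
      have h1 : Nat.card Q' = Nat.card P := Nat.card_congr (Sylow.equiv Q' P).toEquiv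
      have h2 : Nat.card R = Nat.card (P : Subgroup G) := by rw [h]; exact h1
      exact absurd (Subgroup.eq_of_le_of_card_ge hRP h2.ge) hRlt.ne
    set R2 : Subgroup G := (Q' : Subgroup G) ⊓ V with hR2
    have hR2card : r < Nat.card R2 := by
      rw [← hRr]
      exact exists_normalizing_gt Q'.isPGroup' hRQlt
    have hR2p : IsPGroup p R2 := Q'.isPGroup'.to_le inf_le_left
    obtain ⟨S2, hS2⟩ := (hR2p.comap_of_injective V.subtype (subtype_injective V)).exists_le_sylow
    obtain ⟨w, hw⟩ := MulAction.exists_smul_eq W (S2.subtype (hSW S2)) (S.subtype (hSW S))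
    -- conjugating `R2` into `Sg`
    have hconj : ∀ x ∈ R2, ((w : V) : G) * x * ((w : V) : G)⁻¹ ∈ Sg := by
      intro x hx
      have hxV : x ∈ V := hx.2
      have h1 : (⟨x, hxV⟩ : V) ∈ (S2 : Subgroup V) := hS2 hx
      have h2 : (⟨⟨x, hxV⟩, hSW S2 h1⟩ : W) ∈ ((S2.subtype (hSW S2) : Sylow p W) : Subgroup W) := by
        rw [Sylow.coe_subtype, mem_subgroupOf]
        exact h1
      have h3 : w * ⟨⟨x, hxV⟩, hSW S2 h1⟩ * w⁻¹ ∈
          ((S.subtype (hSW S) : Sylow p W) : Subgroup W) := by
        rw [← hw, Sylow.coe_subgroup_smul, mem_pointwise_smul_iff_inv_smul_mem, ← map_inv,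
          MulAut.smul_def, MulAut.conj_apply, inv_inv]
        have : w⁻¹ * (w * ⟨⟨x, hxV⟩, hSW S2 h1⟩ * w⁻¹) * w = ⟨⟨x, hxV⟩, hSW S2 h1⟩ := by group
        rw [this]
        exact h2
      rw [Sylow.coe_subtype, mem_subgroupOf] at h3
      exact ⟨_, h3, rfl⟩
    have hle1 : MulAut.conj ((w : V) : G) • R2 ≤ Sg := by
      rintro _ ⟨x, hx, rfl⟩
      exact hconj x hx
    have hle2 : MulAut.conj ((w : V) : G) • R2 ≤ stabilizer G (((w : V) : G) • δ) := by
      rw [stabilizer_smul', Subgroup.pointwise_smul_le_pointwise_smul_iff]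
      exact inf_le_left.trans hQ'δ
    refine ⟨((w : V) : G) • δ, ?_, ?_⟩
    · by_contra hx
      rw [← hPsP] at hx
      have h1 := hmax' Ps _ hx
      have h2 := Subgroup.card_le_of_le (le_inf (hle1.trans hPs) hle2)
      rw [card_conj] at h2
      omega
    · intro h
      have h1 : stabilizer W (((w : V) : G) • δ) = ⊤ := (hFF _).2 h
      have h2 : w⁻¹ ∈ stabilizer W (((w : V) : G) • δ) := by rw [h1]; trivial
      have h3 : w⁻¹ • (((w : V) : G) • δ) = δ := inv_smul_smul w δ
      rw [mem_stabilizer_iff, h3] at h2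
      rw [← h2] at h
      exact hδ (hFFP _ h)

end Cfsg.Agent.H401
end

-- part: H401/ThmZ
section
/-!
# Theorem Z: primitive actions with a Sylow subgroup of prime order
-/

set_option autoImplicit false
open Subgroup MulAction
open scoped Pointwise

namespace Cfsg.Agent.H401

universe u

theorem Bd_zero {p l : ℕ} (hp : 0 < p) : Bd p 0 l := by
  refine ⟨fun _ => hp, fun hl => ?_⟩
  rw [Nat.zero_div, Nat.div_pos_iff]
  refine ⟨hp, ?_⟩
  have : (p - 1) * 1 ≤ (p - 1) * (l - 1) := Nat.mul_le_mul_left _ (by omega)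
  omega

theorem card_sylow_eq {G : Type*} [Group G] [Finite G] {p : ℕ} [Fact p.Prime]
    (hG : PGen p G) (hp2G : ¬ p ^ 2 ∣ Nat.card G) {H : Subgroup G} (hH : H ≠ ⊤) (P : Sylow p G) :
    Nat.card P = p := by
  have hp : p.Prime := Fact.out
  obtain ⟨k, hk⟩ := (IsPGroup.iff_card).1 P.isPGroup'
  have hdvd : Nat.card P ∣ Nat.card G := Subgroup.card_subgroup_dvd_card (P : Subgroup G)
  rcases k with _ | _ | k
  · exfalso
    rw [pow_zero] at hk
    have hbot : (P : Subgroup G) = ⊥ := Subgroup.card_eq_one.1 hk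
    have h1 : fs (P : Subgroup G) (G ⧸ H) = Set.univ := by
      rw [Set.eq_univ_iff_forall]
      intro x
      rw [mem_fs, hbot]
      exact bot_le
    have h2 := stabilizer_eq_top hG P h1 ((1 : G) : G ⧸ H)
    rw [stabilizer_mk_one] at h2
    exact hH h2
  · rw [hk]
    simp
  · exfalso
    apply hp2G
    refine dvd_trans ?_ hdvd
    rw [hk]
    exact pow_dvd_pow p (by omega)

/-- The inductive step, for an arbitrary primitive action. -/
theorem thmZ_step {p : ℕ} [Fact p.Prime] (hp2 : p ≠ 2) {G X : Type u} [Group G] [Finite G]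
    [MulAction G X] [Finite X] [IsPreprimitive G X] [Nontrivial X] (hG : PGen p G)
    {P : Sylow p G} (hPc : Nat.card P = p)
    (IH : ∀ M : Subgroup G, PGen p M → ∀ U : Subgroup M, IsCoatom U →
      Nat.card (M ⧸ U) < Nat.card X → ZB p U)
    {f l : ℕ} (hf : (fs (P : Subgroup G) X).ncard = f) (hX : Nat.card X = f + p * l)
    (hl : 1 ≤ l) : Bd p f l := by
  have hp : p.Prime := Fact.out
  have hp3 : 3 ≤ p := by
    have := hp.two_le
    omega
  by_contra hB
  have hne : (fs (P : Subgroup G) X).Nonempty := by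
    apply Set.nonempty_of_ncard_ne_zero
    intro h
    rw [hf] at h
    rw [h] at hB
    exact hB (Bd_zero hp.pos)
  obtain ⟨β, hβ⟩ := hne
  have hβ' : (P : Subgroup G) ≤ stabilizer G β := hβ
  have hfp : ¬ p ∣ f := by
    have h1 := not_dvd_card_of_fixed P hβ
    intro h2
    apply h1
    rw [hX]
    exact dvd_add h2 (dvd_mul_right _ _)
  obtain ⟨ι, hι, ⟨d⟩⟩ := exists_dat (p := p) hp3 (M := plus p (stabilizer G β)) (X := X)
    (pGen_plus hβ') (P.subtype (le_plus hβ')) β (fun m => plus_le _ m.2)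
    (by
      intro x hx hst
      apply hx
      apply eq_of_plus_le hG hβ'
      intro m hm
      have : (⟨m, hm⟩ : plus p (stabilizer G β)) ∈ stabilizer (plus p (stabilizer G β)) x := by
        rw [hst]; trivial
      exact this)
    (fun U hU hlt => IH _ (pGen_plus hβ') U hU hlt)
    (by rw [fs_subtype, hf]) hX hl hfp hB
  by_cases hc1 : ∀ i, d.c i = 1
  · exact caseA hp2 hPc hβ' hf hX d hc1
  · exact caseB hp2 hPc hβ' d hc1

theorem thmZ {p : ℕ} [Fact p.Prime] (hp2 : p ≠ 2) (n : ℕ) :
    ∀ (G : Type u) [Group G] [Finite G] (H : Subgroup G), IsCoatom H → Nat.card (G ⧸ H) = n →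
      PGen p G → ¬ p ^ 2 ∣ Nat.card G → ZB p H := by
  have hp : p.Prime := Fact.out
  induction n using Nat.strong_induction_on with
  | _ n IH =>
    intro G _ _ H hH hn hG hp2G P l hX
    have hPc := card_sylow_eq hG hp2G hH.1 P
    have hl : 1 ≤ l := one_le_of_card hG P (z := ((1 : G) : G ⧸ H))
      (by rw [stabilizer_mk_one]; exact hH.1) hX
    have hnt : Nontrivial (G ⧸ H) := by
      rw [QuotientGroup.nontrivial_iff]
      exact hH.1
    have hprim : IsPreprimitive G (G ⧸ H) := by
      rw [← isCoatom_stabilizer_iff_preprimitive G ((1 : G) : G ⧸ H), stabilizer_mk_one]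
      exact hH
    exact thmZ_step hp2 hG hPc
      (fun M hM U hU hlt => IH _ (by rw [← hn]; exact hlt) M U hU rfl hM
          (fun h => hp2G (h.trans (Subgroup.card_subgroup_dvd_card _)))) rfl hX hl

end Cfsg.Agent.H401
end

-- part: H401/ThmF
section
/-!
# The main theorem on fixed points of Sylow subgroups
-/

set_option autoImplicit false
open Subgroup MulAction
open scoped Pointwise

namespace Cfsg.Agent.H401

universe u

theorem pGen_of_surjective {G G' : Type*} [Group G] [Finite G] [Group G'] {p : ℕ} [Fact p.Prime]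
    (hG : PGen p G) {f : G →* G'} (hf : Function.Surjective f) : PGen p G' := by
  have h : (plus p (⊤ : Subgroup G')).comap f = ⊤ := by
    apply hG.eq_top
    intro Q
    rw [← map_le_iff_le_comap]
    exact le_plus (Q := Q.mapSurjective hf) le_top
  unfold PGen
  rw [eq_top_iff]
  intro x _
  obtain ⟨g, rfl⟩ := hf x
  have : g ∈ (plus p (⊤ : Subgroup G')).comap f := by rw [h]; trivial
  exact this

section

variable {p : ℕ} [Fact p.Prime]

/-- The case of a Sylow subgroup of odd prime order. -/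
theorem fs_odd {G X : Type u} [Group G] [Finite G] [MulAction G X] [Finite X]
    [IsPretransitive G X] [Nontrivial X] (hG : PGen p G) (hp2 : p ≠ 2) (P : Sylow p G)
    (hPc : Nat.card P = p) :
    (2 * p - 1) * (fs (P : Subgroup G) X).ncard ≤ (p - 1) * Nat.card X := by
  have hp : p.Prime := Fact.out
  obtain ⟨x0⟩ : Nonempty X := inferInstance
  have hst : stabilizer G x0 ≠ ⊤ := by
    intro h
    have h1 := index_stabilizer_of_transitive G x0
    rw [h, Subgroup.index_top] at h1
    have h2 : 1 < Nat.card X := Finite.one_lt_card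
    omega
  obtain ⟨U, hU, hxU⟩ := (eq_top_or_exists_le_coatom (stabilizer G x0)).resolve_left hst
  have hp2G : ¬ p ^ 2 ∣ Nat.card G := by
    intro h
    have h1 := P.card_eq_multiplicity
    have h2 : Nat.card P = p ^ 1 := by rw [hPc, pow_one]
    rw [h2] at h1
    have h3 := Nat.pow_right_injective hp.two_le h1
    have h4 := (hp.pow_dvd_iff_le_factorization Nat.card_pos.ne').1 h
    omega
  have hZ := thmZ hp2 _ G U hU rfl hG hp2G
  obtain ⟨b, s, hb, hb1, hb2, -, -⟩ := orbit_count (X := X) P hxU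
  obtain ⟨l, hl⟩ := exists_lc' (X := G ⧸ U) P.isPGroup'
  have hl1 : 1 ≤ l := one_le_of_card hG P (z := ((1 : G) : G ⧸ U))
    (by rw [stabilizer_mk_one]; exact hU.1) hl
  have hle := (hZ P l hl).le hp.pos hl1
  rw [orbit_eq_univ, Set.inter_univ] at hb2
  rw [orbit_eq_univ, Set.ncard_univ] at hb1
  set f := (fs (P : Subgroup G) X).ncard
  set f' := (fs (P : Subgroup G) (G ⧸ U)).ncard
  have hfle : f ≤ b * f' := by omega
  obtain ⟨q, rfl⟩ : ∃ q, p = q + 1 := ⟨p - 1, by have := hp.pos; omega⟩
  have e1 : 2 * (q + 1) - 1 = q + (q + 1) := by omega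
  rw [e1, hb1, hl, Nat.add_sub_cancel]
  rw [Nat.add_sub_cancel] at hle
  calc (q + (q + 1)) * f ≤ (q + (q + 1)) * (b * f') := Nat.mul_le_mul_left _ hfle
    _ = b * (q * f' + (q + 1) * f') := by ring
    _ ≤ b * (q * f' + (q + 1) * (q * l)) := by
      apply Nat.mul_le_mul_left
      apply Nat.add_le_add_left
      exact Nat.mul_le_mul_left _ hle
    _ = q * (b * (f' + (q + 1) * l)) := by ring

/-- The case of a Sylow 2-subgroup of order 2. -/
theorem fs_two {G X : Type*} [Group G] [Finite G] [MulAction G X] [Finite X]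
    [IsPretransitive G X] [Nontrivial X] (hG : PGen 2 G) (P : Sylow 2 G)
    (hPc : Nat.card P = 2) :
    3 * (fs (P : Subgroup G) X).ncard ≤ Nat.card X := by
  rcases (fs (P : Subgroup G) X).eq_empty_or_nonempty with h0 | hne
  · rw [h0, Set.ncard_empty]
    exact Nat.zero_le _
  have hN : normalizer ((P : Subgroup G) : Set G) ≤ centralizer ((P : Subgroup G) : Set G) := by
    intro g hg
    rw [mem_centralizer_iff]
    intro h hh
    -- `g h g⁻¹` is in `P`, of order two
    have h1 : g * h * g⁻¹ ∈ (P : Subgroup G) := (mem_normalizer_iff.1 hg h).1 hh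
    by_cases hh1 : h = 1
    · rw [hh1, one_mul, mul_one]
    · have h2 : g * h * g⁻¹ = h := by
        obtain ⟨y, hy, hyu⟩ := (Nat.card_eq_two_iff' (1 : ↥(P : Subgroup G))).1 hPc
        have e1 := hyu ⟨h, hh⟩ (fun h' => hh1 (congrArg Subtype.val h'))
        have e2 := hyu ⟨g * h * g⁻¹, h1⟩ (fun h' => by
          have h3 : g * h * g⁻¹ = 1 := congrArg Subtype.val h'
          rw [mul_inv_eq_one, mul_eq_left] at h3
          exact hh1 h3)
        exact congrArg Subtype.val (e2.trans e1.symm)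
      rw [mul_inv_eq_iff_eq_mul] at h2
      exact h2.symm
  set K := (MonoidHom.transferSylow P hN).ker with hK
  have hKn : K.Normal := MonoidHom.normal_ker _
  have hKc := MonoidHom.ker_transferSylow_isComplement' P hN
  have hK2 := MonoidHom.not_dvd_card_ker_transferSylow P hN
  obtain ⟨γ, hγ⟩ := hne
  have htr : ∀ x y : X, ∃ k ∈ K, k • x = y := by
    have key : ∀ y : X, ∃ k ∈ K, k • γ = y := by
      intro y
      obtain ⟨g, rfl⟩ := MulAction.exists_smul_eq G γ y
      obtain ⟨⟨⟨k, hk⟩, ⟨s, hs⟩⟩, hks⟩ := hKc.2 g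
      refine ⟨k, hk, ?_⟩
      have h1 : k * s = g := hks
      have h2 : s • γ = γ := hγ hs
      rw [← h1, mul_smul, h2]
    intro x y
    obtain ⟨k, hk, rfl⟩ := key x
    obtain ⟨k', hk', rfl⟩ := key y
    exact ⟨k' * k⁻¹, mul_mem hk' (inv_mem hk), by rw [smul_smul, inv_mul_cancel_right]⟩
  have hdvd := ncard_fs_dvd (X := X) P.isPGroup' hK2
    (by rw [normalizer_eq_top_iff.2 hKn]; exact le_top) htr ⟨γ, hγ⟩
  have hodd := not_dvd_card_of_fixed P hγ
  obtain ⟨m, hm⟩ := hdvd
  have hlt : (fs (P : Subgroup G) X).ncard ≠ Nat.card X := by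
    intro h
    have h1 : fs (P : Subgroup G) X = Set.univ := by
      apply Set.eq_of_subset_of_ncard_le (Set.subset_univ _) _ Set.finite_univ
      rw [Set.ncard_univ, h]
    have h2 := stabilizer_eq_top hG P h1 γ
    have h3 := index_stabilizer_of_transitive G γ
    rw [h2, Subgroup.index_top] at h3
    have h4 : 1 < Nat.card X := Finite.one_lt_card
    omega
  have hpos : 0 < Nat.card X := Nat.card_pos
  have hm3 : 3 ≤ m := by
    by_contra hm3
    have : m = 0 ∨ m = 1 ∨ m = 2 := by omega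
    rcases this with rfl | rfl | rfl
    · omega
    · rw [mul_one] at hm
      exact hlt hm.symm
    · exact hodd ⟨_, by rw [hm, mul_comm]⟩
  rw [hm, mul_comm]
  exact Nat.mul_le_mul_left _ hm3

/-- The semiregular case for large Sylow subgroups. -/
theorem fs_semi {G X : Type u} [Group G] [Finite G] [MulAction G X] [Finite X]
    [IsPretransitive G X] [Nontrivial X] (hG : PGen p G) (P : Sylow p G)
    (hPc : p ^ 2 ≤ Nat.card P)
    (hsr : ∀ x : X, x ∉ fs (P : Subgroup G) X → (P : Subgroup G) ⊓ stabilizer G x = ⊥) :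
    (2 * p - 1) * (fs (P : Subgroup G) X).ncard ≤ (p - 1) * Nat.card X := by
  have hp : p.Prime := Fact.out
  obtain ⟨x0⟩ : Nonempty X := inferInstance
  have hst : stabilizer G x0 ≠ ⊤ := by
    intro h
    have h1 := index_stabilizer_of_transitive G x0
    rw [h, Subgroup.index_top] at h1
    have h2 : 1 < Nat.card X := Finite.one_lt_card
    omega
  obtain ⟨t, ht⟩ := exists_t P (Set.univ : Set X) (fun _ _ _ _ => trivial)
    (fun x _ hx => hsr x hx)
  have hb := hp_orbit x0 (hp_main _ G (stabilizer G x0) hst rfl hG) P (fun x _ hx => hsr x hx)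
    (t := t) (by rw [orbit_eq_univ]; exact ht)
  rw [orbit_eq_univ, Set.inter_univ] at hb
  rw [Set.inter_univ, Set.ncard_univ] at ht
  rw [ht]
  set f := (fs (P : Subgroup G) X).ncard
  obtain ⟨q, rfl⟩ : ∃ q, p = q + 1 := ⟨p - 1, by have := hp.pos; omega⟩
  have hq : 1 ≤ q := by
    have := hp.two_le
    omega
  have e1 : 2 * (q + 1) - 1 = q + (q + 1) := by omega
  rw [e1, Nat.add_sub_cancel]
  calc (q + (q + 1)) * f = q * f + (q + 1) * f := by ring
    _ ≤ q * f + (q + 1) * ((q + 1) * t) :=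
      Nat.add_le_add_left (Nat.mul_le_mul_left _ hb.le) _
    _ = q * f + (q + 1) ^ 2 * t := by ring
    _ ≤ q * f + Nat.card P * t := Nat.add_le_add_left (Nat.mul_le_mul_right _ hPc) _
    _ ≤ q * f + q * (Nat.card P * t) := Nat.add_le_add_left (Nat.le_mul_of_pos_left _ hq) _
    _ = q * (f + Nat.card P * t) := by ring

/-- The normalizer of a Sylow subgroup is transitive on its fixed points. -/
theorem exists_normalizing_smul {G X : Type*} [Group G] [Finite G] [MulAction G X]
    [IsPretransitive G X] (P : Sylow p G) {x y : X} (hx : x ∈ fs (P : Subgroup G) X)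
    (hy : y ∈ fs (P : Subgroup G) X) :
    ∃ g : G, MulAut.conj g • (P : Subgroup G) = P ∧ g • x = y := by
  obtain ⟨k, hk⟩ := MulAction.exists_smul_eq G x y
  have h1 : ((k • P : Sylow p G) : Subgroup G) ≤ stabilizer G y := by
    rw [Sylow.coe_subgroup_smul, ← hk, stabilizer_smul']
    exact Subgroup.pointwise_smul_le_pointwise_smul_iff.2 hx
  have hy' : (P : Subgroup G) ≤ stabilizer G y := hy
  obtain ⟨h, hh⟩ := MulAction.exists_smul_eq (stabilizer G y) ((k • P).subtype h1) (P.subtype hy')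
  refine ⟨(h : G) * k, ?_, ?_⟩
  · have e1 := congrArg (fun Q : Sylow p (stabilizer G y) =>
      (Q : Subgroup (stabilizer G y)).map (stabilizer G y).subtype) hh
    simp only [Sylow.coe_subgroup_smul] at e1
    rw [smul_map_subtype, Sylow.coe_subtype, Sylow.coe_subtype, subgroupOf_map_subtype,
      subgroupOf_map_subtype, inf_eq_left.2 h1, inf_eq_left.2 hy'] at e1
    rw [map_mul, mul_smul]
    rw [Sylow.coe_subgroup_smul] at e1
    exact e1
  · rw [mul_smul, hk]
    exact h.2

/-- The sum over the local contributions. -/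
theorem fs_local {G : Type u} {X : Type*} [Group G] [Finite G]
    [MulAction G X] [Finite X] [IsPretransitive G X] [FaithfulSMul G X]
    (IH : ∀ (G' : Type u) [Group G'] [Finite G'], Nat.card G' < Nat.card G → PGen p G' →
      ∀ K : Subgroup G', K ≠ ⊤ → FS p K)
    (P : Sylow p G) {r : ℕ} (hr : 1 < r)
    (hmax : ∀ x : X, x ∉ fs (P : Subgroup G) X →
      Nat.card ((P : Subgroup G) ⊓ stabilizer G x : Subgroup G) ≤ r)
    {δ : X} (hδ : δ ∉ fs (P : Subgroup G) X)
    (hδr : Nat.card ((P : Subgroup G) ⊓ stabilizer G δ : Subgroup G) = r) :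
    (2 * p - 1) * (fs (P : Subgroup G) X).ncard ≤ (p - 1) * Nat.card X := by
  classical
  have hp : p.Prime := Fact.out
  have := Fintype.ofFinite X
  have := Fintype.ofFinite (Subgroup G)
  rcases (fs (P : Subgroup G) X).eq_empty_or_nonempty with h0 | hne
  · rw [h0, Set.ncard_empty, mul_zero]
    exact Nat.zero_le _
  set Γ := fs (P : Subgroup G) X with hΓ
  let 𝓡 : Finset (Subgroup G) := Finset.univ.filter fun R => ∃ x : X, x ∉ Γ ∧
    R = (P : Subgroup G) ⊓ stabilizer G x ∧ Nat.card R = r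
  have h𝓡 : ∀ R, R ∈ 𝓡 ↔ ∃ x : X, x ∉ Γ ∧ R = (P : Subgroup G) ⊓ stabilizer G x ∧
      Nat.card R = r := by
    intro R
    simp [𝓡]
  have hloc : ∀ R ∈ 𝓡, p * (Γ \ FF p R X).ncard ≤ (p - 1) * (fs R X \ Γ).ncard ∧
      (Γ \ FF p R X).Nonempty := by
    intro R hR
    obtain ⟨x, hx, hRx, hRr⟩ := (h𝓡 R).1 hR
    exact local_step IH P hr hmax hne hx hRx hRr
  -- the fixed points are covered
  have hcov : ∀ γ ∈ Γ, ∃ R ∈ 𝓡, γ ∉ FF p R X := by
    intro γ hγ
    set R := (P : Subgroup G) ⊓ stabilizer G δ with hR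
    have hR𝓡 : R ∈ 𝓡 := (h𝓡 R).2 ⟨δ, hδ, hR, hδr⟩
    obtain ⟨x, hx1, hx2⟩ := (hloc R hR𝓡).2
    obtain ⟨g, hg, hgx⟩ := exists_normalizing_smul P hx1 hγ
    have hgR : MulAut.conj g • R = (P : Subgroup G) ⊓ stabilizer G (g • δ) := by
      rw [hR, smul_inf, hg, stabilizer_smul']
    refine ⟨MulAut.conj g • R, (h𝓡 _).2 ⟨g • δ, ?_, hgR, ?_⟩, ?_⟩
    · intro h
      apply hδ
      have h1 : g • δ ∈ fs (MulAut.conj g • (P : Subgroup G)) X := by
        rw [hg]
        exact h
      exact (fs_smul _ g δ).1 h1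
    · rw [card_conj]
      exact hδr
    · intro h
      apply hx2
      rw [← hgx] at h
      exact FF_smul R g x h
  have h1 : Γ.ncard ≤ ∑ R ∈ 𝓡, (Γ \ FF p R X).ncard := by
    have hsub : Γ.toFinset ⊆ 𝓡.biUnion fun R => (Γ \ FF p R X).toFinset := by
      intro γ hγ
      rw [Set.mem_toFinset] at hγ
      obtain ⟨R, hR, hγR⟩ := hcov γ hγ
      rw [Finset.mem_biUnion]
      exact ⟨R, hR, by rw [Set.mem_toFinset]; exact ⟨hγ, hγR⟩⟩
    rw [Set.ncard_eq_toFinset_card' Γ]
    refine (Finset.card_le_card hsub).trans (Finset.card_biUnion_le.trans (le_of_eq ?_))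
    apply Finset.sum_congr rfl
    intro R _
    rw [Set.ncard_eq_toFinset_card']
  have h2 : ∑ R ∈ 𝓡, (fs R X \ Γ).ncard ≤ Γᶜ.ncard := by
    have hdisj : ∀ R ∈ 𝓡, ∀ x ∈ fs R X \ Γ, (P : Subgroup G) ⊓ stabilizer G x = R := by
      rintro R hR x ⟨hx1, hx2⟩
      obtain ⟨y, hy, hRy, hRr⟩ := (h𝓡 R).1 hR
      have h3 : R ≤ (P : Subgroup G) ⊓ stabilizer G x := by
        refine le_inf ?_ hx1
        rw [hRy]
        exact inf_le_left
      refine (Subgroup.eq_of_le_of_card_ge h3 ?_).symm
      rw [hRr]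
      exact hmax x hx2
    have h3 : ∑ R ∈ 𝓡, (fs R X \ Γ).ncard =
        (𝓡.biUnion fun R => (fs R X \ Γ).toFinset).card := by
      rw [Finset.card_biUnion]
      · apply Finset.sum_congr rfl
        intro R _
        rw [Set.ncard_eq_toFinset_card']
      · intro R hR R' hR' hne'
        rw [Function.onFun, Finset.disjoint_left]
        intro x hx hx'
        rw [Set.mem_toFinset] at hx hx'
        apply hne'
        rw [← hdisj R hR x hx, ← hdisj R' hR' x hx']
    rw [h3, Set.ncard_eq_toFinset_card' Γᶜ]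
    apply Finset.card_le_card
    intro x hx
    rw [Finset.mem_biUnion] at hx
    obtain ⟨R, hR, hx⟩ := hx
    rw [Set.mem_toFinset] at hx ⊢
    exact hx.2
  have h3 : p * Γ.ncard ≤ (p - 1) * Γᶜ.ncard := by
    calc p * Γ.ncard ≤ p * ∑ R ∈ 𝓡, (Γ \ FF p R X).ncard := Nat.mul_le_mul_left _ h1
      _ = ∑ R ∈ 𝓡, p * (Γ \ FF p R X).ncard := Finset.mul_sum _ _ _
      _ ≤ ∑ R ∈ 𝓡, (p - 1) * (fs R X \ Γ).ncard :=
        Finset.sum_le_sum fun R hR => (hloc R hR).1
      _ = (p - 1) * ∑ R ∈ 𝓡, (fs R X \ Γ).ncard := (Finset.mul_sum _ _ _).symm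
      _ ≤ (p - 1) * Γᶜ.ncard := Nat.mul_le_mul_left _ h2
  have h4 := Set.ncard_add_ncard_compl Γ
  rw [← h4]
  obtain ⟨q, rfl⟩ : ∃ q, p = q + 1 := ⟨p - 1, by have := hp.pos; omega⟩
  have e1 : 2 * (q + 1) - 1 = q + (q + 1) := by omega
  rw [e1, Nat.add_sub_cancel]
  rw [Nat.add_sub_cancel] at h3
  rw [add_mul, mul_add]
  omega

/-- The faithful case. -/
theorem fs_faithful {G X : Type u} [Group G] [Finite G]
    [MulAction G X] [Finite X] [IsPretransitive G X] [FaithfulSMul G X] [Nontrivial X]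
    (hG : PGen p G)
    (IH : ∀ (G' : Type u) [Group G'] [Finite G'], Nat.card G' < Nat.card G → PGen p G' →
      ∀ K : Subgroup G', K ≠ ⊤ → FS p K) (P : Sylow p G) :
    (2 * p - 1) * (fs (P : Subgroup G) X).ncard ≤ (p - 1) * Nat.card X := by
  classical
  have hp : p.Prime := Fact.out
  have := Fintype.ofFinite X
  have hne : ∃ δ : X, δ ∉ fs (P : Subgroup G) X := by
    by_contra hcon
    push Not at hcon
    obtain ⟨x⟩ : Nonempty X := inferInstance
    have h2 := stabilizer_eq_top hG P (Set.eq_univ_of_forall hcon) x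
    have h3 := index_stabilizer_of_transitive G x
    rw [h2, Subgroup.index_top] at h3
    have h4 : 1 < Nat.card X := Finite.one_lt_card
    omega
  obtain ⟨δ0, hδ0⟩ := hne
  obtain ⟨δ, hδ, hmax⟩ := Finset.exists_max_image
    (Finset.univ.filter fun x : X => x ∉ fs (P : Subgroup G) X)
    (fun x => Nat.card ((P : Subgroup G) ⊓ stabilizer G x : Subgroup G))
    ⟨δ0, by simpa using hδ0⟩
  simp only [Finset.mem_filter, Finset.mem_univ, true_and] at hδ hmax
  rcases Nat.lt_or_ge 1 (Nat.card ((P : Subgroup G) ⊓ stabilizer G δ : Subgroup G)) with h1 | h1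
  · exact fs_local IH P h1 hmax hδ rfl
  · have hsr : ∀ x : X, x ∉ fs (P : Subgroup G) X → (P : Subgroup G) ⊓ stabilizer G x = ⊥ := by
      intro x hx
      rw [← Subgroup.card_le_one_iff_eq_bot]
      exact (hmax x hx).trans h1
    obtain ⟨k, hk⟩ := (IsPGroup.iff_card).1 P.isPGroup'
    rcases k with _ | _ | k
    · exfalso
      apply hδ
      have hbot : (P : Subgroup G) = ⊥ := Subgroup.card_eq_one.1 (by rw [hk, pow_zero])
      rw [mem_fs, hbot]
      exact bot_le
    · rw [zero_add, pow_one] at hk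
      by_cases hp2 : p = 2
      · subst hp2
        have := fs_two (X := X) hG P hk
        simpa using this
      · exact fs_odd hG hp2 P hk
    · apply fs_semi hG P _ hsr
      rw [hk]
      exact Nat.pow_le_pow_right hp.pos (by omega)

theorem fs_general {G X : Type u} [Group G] [Finite G]
    [MulAction G X] [Finite X] [IsPretransitive G X] [Nontrivial X]
    (hG : PGen p G)
    (IH : ∀ (G' : Type u) [Group G'] [Finite G'], Nat.card G' < Nat.card G → PGen p G' →
      ∀ K : Subgroup G', K ≠ ⊤ → FS p K) (P : Sylow p G) :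
    (2 * p - 1) * (fs (P : Subgroup G) X).ncard ≤ (p - 1) * Nat.card X := by
  by_cases hf : FaithfulSMul G X
  · exact fs_faithful hG IH P
  · -- pass to the permutation group
    have hsurj : Function.Surjective (toPermHom G X).rangeRestrict :=
      MonoidHom.rangeRestrict_surjective _
    have hker : (toPermHom G X).ker ≠ ⊥ := by
      intro h
      apply hf
      constructor
      intro g g' hgg'
      rw [MonoidHom.ker_eq_bot_iff] at h
      apply h
      ext x
      exact hgg' x
    have hcard : Nat.card (toPermHom G X).range < Nat.card G := by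
      rw [← Subgroup.index_ker, ← Subgroup.card_mul_index (toPermHom G X).ker]
      have h1 : 1 < Nat.card (toPermHom G X).ker := by
        rw [Subgroup.one_lt_card_iff_ne_bot]
        exact hker
      have h2 : 0 < (toPermHom G X).ker.index :=
        Nat.pos_of_ne_zero Subgroup.index_ne_zero_of_finite
      exact (Nat.lt_mul_iff_one_lt_left h2).2 h1
    have htr : IsPretransitive (toPermHom G X).range X := by
      constructor
      intro x y
      obtain ⟨d, hd⟩ := MulAction.exists_smul_eq G x y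
      exact ⟨⟨toPermHom G X d, d, rfl⟩, hd⟩
    obtain ⟨x⟩ : Nonempty X := inferInstance
    have hst : stabilizer (toPermHom G X).range x ≠ ⊤ := by
      intro h
      have h1 := index_stabilizer_of_transitive (toPermHom G X).range x
      rw [h, Subgroup.index_top] at h1
      have h2 : 1 < Nat.card X := Finite.one_lt_card
      omega
    have h1 := (IH (toPermHom G X).range hcard (pGen_of_surjective hG hsurj) _ hst).orbit
      (P.mapSurjective hsurj)
    rw [orbit_eq_univ, Set.inter_univ, Set.ncard_univ] at h1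
    have h2 : fs ((P.mapSurjective hsurj : Sylow p (toPermHom G X).range) :
        Subgroup (toPermHom G X).range) X = fs (P : Subgroup G) X := by
      ext y
      rw [mem_fs, mem_fs, Sylow.coe_mapSurjective]
      constructor
      · intro h g hg
        exact h ⟨g, hg, rfl⟩
      · rintro h _ ⟨g, hg, rfl⟩
        exact h hg
    rw [h2] at h1
    exact h1

/-- **Theorem F.** -/
theorem thmF (n : ℕ) : ∀ (G : Type u) [Group G] [Finite G], Nat.card G = n → PGen p G →
    ∀ K : Subgroup G, K ≠ ⊤ → FS p K := by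
  induction n using Nat.strong_induction_on with
  | _ n IH =>
    intro G _ _ hn hG K hK P
    have hnt : Nontrivial (G ⧸ K) := by
      rw [QuotientGroup.nontrivial_iff]
      exact hK
    exact fs_general hG (fun G' _ _ hlt hG' => IH _ (by rw [← hn]; exact hlt) G' rfl hG') P

end

end Cfsg.Agent.H401
end

-- part: H401/Final
section
/-!
# Consequences: numbers of Sylow subgroups and of orbits of Sylow subgroups
-/

set_option autoImplicit false
open Subgroup MulAction
open scoped Pointwise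

namespace Cfsg.Agent.H401

universe u

variable {p : ℕ} [Fact p.Prime]

theorem pGen_of_closure {G : Type*} [Group G] [Finite G]
    (hgen : Subgroup.closure {g : G | ∃ k : ℕ, orderOf g = p ^ k} = ⊤) : PGen p G := by
  have h : Subgroup.closure {g : G | ∃ k : ℕ, orderOf g = p ^ k} ≤ plus p (⊤ : Subgroup G) := by
    rw [closure_le]
    rintro g ⟨k, hk⟩
    obtain ⟨Q, hQ⟩ := (isPGroup_zpowers hk).exists_le_sylow
    exact le_plus (Q := Q) le_top (hQ (mem_zpowers g))
  rw [hgen] at h
  exact eq_top_iff.2 h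

omit [Fact p.Prime] in
theorem card_sylow_le {G : Type*} [Group G] [Finite G] [Fact p.Prime] {H : Subgroup G}
    {P : Sylow p G} (hP : (P : Subgroup G) ≤ H) :
    {Q : Sylow p G | (Q : Subgroup G) ≤ H}.ncard = Nat.card (Sylow p H) := by
  rw [← Nat.card_coe_set_eq]
  refine Nat.card_congr (Equiv.ofBijective (fun Q => Q.1.subtype Q.2) ⟨?_, ?_⟩)
  · rintro ⟨Q, hQ⟩ ⟨Q', hQ'⟩ h
    have h1 : (Q : Subgroup G).subgroupOf H = (Q' : Subgroup G).subgroupOf H := by
      have := congrArg (fun R : Sylow p H => (R : Subgroup H)) h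
      simpa [Sylow.coe_subtype] using this
    have h2 : (Q : Subgroup G) = Q' := by
      have h3 := congrArg (fun R : Subgroup H => R.map H.subtype) h1
      simp only [subgroupOf_map_subtype] at h3
      rwa [inf_eq_left.2 hQ, inf_eq_left.2 hQ'] at h3
    exact Subtype.ext (Sylow.ext h2)
  · intro R
    obtain ⟨Q, hQ⟩ := exists_sylow_map hP R
    have hQH : (Q : Subgroup G) ≤ H := by
      rw [hQ]
      exact map_subtype_le _
    refine ⟨⟨Q, hQH⟩, ?_⟩
    apply Sylow.ext
    rw [Sylow.coe_subtype, hQ]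
    exact comap_map_eq_self_of_injective (subtype_injective H) _

theorem sylow_number {G : Type u} [Group G] [Finite G] (hG : PGen p G) {H : Subgroup G}
    (hH : H ≠ ⊤) {P : Sylow p G} (hP : (P : Subgroup G) ≤ H) :
    (2 * p - 1) * Nat.card (Sylow p ↥H) ≤ (p - 1) * Nat.card (Sylow p G) := by
  classical
  have hF := thmF _ G rfl hG H hH P
  have hcount := double_count (Set.univ : Set (Sylow p G)) (Set.univ : Set (G ⧸ H))
    (fun Q x => (Q : Subgroup G) ≤ stabilizer G x)
    (m := (fs (P : Subgroup G) (G ⧸ H)).ncard) (n := Nat.card (Sylow p ↥H))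
    (by
      intro Q _
      obtain ⟨g, rfl⟩ := MulAction.exists_smul_eq G P Q
      rw [Sylow.coe_subgroup_smul]
      simp only [Set.mem_univ, true_and]
      exact ncard_fs_smul' (X := G ⧸ H) (P : Subgroup G) g)
    (by
      intro x _
      obtain ⟨g, rfl⟩ := QuotientGroup.mk_surjective x
      simp only [Set.mem_univ, true_and]
      rw [← card_sylow_le hP]
      have hst : stabilizer G (g : G ⧸ H) = MulAut.conj g • H := coe_stabilizer H g
      have : {Q : Sylow p G | (Q : Subgroup G) ≤ stabilizer G (g : G ⧸ H)} =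
          (fun Q : Sylow p G => g • Q) '' {Q : Sylow p G | (Q : Subgroup G) ≤ H} := by
        ext Q
        simp only [Set.mem_ofPred_eq, Set.mem_image]
        constructor
        · intro hQ
          refine ⟨g⁻¹ • Q, ?_, smul_inv_smul _ _⟩
          rw [Sylow.coe_subgroup_smul, map_inv, ← Subgroup.subset_pointwise_smul_iff, ← hst]
          exact hQ
        · rintro ⟨R, hR, rfl⟩
          rw [hst, Sylow.coe_subgroup_smul, Subgroup.pointwise_smul_le_pointwise_smul_iff]
          exact hR
      rw [this, Set.ncard_image_of_injective _ (MulAction.injective g)])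
  rw [Set.ncard_univ, Set.ncard_univ] at hcount
  have hn : 0 < Nat.card (G ⧸ H) := Nat.card_pos
  apply Nat.le_of_mul_le_mul_left _ hn
  calc Nat.card (G ⧸ H) * ((2 * p - 1) * Nat.card (Sylow p ↥H))
      = (2 * p - 1) * (Nat.card (G ⧸ H) * Nat.card (Sylow p ↥H)) := by ring
    _ = (2 * p - 1) * (Nat.card (Sylow p G) * (fs (P : Subgroup G) (G ⧸ H)).ncard) := by
      rw [hcount]
    _ = Nat.card (Sylow p G) * ((2 * p - 1) * (fs (P : Subgroup G) (G ⧸ H)).ncard) := by ring
    _ ≤ Nat.card (Sylow p G) * ((p - 1) * Nat.card (G ⧸ H)) := Nat.mul_le_mul_left _ hF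
    _ = Nat.card (G ⧸ H) * ((p - 1) * Nat.card (Sylow p G)) := by ring

/-- The fixed points of a Sylow subgroup of a faithful transitive group. -/
theorem fixed_points {G : Type u} {Ω : Type*} [Group G] [Finite G] [MulAction G Ω]
    [FaithfulSMul G Ω] [Finite Ω] [IsPretransitive G Ω] (hpG : p ∣ Nat.card G) (P : Sylow p G) :
    (2 * p - 1) * (fs (P : Subgroup G) Ω).ncard ≤ (p - 1) * Nat.card Ω := by
  classical
  have hp : p.Prime := Fact.out
  obtain ⟨K, hK⟩ : ∃ K : Subgroup G, K = plus p (⊤ : Subgroup G) := ⟨_, rfl⟩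
  have hPK : (P : Subgroup G) ≤ K := by
    rw [hK]
    exact le_plus le_top
  have hKgen : PGen p K := by
    rw [hK]
    exact pGen_plus (P := P) le_top
  have hst : ∀ ω : Ω, stabilizer K ω ≠ ⊤ := by
    intro ω h
    have hKn : K.Normal := by
      rw [← normalizer_eq_top_iff, eq_top_iff, hK]
      exact le_normalizer_plus ⊤
    have hPbot : (P : Subgroup G) ≤ ⊥ := by
      intro g hg
      rw [mem_bot]
      apply FaithfulSMul.eq_of_smul_eq_smul (α := Ω)
      intro x
      obtain ⟨k, rfl⟩ := MulAction.exists_smul_eq G ω x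
      rw [one_smul]
      have h2 : k⁻¹ * g * k ∈ K := by
        have := hKn.conj_mem g (hPK hg) k⁻¹
        rwa [inv_inv] at this
      have h3 : (⟨k⁻¹ * g * k, h2⟩ : K) ∈ stabilizer K ω := by rw [h]; trivial
      have h4 : (k⁻¹ * g * k) • ω = ω := h3
      rw [mul_smul, mul_smul, inv_smul_eq_iff] at h4
      exact h4
    have h5 := P.card_eq_multiplicity
    have h6 : Nat.card (P : Subgroup G) = 1 := by
      rw [le_bot_iff.1 hPbot, Subgroup.card_bot]
    have h7 : 1 ≤ (Nat.card G).factorization p :=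
      (hp.dvd_iff_one_le_factorization Nat.card_pos.ne').1 hpG
    have h8 : Nat.card P = 1 := h6
    rw [h8] at h5
    have h9 : p ^ 1 ≤ p ^ (Nat.card G).factorization p := Nat.pow_le_pow_right hp.pos h7
    rw [← h5, pow_one] at h9
    have := hp.one_lt
    omega
  have hsum := sum_orbits (M := K) (X := Ω)
    (A := fs ((P.subtype hPK : Sylow p K) : Subgroup K) Ω) (Y := Set.univ)
    (fun _ _ _ => trivial) (c1 := 2 * p - 1) (c2 := p - 1) (by
      intro y _
      exact (thmF _ K rfl hKgen _ (hst y)).orbit _)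
  rw [Set.inter_univ, Set.ncard_univ, fs_subtype hPK] at hsum
  exact hsum

omit [Fact p.Prime] in
/-- The number of orbits of a `p`-group. -/
theorem card_orbits_le [Fact p.Prime] {G Ω : Type*} [Group G] [Finite G] [MulAction G Ω]
    [Finite Ω] {P : Subgroup G} (hP : IsPGroup p P) :
    p * Nat.card (orbitRel.Quotient P Ω) ≤ (p - 1) * (fs P Ω).ncard + Nat.card Ω := by
  classical
  have hp : p.Prime := Fact.out
  have : Fintype (orbitRel.Quotient P Ω) := Fintype.ofFinite _
  have h1 := ncard_eq_sum (fun x => (Quotient.mk _ x : orbitRel.Quotient P Ω)) (fs P Ω)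
  have h2 := ncard_eq_sum (fun x => (Quotient.mk _ x : orbitRel.Quotient P Ω)) (Set.univ : Set Ω)
  rw [Set.ncard_univ] at h2
  rw [h1, h2, Finset.mul_sum, ← Finset.sum_add_distrib, Nat.card_eq_fintype_card,
    ← Finset.card_univ, mul_comm, Finset.card_eq_sum_ones, Finset.sum_mul]
  apply Finset.sum_le_sum
  intro ω _
  rw [one_mul, Set.univ_inter]
  induction ω using Quotient.inductionOn with
  | h y =>
    have hfib : {x : Ω | (Quotient.mk _ x : orbitRel.Quotient P Ω) = Quotient.mk _ y} =
        orbit P y := by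
      ext x
      simp only [Set.mem_ofPred_eq]
      rw [Quotient.eq]
      exact orbitRel_apply
    rw [hfib]
    have hinv : ∀ m ∈ P, ∀ x ∈ (orbit P y : Set Ω), m • x ∈ orbit P y := by
      rintro m hm _ ⟨g, rfl⟩
      exact ⟨⟨m, hm⟩ * g, by simp [mul_smul]⟩
    obtain ⟨l, hl⟩ := exists_lc hP (orbit P y : Set Ω) hinv
    have hpos : 0 < (orbit P y : Set Ω).ncard := by
      rw [Set.ncard_pos]
      exact ⟨y, mem_orbit_self y⟩
    rcases Nat.eq_zero_or_pos l with h0 | h0
    · rw [h0, mul_zero, add_zero] at hl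
      rw [← hl]
      have h3 : (p - 1) * 1 ≤ (p - 1) * (orbit P y : Set Ω).ncard := Nat.mul_le_mul_left _ hpos
      omega
    · have h3 : p * 1 ≤ p * l := Nat.mul_le_mul_left _ h0
      omega

theorem orbit_bound {G : Type u} {Ω : Type*} [Group G] [Finite G] [MulAction G Ω]
    [FaithfulSMul G Ω] [Finite Ω] [IsPretransitive G Ω] (hpG : p ∣ Nat.card G) (P : Sylow p G) :
    (2 * p - 1) * Nat.card (orbitRel.Quotient ↥(P : Subgroup G) Ω) ≤ p * Nat.card Ω := by
  have hp : p.Prime := Fact.out
  have h1 := fixed_points (Ω := Ω) hpG P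
  have h2 := card_orbits_le (Ω := Ω) P.isPGroup'
  set f := (fs (P : Subgroup G) Ω).ncard
  set n := Nat.card Ω
  set o := Nat.card (orbitRel.Quotient ↥(P : Subgroup G) Ω)
  obtain ⟨q, rfl⟩ : ∃ q, p = q + 1 := ⟨p - 1, by have := hp.pos; omega⟩
  have e1 : 2 * (q + 1) - 1 = 2 * q + 1 := by omega
  rw [e1, Nat.add_sub_cancel] at h1
  rw [Nat.add_sub_cancel] at h2
  rw [e1]
  apply Nat.le_of_mul_le_mul_left _ (Nat.succ_pos q)
  calc (q + 1) * ((2 * q + 1) * o) = (2 * q + 1) * ((q + 1) * o) := by ring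
    _ ≤ (2 * q + 1) * (q * f + n) := Nat.mul_le_mul_left _ h2
    _ = q * ((2 * q + 1) * f) + (2 * q + 1) * n := by ring
    _ ≤ q * (q * n) + (2 * q + 1) * n := Nat.add_le_add_right (Nat.mul_le_mul_left _ h1) _
    _ = (q + 1) * ((q + 1) * n) := by ring

end Cfsg.Agent.H401
end
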