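import Mathlib
import Cfsg.Agent.H952.F4.Scott_m3
import Cfsg.Agent.Lib.PermCode
import Cfsg.Agent.Lib.AltCarmichael
import Cfsg.Agent.H83.Count
import Cfsg.Agent.H83.RedESix
import Cfsg.Agent.H944.E6TwC
import Cfsg.Agent.H944.E6Tab
import Cfsg.Agent.H16.E6.Cov
import Cfsg.Agent.H944.E6TwE_m3
import Cfsg.Agent.FastGrp
import Cfsg.Agent.Prune
set_option linter.all false

section
prune_inst 0x7f00000000000000000000000000000000000000000000000000000000000000000000000000000000000000000000000000000000000000000000000000000000000000000000000000000000000000003fffffffffffffffffffffffffffbeffbdffffffff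

section
prune_inst 0xffadffbbfcf9dfffff7e7fae9edffdfdbbbfffe6fff9cbffe065ff2b9ffb80cfc5fbaf8fea10fe1ff7e21410f87b53fbffffffea6bf87ffffd1ff41ffbffdffdf7b508519d98b41fbc2ffe83f0778e7f000000000000000000000000000000004200000000

-- part: H401/E6Grp
section
set_option linter.all false
open scoped Cfsg.Agent.FastGrp

/-!
# S5927: the elements of `A₆` used for `n = 6`, `p = 3` (helper401)
-/

set_option autoImplicit false
set_option linter.unusedVariables false
set_option maxRecDepth 10000

namespace Cfsg.Agent.H401.E6Three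

open Equiv Equiv.Perm
open Cfsg.Agent.H952.F4 (v0 v1 c3 z5)

/-- the permutation of `Fin 6` fixing 5 -/
def ext5 (σ : Perm (Fin 5)) : Perm (Fin 6) where
  toFun i := if h : i.val < 5 then Fin.castSucc (σ ⟨i.val, h⟩) else i
  invFun i := if h : i.val < 5 then Fin.castSucc (σ⁻¹ ⟨i.val, h⟩) else i
  left_inv i := by
    by_cases h : i.val < 5
    · simp [h]
    · simp [h]
  right_inv i := by
    by_cases h : i.val < 5
    · simp [h]
    · simp [h]

theorem ext5_apply (σ : Perm (Fin 5)) (i : Fin 6) :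
    ext5 σ i = if h : i.val < 5 then Fin.castSucc (σ ⟨i.val, h⟩) else i := rfl

theorem ext5_mul (σ τ : Perm (Fin 5)) : ext5 (σ * τ) = ext5 σ * ext5 τ := by
  ext i
  rw [Perm.mul_apply, ext5_apply, ext5_apply, ext5_apply]
  by_cases h : i.val < 5
  · simp [h]
  · simp [h]

theorem ext5_one : ext5 1 = 1 := by
  ext i
  rw [ext5_apply]
  by_cases h : i.val < 5
  · simp [h]
  · simp [h]

/-- the homomorphism -/
def ext5Hom : Perm (Fin 5) →* Perm (Fin 6) where
  toFun := ext5
  map_one' := ext5_one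
  map_mul' := ext5_mul

theorem sign_ext5 (σ : Perm (Fin 5)) : sign (ext5 σ) = sign σ := by
  have h : (sign : Perm (Fin 6) →* ℤˣ).comp ext5Hom = sign := by
    apply MonoidHom.eq_of_eqOn_dense (s := {σ : Perm (Fin 5) | σ.IsSwap}) Equiv.Perm.closure_isSwap
    rintro _ ⟨x, y, hxy, rfl⟩
    rw [sign_swap hxy]
    show sign (ext5 (swap x y)) = -1
    have e : ext5 (swap x y) = swap (Fin.castSucc x) (Fin.castSucc y) := by
      revert x y; decide
    rw [e, sign_swap (fun h => hxy (Fin.castSucc_injective _ h))]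
  exact DFunLike.congr_fun h σ

/-- the embedding of `A₅` as the stabilizer of the last point -/
def iota : ↥(alternatingGroup (Fin 5)) →* ↥(alternatingGroup (Fin 6)) where
  toFun σ := ⟨ext5 σ, by rw [mem_alternatingGroup, sign_ext5]; exact mem_alternatingGroup.1 σ.2⟩
  map_one' := Subtype.ext ext5_one
  map_mul' σ τ := Subtype.ext (ext5_mul _ _)

theorem iota_coe (σ : ↥(alternatingGroup (Fin 5))) : ((iota σ : ↥(alternatingGroup (Fin 6))) : Perm (Fin 6)) = ext5 σ := rfl

/-- `(0 2 1 3)(4 5)` -/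
def c6 : ↥(alternatingGroup (Fin 6)) := ⟨swap 0 2 * swap 2 1 * swap 1 3 * swap 4 5, by
  rw [Equiv.Perm.mem_alternatingGroup]; decide⟩

theorem c6_sq : c6 * c6 = iota v0 := by decide +kernel
theorem c6_four : c6 * c6 * (c6 * c6) = 1 := by decide +kernel
theorem v1_sq : iota v1 * iota v1 = 1 := by decide +kernel
theorem v1_c6 : iota v1 * c6 * iota v1 = c6⁻¹ := by decide +kernel
theorem c6_c3 : c6 * iota c3 = iota c3 * iota c3 * (c6 * (c6 * c6)) := by decide +kernel
theorem c6_c3' : c6 * (iota c3 * iota c3) = iota c3 * (c6 * iota v1) := by decide +kernel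

set_option maxRecDepth 100000 in
theorem cj2 : ∀ g : ↥(alternatingGroup (Fin 6)), g * g = 1 → g ≠ 1 → ∃ h, h * iota v0 * h⁻¹ = g := by
  simp only [↓Cfsg.Agent.PermCode.M, Cfsg.Agent.PermCode.P6.R, Cfsg.Agent.PermCode.B]
  decide +kernel

set_option maxRecDepth 100000 in
theorem cj4 : ∀ g : ↥(alternatingGroup (Fin 6)), g * g * (g * g) = 1 → g * g ≠ 1 → ∃ h, h * c6 * h⁻¹ = g := by
  simp only [↓Cfsg.Agent.PermCode.M, Cfsg.Agent.PermCode.P6.R, Cfsg.Agent.PermCode.B]
  decide +kernel

set_option maxRecDepth 100000 in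
theorem cj5 : ∀ g : ↥(alternatingGroup (Fin 6)), g * g * (g * g) * g = 1 → g ≠ 1 →
    ∃ h, h * iota z5 * h⁻¹ = g ∨ h * (iota z5 * iota z5) * h⁻¹ = g := by
  simp only [↓Cfsg.Agent.PermCode.M, Cfsg.Agent.PermCode.P6.R, Cfsg.Agent.PermCode.B]
  decide +kernel

/-- `z5` and `c6` generate `A₆` -/
theorem closure_six : Subgroup.closure {iota z5, c6} = ⊤ := by
  have hx : Equiv.Perm.sign (iota z5 : Equiv.Perm (Fin 6)) = 1 := Equiv.Perm.mem_alternatingGroup.1 (iota z5).2
  have hy : Equiv.Perm.sign (c6 : Equiv.Perm (Fin 6)) = 1 := Equiv.Perm.mem_alternatingGroup.1 c6.2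
  rw [eq_top_iff]
  intro σ _
  have h1 : (σ : Equiv.Perm (Fin 6)) ∈ Subgroup.closure {(iota z5 : Equiv.Perm (Fin 6)), (c6 : Equiv.Perm (Fin 6))} := by
    refine H952.F4.Gen.mem_of_star (n := 4) _ ?_ ?_ σ.2
    · rw [Subgroup.closure_le]
      rintro z (rfl | rfl)
      · exact (iota z5).2
      · exact c6.2
    · intro k hk
      have hW : ∀ k : Fin 6, k ≠ 0 → H952.F4.Gen.ev (iota z5 : Equiv.Perm (Fin 6)) (c6 : Equiv.Perm (Fin 6))
          ((![[], [], [2, 1, 2, 1, 1, 2, 0], [0, 2, 0, 0, 2, 1, 3], [0, 2, 0, 2, 0, 0, 3],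
            [0, 0, 2, 1, 1, 3, 0, 0]] : Fin 6 → List (Fin 4)) k) =
            Equiv.swap 0 1 * Equiv.swap 0 k := by decide +kernel
      rw [← hW k hk]
      exact H952.F4.Gen.ev_mem (Subgroup.subset_closure (by simp)) (Subgroup.subset_closure (by simp)) _
  have h2 : (Subgroup.closure {iota z5, c6}).map (alternatingGroup (Fin 6)).subtype =
      Subgroup.closure {(iota z5 : Equiv.Perm (Fin 6)), (c6 : Equiv.Perm (Fin 6))} := by
    rw [MonoidHom.map_closure, Set.image_pair]
    rfl
  rw [← h2] at h1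
  obtain ⟨τ, hτ, h3⟩ := h1
  rwa [← Subtype.ext h3]

/-- the `(2, 4, 5)`-generation -/
theorem closure_245 : Subgroup.closure {iota (z5 * v0), c6} = ⊤ := by
  rw [eq_top_iff, ← closure_six, Subgroup.closure_le]
  have h1 : c6 ∈ Subgroup.closure {iota (z5 * v0), c6} := Subgroup.subset_closure (by simp)
  have h2 : iota (z5 * v0) ∈ Subgroup.closure {iota (z5 * v0), c6} := Subgroup.subset_closure (by simp)
  rintro z (rfl | rfl)
  · have h3 : iota z5 = iota (z5 * v0) * (c6 * c6) := by decide +kernel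
    rw [h3]
    exact Subgroup.mul_mem _ h2 (Subgroup.mul_mem _ h1 h1)
  · exact h1

theorem x_sq : iota (z5 * v0) * iota (z5 * v0) = 1 := by decide +kernel
theorem x_ne : iota (z5 * v0) ≠ 1 := by decide +kernel
theorem xy_five : (iota (z5 * v0) * c6) ^ 5 = 1 := by decide +kernel
theorem xy_ne : iota (z5 * v0) * c6 ≠ 1 := by decide +kernel
theorem c6_ne : c6 * c6 ≠ 1 := by decide +kernel

end Cfsg.Agent.H401.E6Three
end

-- part: H931/E6/Cross
section
prune_inst 0x5200440306200000018001402000024400001000043000008a00c00004122022040060106a00400008a90400000000000000010406000000e00000000020000002912062050a000000010000084000000000000000000000000000000000000000000000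
set_option linter.all false
open scoped Cfsg.Agent.FastGrp

/-!
# Pairs of cubic spaces with an action of `A₇` (helper931)

`Cub K V W` : two spaces with symmetric crosses `V × V → W`, `W × W → V` and `(x × x) × (x × x) = N(x) x`.
`Seven ρ v` : seven vectors with sum `0` permuted by `A₇`.
If `(v_a - v_c) × (v_b - v_d) = 0` for distinct `a, b, c, d` (and the same in `W`), then `V` or `W` contains seven
vectors, permuted by `A₇`, not all zero, with all crosses zero.
-/

set_option autoImplicit false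

namespace Cfsg.Agent.H931.E6

open Equiv Equiv.Perm

/-- Two spaces with crosses. -/
structure Cub (K V W : Type*) [Field K] [AddCommGroup V] [Module K V] [AddCommGroup W] [Module K W] where
  cr : V →ₗ[K] V →ₗ[K] W
  cr' : W →ₗ[K] W →ₗ[K] V
  symm : ∀ x y, cr x y = cr y x
  symm' : ∀ x y, cr' x y = cr' y x
  N : V → K
  N' : W → K
  four : ∀ x, cr' (cr x x) (cr x x) = N x • x
  four' : ∀ y, cr (cr' y y) (cr' y y) = N' y • y

variable {K V W : Type*} [Field K] [AddCommGroup V] [Module K V] [AddCommGroup W] [Module K W]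

/-- The same with `V` and `W` exchanged. -/
def Cub.swap (C : Cub K V W) : Cub K W V where
  cr := C.cr'
  cr' := C.cr
  symm := C.symm'
  symm' := C.symm
  N := C.N'
  N' := C.N
  four := C.four'
  four' := C.four

/-- The alternating group of degree seven. -/
abbrev T7 := ↥(alternatingGroup (Fin 7))

/-- A compatible action. -/
structure Act (C : Cub K V W) (ρ : Representation K T7 V) (ρ' : Representation K T7 W) : Prop where
  cr : ∀ g x y, C.cr (ρ g x) (ρ g y) = ρ' g (C.cr x y)
  cr' : ∀ g x y, C.cr' (ρ' g x) (ρ' g y) = ρ g (C.cr' x y)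

theorem Act.swap {C : Cub K V W} {ρ : Representation K T7 V} {ρ' : Representation K T7 W} (h : Act C ρ ρ') :
    Act C.swap ρ' ρ := ⟨h.cr', h.cr⟩

/-- Seven vectors with sum `0` permuted by `A₇`. -/
structure Seven (ρ : Representation K T7 V) (v : Fin 7 → V) : Prop where
  act : ∀ (g : T7) i, ρ g (v i) = v ((g : Perm (Fin 7)) i)
  sum : ∑ i, v i = 0

/-- A vector fixed by `A₇` is zero. -/
def NoFix (ρ : Representation K T7 V) : Prop := ∀ v, (∀ g, ρ g v = v) → v = 0

theorem ne5 : ∀ a b c d : Fin 7, ∃ e, e ≠ a ∧ e ≠ b ∧ e ≠ c ∧ e ≠ d := by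
  intro a b c d
  obtain ⟨e, -, he⟩ := Finset.exists_mem_notMem_of_card_lt_card (s := {a, b, c, d}) (t := Finset.univ)
    (Finset.card_le_four.trans_lt (by decide))
  exact ⟨e, by simpa only [Finset.mem_insert, Finset.mem_singleton, not_or] using he⟩

theorem aux1 : ∀ i : Fin 7, i ≠ i + 1 ∧ i ≠ i + 2 ∧ i + 1 ≠ i + 2 := by decide

theorem pick (l : List (Fin 7)) (h : l.length < 7) : ∃ x, x ∉ l := by
  by_contra hcon
  push Not at hcon
  have h1 : (Finset.univ : Finset (Fin 7)) ⊆ l.toFinset := fun x _ => List.mem_toFinset.2 (hcon x)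
  have h2 := Finset.card_le_card h1
  rw [Finset.card_univ, Fintype.card_fin] at h2
  have h3 := l.toFinset_card_le
  omega

theorem aux2 (i j : Fin 7) (_ : i ≠ j) : ∃ k l m, i ≠ k ∧ i ≠ l ∧ i ≠ m ∧ j ≠ k ∧ j ≠ l ∧ j ≠ m ∧ k ≠ l ∧ k ≠ m ∧
    l ≠ m := by
  obtain ⟨k, hk⟩ := pick [i, j] (by simp)
  obtain ⟨l, hl⟩ := pick [i, j, k] (by simp)
  obtain ⟨m, hm⟩ := pick [i, j, k, l] (by simp)
  simp only [List.mem_cons, List.not_mem_nil, or_false, not_or] at hk hl hm
  exact ⟨k, l, m, Ne.symm hk.1, Ne.symm hl.1, Ne.symm hm.1, Ne.symm hk.2, Ne.symm hl.2.1, Ne.symm hm.2.1,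
    Ne.symm hl.2.2, Ne.symm hm.2.2.1, Ne.symm hm.2.2.2⟩

/-! ### Four-cycle relations -/

/-- the relation -/
def Four (b : Fin 7 → Fin 7 → W) : Prop := ∀ i j k l, i ≠ j → i ≠ k → i ≠ l → j ≠ k → j ≠ l → k ≠ l →
  b i j + b k l = b i l + b k j

/-- `2 c_i` -/
theorem Four.indep {b : Fin 7 → Fin 7 → W} (h : Four b) (hs : ∀ i j, b i j = b j i) {i j k j' k' : Fin 7}
    (hij : i ≠ j) (hik : i ≠ k) (hjk : j ≠ k) (hij' : i ≠ j') (hik' : i ≠ k') (hjk' : j' ≠ k') :
    b i j + b i k - b j k = b i j' + b i k' - b j' k' := by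
  -- change of the third index
  have h1 : ∀ {j k l : Fin 7}, i ≠ j → i ≠ k → i ≠ l → j ≠ k → j ≠ l →
      b i j + b i k - b j k = b i j + b i l - b j l := by
    intro j k l hij hik hil hjk hjl
    by_cases hkl : k = l
    · rw [hkl]
    · have h2 := h i k j l hik hij hil (Ne.symm hjk) hkl hjl
      rw [sub_eq_sub_iff_add_eq_add]
      calc b i j + b i k + b j l = b i j + (b i k + b j l) := by abel
        _ = b i j + (b i l + b j k) := by rw [h2]
        _ = b i j + b i l + b j k := by abel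
  -- symmetry
  have h3 : ∀ j k : Fin 7, b i j + b i k - b j k = b i k + b i j - b k j := fun j k => by
    rw [hs k j]; abel
  obtain ⟨l, hl1, hl2, hl3, -⟩ := ne5 i j j' j'
  calc b i j + b i k - b j k = b i j + b i l - b j l := h1 hij hik (Ne.symm hl1) hjk (Ne.symm hl2)
    _ = b i l + b i j - b l j := h3 _ _
    _ = b i l + b i j' - b l j' := h1 (Ne.symm hl1) hij hij' hl2 hl3
    _ = b i j' + b i l - b j' l := h3 _ _
    _ = b i j' + b i k' - b j' k' := h1 hij' (Ne.symm hl1) hik' (Ne.symm hl3) hjk'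

/-- `c_i` -/
noncomputable def cof (K : Type*) [Field K] {W : Type*} [AddCommGroup W] [Module K W] (b : Fin 7 → Fin 7 → W)
    (i : Fin 7) : W := (2 : K)⁻¹ • (b i (i + 1) + b i (i + 2) - b (i + 1) (i + 2))

theorem cof_eq {b : Fin 7 → Fin 7 → W} (h : Four b) (hs : ∀ i j, b i j = b j i) {i j k : Fin 7}
    (hij : i ≠ j) (hik : i ≠ k) (hjk : j ≠ k) : cof K b i = (2 : K)⁻¹ • (b i j + b i k - b j k) := by
  obtain ⟨a1, a2, a3⟩ := aux1 i
  rw [cof, h.indep hs a1 a2 a3 hij hik hjk]

theorem eq_cof_add (h2 : (2 : K) ≠ 0) {b : Fin 7 → Fin 7 → W} (h : Four b) (hs : ∀ i j, b i j = b j i)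
    {i j : Fin 7} (hij : i ≠ j) : b i j = cof K b i + cof K b j := by
  obtain ⟨k, hk1, hk2, -, -⟩ := ne5 i j j j
  rw [cof_eq (K := K) h hs hij (Ne.symm hk1) (Ne.symm hk2),
    cof_eq (K := K) h hs (Ne.symm hij) (Ne.symm hk2) (Ne.symm hk1), ← smul_add, hs j i]
  have : b i j + b i k - b j k + (b i j + b j k - b i k) = (2 : K) • b i j := by
    rw [two_smul]; abel
  rw [this, smul_smul, inv_mul_cancel₀ h2, one_smul]

/-! ### Crosses of seven vectors -/

variable {C : Cub K V W} {ρ : Representation K T7 V} {ρ' : Representation K T7 W}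

theorem Seven.of_noFix (hρ : NoFix ρ) {v : Fin 7 → V} (h : ∀ (g : T7) i, ρ g (v i) = v ((g : Perm (Fin 7)) i)) :
    Seven ρ v := by
  refine ⟨h, hρ _ fun g => ?_⟩
  rw [map_sum]
  simp only [h]
  exact Equiv.sum_comp (g : Perm (Fin 7)) v

/-- the cross of differences vanishes -/
def Dis (C : Cub K V W) (v : Fin 7 → V) : Prop := ∀ i j k l, i ≠ j → i ≠ k → i ≠ l → j ≠ k → j ≠ l → k ≠ l →
  C.cr (v i - v k) (v j - v l) = 0

theorem Dis.four {v : Fin 7 → V} (h : Dis C v) : Four fun i j => C.cr (v i) (v j) := by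
  intro i j k l hij hik hil hjk hjl hkl
  have h1 := h i j k l hij hik hil hjk hjl hkl
  simp only [map_sub, LinearMap.sub_apply] at h1
  have h2 : C.cr (v i) (v j) + C.cr (v k) (v l) - (C.cr (v i) (v l) + C.cr (v k) (v j)) = 0 := by
    rw [← h1]; abel
  exact sub_eq_zero.1 h2

/-- **(B)** the crosses of seven vectors. -/
theorem Dis.exists_seven (h2 : (2 : K) ≠ 0) (hA : Act C ρ ρ') (hρ' : NoFix ρ') {v : Fin 7 → V} (hv : Seven ρ v)
    (h : Dis C v) : ∃ c : Fin 7 → W, Seven ρ' c ∧ (∀ i j, i ≠ j → C.cr (v i) (v j) = c i + c j) ∧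
      ∀ i, C.cr (v i) (v i) = (-5 : K) • c i := by
  set b : Fin 7 → Fin 7 → W := fun i j => C.cr (v i) (v j) with hb
  have hs : ∀ i j, b i j = b j i := fun i j => C.symm _ _
  have hF : Four b := h.four
  have hact : ∀ (g : T7) i j, ρ' g (b i j) = b ((g : Perm (Fin 7)) i) ((g : Perm (Fin 7)) j) := by
    intro g i j
    rw [hb]
    simp only
    rw [← hA.cr, hv.act, hv.act]
  have h7 : Seven ρ' (cof K b) := by
    refine Seven.of_noFix hρ' fun g i => ?_
    rw [cof, map_smul, map_sub, map_add, hact, hact, hact, cof_eq (K := K) hF hs]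
    · exact (g : Perm (Fin 7)).injective.ne (by revert i; decide)
    · exact (g : Perm (Fin 7)).injective.ne (by revert i; decide)
    · exact (g : Perm (Fin 7)).injective.ne (by revert i; decide)
  refine ⟨cof K b, h7, fun i j hij => eq_cof_add h2 hF hs hij, fun i => ?_⟩
  -- the diagonal
  have h3 : ∑ j, b i j = 0 := by
    rw [hb]
    simp only
    rw [← map_sum, hv.sum, map_zero]
  have h4 : ∑ j, b i j = b i i + ∑ j ∈ Finset.univ.erase i, b i j :=
    (Finset.add_sum_erase _ _ (Finset.mem_univ i)).symm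
  have h5 : ∑ j ∈ Finset.univ.erase i, b i j = ∑ j ∈ Finset.univ.erase i, (cof K b i + cof K b j) :=
    Finset.sum_congr rfl fun j hj => eq_cof_add h2 hF hs (Ne.symm (Finset.ne_of_mem_erase hj))
  have h6 : ∑ j ∈ Finset.univ.erase i, cof K b j = - cof K b i := by
    have := Finset.add_sum_erase Finset.univ (cof K b) (Finset.mem_univ i)
    rw [h7.sum] at this
    exact eq_neg_of_add_eq_zero_right this
  rw [h4, h5, Finset.sum_add_distrib, h6, Finset.sum_const, Finset.card_erase_of_mem (Finset.mem_univ i),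
    Finset.card_univ, Fintype.card_fin] at h3
  have h8 : C.cr (v i) (v i) = b i i := rfl
  rw [h8]
  have h9 : (7 - 1) • cof K b i + - cof K b i = (5 : K) • cof K b i := by
    rw [show (5 : K) = ((5 : ℕ) : K) by norm_num, Nat.cast_smul_eq_nsmul]
    rw [show (7 - 1 : ℕ) = 5 + 1 by norm_num, add_smul, one_smul]
    abel
  rw [h9] at h3
  rw [neg_smul]
  exact eq_neg_of_add_eq_zero_left h3

/-- Seven vectors, not all zero, with all crosses zero. -/
def TS (C : Cub K V W) (ρ : Representation K T7 V) : Prop :=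
  ∃ v : Fin 7 → V, Seven ρ v ∧ v 0 ≠ 0 ∧ ∀ i j, C.cr (v i) (v j) = 0

/-- the involution `(i k)(j l)` -/
def dt (i j k l : Fin 7) (h1 : i ≠ j) (h2 : k ≠ l) : T7 :=
  ⟨Equiv.swap i j * Equiv.swap k l, by
    rw [mem_alternatingGroup, map_mul, sign_swap h1, sign_swap h2]; rfl⟩

theorem Seven.ne_zero {v : Fin 7 → V} (hv : Seven ρ v) {i : Fin 7} (hi : v i ≠ 0) :
    v 0 ≠ 0 := by
  intro h0
  by_cases h1 : i = 0
  · rw [h1] at hi; exact hi h0
  · obtain ⟨k, hk1, hk2, hk3, hk4⟩ := ne5 i 0 0 0
    obtain ⟨l, hl1, hl2, hl3, hl4⟩ := ne5 i 0 k 0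
    have h3 := hv.act (dt 0 i k l (Ne.symm h1) (Ne.symm hl3)) 0
    rw [h0, map_zero] at h3
    apply hi
    rw [h3]
    congr 1
    change i = (Equiv.swap 0 i * Equiv.swap k l) 0
    rw [Perm.mul_apply, swap_apply_of_ne_of_ne (Ne.symm hk2) (Ne.symm hl2), swap_apply_left]

/-- **(B)** conclusion. -/
theorem ts_of_dis (h2 : (2 : K) ≠ 0) (h7 : (7 : K) ≠ 0) (hA : Act C ρ ρ') (hρ : NoFix ρ) (hρ' : NoFix ρ')
    (hd : ∀ v, Seven ρ v → Dis C v) (hd' : ∀ v, Seven ρ' v → Dis C.swap v) {v : Fin 7 → V} (hv : Seven ρ v)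
    (h0 : v 0 ≠ 0) : TS C ρ ∨ TS C.swap ρ' := by
  obtain ⟨c, hc, hc1, hc2⟩ := (hd v hv).exists_seven h2 hA hρ' hv
  obtain ⟨w, hw, hw1, hw2⟩ := (hd' c hc).exists_seven h2 hA.swap hρ hc
  by_cases hc0 : c 0 = 0
  · left
    refine ⟨v, hv, h0, ?_⟩
    have hall : ∀ i, c i = 0 := fun i => by
      by_contra hi
      exact hc.ne_zero hi hc0
    intro i j
    by_cases hij : i = j
    · rw [hij, hc2, hall, smul_zero]
    · rw [hc1 i j hij, hall, hall, add_zero]
  · right
    refine ⟨c, hc, hc0, ?_⟩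
    have h49 : (49 : K) ≠ 0 := by
      rw [show (49 : K) = 7 * 7 by norm_num]
      exact mul_ne_zero h7 h7
    -- four of the vectors `w i` have sum zero
    have key : ∀ i j k l, i ≠ j → i ≠ k → i ≠ l → j ≠ k → j ≠ l → k ≠ l → w i + w j + w k + w l = 0 := by
      intro i j k l hij hik hil hjk hjl hkl
      set x := v i + v j - v k - v l with hx
      have e1 : C.cr x x = (-7 : K) • (c i + c j + c k + c l) := by
        rw [hx]
        simp only [map_add, map_sub, LinearMap.add_apply, LinearMap.sub_apply, hc2, hc1 i j hij, hc1 i k hik,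
          hc1 i l hil, hc1 j k hjk, hc1 j l hjl, hc1 k l hkl, hc1 j i hij.symm, hc1 k i hik.symm, hc1 l i hil.symm,
          hc1 k j hjk.symm, hc1 l j hjl.symm, hc1 l k hkl.symm]
        module
      have e2 : C.cr' (c i + c j + c k + c l) (c i + c j + c k + c l) = w i + w j + w k + w l := by
        change C.swap.cr _ _ = _
        simp only [map_add, LinearMap.add_apply, hw2, hw1 i j hij, hw1 i k hik,
          hw1 i l hil, hw1 j k hjk, hw1 j l hjl, hw1 k l hkl, hw1 j i hij.symm, hw1 k i hik.symm, hw1 l i hil.symm,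
          hw1 k j hjk.symm, hw1 l j hjl.symm, hw1 l k hkl.symm]
        module
      have e3 : C.cr' (C.cr x x) (C.cr x x) = (49 : K) • (w i + w j + w k + w l) := by
        rw [e1]
        simp only [map_smul, LinearMap.smul_apply]
        rw [e2, smul_smul]
        norm_num
      set g := dt i k j l hik hjl with hg
      have e4 : ρ g x = -x := by
        have a1 : (g : Perm (Fin 7)) i = k := by
          change (Equiv.swap i k * Equiv.swap j l) i = k
          rw [Perm.mul_apply, swap_apply_of_ne_of_ne hij hil, swap_apply_left]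
        have a2 : (g : Perm (Fin 7)) k = i := by
          change (Equiv.swap i k * Equiv.swap j l) k = i
          rw [Perm.mul_apply, swap_apply_of_ne_of_ne hjk.symm hkl, swap_apply_right]
        have a3 : (g : Perm (Fin 7)) j = l := by
          change (Equiv.swap i k * Equiv.swap j l) j = l
          rw [Perm.mul_apply, swap_apply_left, swap_apply_of_ne_of_ne hil.symm hkl.symm]
        have a4 : (g : Perm (Fin 7)) l = j := by
          change (Equiv.swap i k * Equiv.swap j l) l = j
          rw [Perm.mul_apply, swap_apply_right, swap_apply_of_ne_of_ne hij.symm hjk]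
        rw [hx, map_sub, map_sub, map_add, hv.act, hv.act, hv.act, hv.act, a1, a2, a3, a4]
        abel
      have e5 : ρ g (C.cr' (C.cr x x) (C.cr x x)) = C.cr' (C.cr x x) (C.cr x x) := by
        rw [← hA.cr', ← hA.cr, e4]
        simp only [map_neg, LinearMap.neg_apply, neg_neg]
      rw [C.four, map_smul, e4, smul_neg] at e5
      have e6 : C.N x • x = 0 := by
        have e7 : (2 : K) • (C.N x • x) = 0 := by
          rw [two_smul]
          nth_rewrite 1 [← e5]
          abel
        exact (smul_eq_zero.1 e7).resolve_left h2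
      rw [C.four, e6] at e3
      exact (smul_eq_zero.1 e3.symm).resolve_left h49
    have heq : ∀ i, w i = w 0 := by
      intro i
      by_cases hi : i = 0
      · rw [hi]
      · obtain ⟨k, l, m, a1, a2, a3, a4, a5, a6, a7, a8, a9⟩ := aux2 i 0 hi
        have b1 := key i k l m a1 a2 a3 a7 a8 a9
        have b2 := key 0 k l m a4 a5 a6 a7 a8 a9
        have b3 : w i - w 0 = (w i + w k + w l + w m) - (w 0 + w k + w l + w m) := by abel
        rw [b1, b2, sub_zero] at b3
        exact sub_eq_zero.1 b3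
    have hw0 : w 0 = 0 := by
      have := hw.sum
      rw [Finset.sum_congr rfl fun i _ => heq i, Finset.sum_const, Finset.card_univ, Fintype.card_fin,
        ← Nat.cast_smul_eq_nsmul K] at this
      exact (smul_eq_zero.1 this).resolve_left (by exact_mod_cast h7)
    intro i j
    by_cases hij : i = j
    · rw [hij, hw2, heq, hw0, smul_zero]
    · rw [hw1 i j hij, heq i, heq j, hw0, add_zero]

/-! ### The span -/

/-- the span of the seven vectors is stable -/
theorem Seven.span_stable {v : Fin 7 → V} (hv : Seven ρ v) (g : T7) {x : V} (hx : x ∈ Submodule.span K (Set.range v)) :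
    ρ g x ∈ Submodule.span K (Set.range v) := by
  induction hx using Submodule.span_induction with
  | mem x hx =>
    obtain ⟨i, rfl⟩ := hx
    rw [hv.act]
    exact Submodule.subset_span ⟨_, rfl⟩
  | zero => rw [map_zero]; exact Submodule.zero_mem _
  | add x y _ _ hx hy => rw [map_add]; exact Submodule.add_mem _ hx hy
  | smul a x _ hx => rw [map_smul]; exact Submodule.smul_mem _ _ hx

theorem cross_span {v : Fin 7 → V} (h : ∀ i j, C.cr (v i) (v j) = 0) {x y : V}
    (hx : x ∈ Submodule.span K (Set.range v)) (hy : y ∈ Submodule.span K (Set.range v)) : C.cr x y = 0 := by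
  induction hx using Submodule.span_induction with
  | mem x hx =>
    obtain ⟨i, rfl⟩ := hx
    induction hy using Submodule.span_induction with
    | mem y hy => obtain ⟨j, rfl⟩ := hy; exact h i j
    | zero => rw [map_zero]
    | add x y _ _ hx hy => rw [map_add, hx, hy, add_zero]
    | smul a x _ hx => rw [map_smul, hx, smul_zero]
  | zero => rw [map_zero, LinearMap.zero_apply]
  | add x y _ _ hx hy => rw [map_add, LinearMap.add_apply, hx, hy, add_zero]
  | smul a x _ hx => rw [map_smul, LinearMap.smul_apply, hx, smul_zero]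

theorem dt_act {v : Fin 7 → V} (hv : Seven ρ v) {i j k l m : Fin 7} (h1 : i ≠ j) (h2 : k ≠ l) :
    ρ (dt i j k l h1 h2) (v m) = v (Equiv.swap i j (Equiv.swap k l m)) := hv.act _ _

theorem Seven.eq_zero_of_eq (h7 : (7 : K) ≠ 0) {v : Fin 7 → V} (hv : Seven ρ v) {a b : Fin 7} (hab : a ≠ b)
    (h : v a = v b) : v 0 = 0 := by
  have h1 : ∀ c, v c = v a := by
    intro c
    by_cases hca : c = a
    · rw [hca]
    · by_cases hcb : c = b
      · rw [hcb, h]
      · obtain ⟨k, hk⟩ := pick [a, b, c] (by simp)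
        obtain ⟨l, hl⟩ := pick [a, b, c, k] (by simp)
        simp only [List.mem_cons, List.not_mem_nil, or_false, not_or] at hk hl
        have h2 := congrArg (ρ (dt b c k l (Ne.symm hcb) (Ne.symm hl.2.2.2))) h
        rw [dt_act hv, dt_act hv, swap_apply_of_ne_of_ne (Ne.symm hk.1) (Ne.symm hl.1),
          swap_apply_of_ne_of_ne hab (Ne.symm hca), swap_apply_of_ne_of_ne (Ne.symm hk.2.1) (Ne.symm hl.2.1),
          swap_apply_left] at h2
        exact h2.symm
  have h3 := hv.sum
  rw [Finset.sum_congr rfl fun i _ => h1 i, Finset.sum_const, Finset.card_univ, Fintype.card_fin,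
    ← Nat.cast_smul_eq_nsmul K] at h3
  rw [h1 0]
  exact (smul_eq_zero.1 h3).resolve_left (by exact_mod_cast h7)

/-- a relation between the seven vectors has constant coefficients -/
theorem Seven.coeff_eq (h7 : (7 : K) ≠ 0) {v : Fin 7 → V} (hv : Seven ρ v) (h0 : v 0 ≠ 0) {x : Fin 7 → K}
    (hx : ∑ i, x i • v i = 0) (i j : Fin 7) : x i = x j := by
  by_contra hne
  have hij : i ≠ j := fun h => hne (by rw [h])
  obtain ⟨k, hk⟩ := pick [i, j] (by simp)
  obtain ⟨l, hl⟩ := pick [i, j, k] (by simp)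
  obtain ⟨m, hm⟩ := pick [i, j, k, l] (by simp)
  obtain ⟨n, hn⟩ := pick [i, j, k, l, m] (by simp)
  obtain ⟨o, ho⟩ := pick [i, j, k, l, m, n] (by simp)
  simp only [List.mem_cons, List.not_mem_nil, or_false, not_or] at hk hl hm hn ho
  set g := dt i j k l hij (Ne.symm hl.2.2) with hg
  have gi : (g : Perm (Fin 7)) i = j := by
    change Equiv.swap i j (Equiv.swap k l i) = j
    rw [swap_apply_of_ne_of_ne (Ne.symm hk.1) (Ne.symm hl.1), swap_apply_left]
  have gj : (g : Perm (Fin 7)) j = i := by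
    change Equiv.swap i j (Equiv.swap k l j) = i
    rw [swap_apply_of_ne_of_ne (Ne.symm hk.2) (Ne.symm hl.2.1), swap_apply_right]
  have gk : (g : Perm (Fin 7)) k = l := by
    change Equiv.swap i j (Equiv.swap k l k) = l
    rw [swap_apply_left, swap_apply_of_ne_of_ne hl.1 hl.2.1]
  have gl : (g : Perm (Fin 7)) l = k := by
    change Equiv.swap i j (Equiv.swap k l l) = k
    rw [swap_apply_right, swap_apply_of_ne_of_ne hk.1 hk.2]
  have go : ∀ r, r ≠ i → r ≠ j → r ≠ k → r ≠ l → (g : Perm (Fin 7)) r = r := by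
    intro r h1 h2 h3 h4
    change Equiv.swap i j (Equiv.swap k l r) = r
    rw [swap_apply_of_ne_of_ne h3 h4, swap_apply_of_ne_of_ne h1 h2]
  -- the difference of the relation and its image
  have h1 : (x i - x j) • (v i - v j) + (x k - x l) • (v k - v l) = 0 := by
    have h2 : ∑ r, x r • (v r - v ((g : Perm (Fin 7)) r)) = 0 := by
      have h3 := congrArg (ρ g) hx
      rw [map_zero, map_sum] at h3
      simp only [map_smul, hv.act] at h3
      simp only [smul_sub, Finset.sum_sub_distrib]
      rw [hx, h3, sub_zero]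
    have h3 : ∑ r, x r • (v r - v ((g : Perm (Fin 7)) r)) =
        ∑ r ∈ ({i, j, k, l} : Finset (Fin 7)), x r • (v r - v ((g : Perm (Fin 7)) r)) := by
      symm
      apply Finset.sum_subset (Finset.subset_univ _)
      intro r _ hr
      simp only [Finset.mem_insert, Finset.mem_singleton, not_or] at hr
      rw [go r hr.1 hr.2.1 hr.2.2.1 hr.2.2.2, sub_self, smul_zero]
    rw [h3, Finset.sum_insert (by simp [hij, Ne.symm hk.1, Ne.symm hl.1]),
      Finset.sum_insert (by simp [Ne.symm hk.2, Ne.symm hl.2.1]), Finset.sum_insert (by simp [Ne.symm hl.2.2]),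
      Finset.sum_singleton, gi, gj, gk, gl] at h2
    rw [← h2]
    module
  have h2 := congrArg (ρ (dt k m n o (Ne.symm hm.2.2.1) (Ne.symm ho.2.2.2.2.2))) h1
  simp only [map_add, map_smul, map_sub, map_zero] at h2
  rw [dt_act hv, dt_act hv, dt_act hv, dt_act hv,
    swap_apply_of_ne_of_ne (Ne.symm hn.1) (Ne.symm ho.1), swap_apply_of_ne_of_ne (Ne.symm hk.1) (Ne.symm hm.1),
    swap_apply_of_ne_of_ne (Ne.symm hn.2.1) (Ne.symm ho.2.1), swap_apply_of_ne_of_ne (Ne.symm hk.2) (Ne.symm hm.2.1),
    swap_apply_of_ne_of_ne (Ne.symm hn.2.2.1) (Ne.symm ho.2.2.1), swap_apply_left,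
    swap_apply_of_ne_of_ne (Ne.symm hn.2.2.2.1) (Ne.symm ho.2.2.2.1),
    swap_apply_of_ne_of_ne hl.2.2 (Ne.symm hm.2.2.2)] at h2
  have h3 : (x k - x l) • (v k - v m) = 0 := by
    have : (x k - x l) • (v k - v m) = ((x i - x j) • (v i - v j) + (x k - x l) • (v k - v l)) -
      ((x i - x j) • (v i - v j) + (x k - x l) • (v m - v l)) := by module
    rw [this, h1, h2, sub_zero]
  rcases smul_eq_zero.1 h3 with h4 | h4
  · rw [h4, zero_smul, add_zero] at h1
    rcases smul_eq_zero.1 h1 with h5 | h5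
    · exact hne (sub_eq_zero.1 h5)
    · exact h0 (hv.eq_zero_of_eq h7 hij (sub_eq_zero.1 h5))
  · exact h0 (hv.eq_zero_of_eq h7 (Ne.symm hm.2.2.1) (sub_eq_zero.1 h4))

/-- six of the vectors are linearly independent -/
theorem Seven.linearIndependent (h7 : (7 : K) ≠ 0) {v : Fin 7 → V} (hv : Seven ρ v) (h0 : v 0 ≠ 0) :
    LinearIndependent K fun i : Fin 6 => v i.castSucc := by
  rw [Fintype.linearIndependent_iff]
  intro x hx i
  let y : Fin 7 → K := Fin.snoc x 0
  have h1 : ∑ i, y i • v i = 0 := by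
    rw [Fin.sum_univ_castSucc]
    simp only [y, Fin.snoc_castSucc, Fin.snoc_last, zero_smul, add_zero]
    exact hx
  have h2 := hv.coeff_eq h7 h0 h1 i.castSucc (Fin.last 6)
  simp only [y, Fin.snoc_castSucc, Fin.snoc_last] at h2
  exact h2

theorem Seven.finrank (h7 : (7 : K) ≠ 0) {v : Fin 7 → V} (hv : Seven ρ v) (h0 : v 0 ≠ 0) :
    Module.finrank K ↥(Submodule.span K (Set.range v)) = 6 := by
  have h1 : Submodule.span K (Set.range v) = Submodule.span K (Set.range fun i : Fin 6 => v i.castSucc) := by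
    apply le_antisymm
    · rw [Submodule.span_le]
      rintro _ ⟨i, rfl⟩
      refine Fin.lastCases ?_ (fun j => Submodule.subset_span ⟨j, rfl⟩) i
      have h2 := hv.sum
      rw [Fin.sum_univ_castSucc] at h2
      rw [eq_neg_of_add_eq_zero_right h2]
      exact Submodule.neg_mem _ (Submodule.sum_mem _ fun j _ => Submodule.subset_span ⟨j, rfl⟩)
    · apply Submodule.span_mono
      rintro _ ⟨i, rfl⟩
      exact ⟨_, rfl⟩
  rw [h1, finrank_span_eq_card (hv.linearIndependent h7 h0), Fintype.card_fin]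

end Cfsg.Agent.H931.E6

private theorem dce_4a13bbbe99fb : _root_.True := by
  try have : _root_.True := by simp only [_root_.Cfsg.Agent.H931.E6.dt.congr_simp]
  try have : _root_.True := by simp only [_root_.Cfsg.Agent.H931.E6.cof.eq_1]
  exact _root_.True.intro
end

-- part: H505/E6Three/Trace
section
prune_inst 0x4200000000000000000051210000000400001000040000080a00c0000406002000000001c900400000808804000004000000000000000000000040000000000008010060000ac00100006000000000000000000000000000000000000000000000000000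
set_option linter.all false
open scoped Cfsg.Agent.FastGrp

-- part: H505/E6Three/Perm
section
/-!
# S5927, `six_three` (K7): elements of `A₆` and the exotic automorphism
-/

set_option autoImplicit false
set_option maxRecDepth 100000

namespace Cfsg.Agent.H505.E6Three

open Equiv Equiv.Perm Subgroup
open Cfsg.Agent.Lib.AltCarmichael

/-- `A₆` -/
abbrev A6 : Type := ↥(alternatingGroup (Fin 6))

/-- the Carmichael generators `(i 4 5)` -/
def s : ℕ → A6
  | 0 => ⟨swap (0 : Fin 6) 4 * swap (4 : Fin 6) 5, by rw [Perm.mem_alternatingGroup]; decide⟩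
  | 1 => ⟨swap (1 : Fin 6) 4 * swap (4 : Fin 6) 5, by rw [Perm.mem_alternatingGroup]; decide⟩
  | 2 => ⟨swap (2 : Fin 6) 4 * swap (4 : Fin 6) 5, by rw [Perm.mem_alternatingGroup]; decide⟩
  | _ => ⟨swap (3 : Fin 6) 4 * swap (4 : Fin 6) 5, by rw [Perm.mem_alternatingGroup]; decide⟩

theorem s_eq (i : ℕ) (hi : i < 4) : (s i : Perm (Fin 6)) = cyc 4 i := by
  interval_cases i <;> decide

/-- the images of the Carmichael generators -/
def xe : ℕ → A6
  | 0 => ⟨swap (0 : Fin 6) 4 * swap (4 : Fin 6) 3 * (swap (1 : Fin 6) 2 * swap (2 : Fin 6) 5), by rw [Perm.mem_alternatingGroup]; decide⟩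
  | 1 => ⟨swap (0 : Fin 6) 3 * swap (3 : Fin 6) 5 * (swap (1 : Fin 6) 4 * swap (4 : Fin 6) 2), by rw [Perm.mem_alternatingGroup]; decide⟩
  | 2 => ⟨swap (0 : Fin 6) 2 * swap (2 : Fin 6) 4 * (swap (1 : Fin 6) 5 * swap (5 : Fin 6) 3), by rw [Perm.mem_alternatingGroup]; decide⟩
  | _ => ⟨swap (0 : Fin 6) 5 * swap (5 : Fin 6) 2 * (swap (1 : Fin 6) 3 * swap (3 : Fin 6) 4), by rw [Perm.mem_alternatingGroup]; decide⟩

theorem rel_xe : Rel 4 xe where
  cube := by
    intro i hi
    interval_cases i <;> (apply Subtype.ext; decide)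
  sq := by
    intro i hi j hj hij
    interval_cases i <;> interval_cases j <;> first | exact absurd rfl hij | (apply Subtype.ext; decide)

/-- `(0 1 2 4 3)` -/
def zz : A6 := ⟨swap (0 : Fin 6) 1 * swap (1 : Fin 6) 2 * swap (2 : Fin 6) 4 * swap (4 : Fin 6) 3, by rw [Perm.mem_alternatingGroup]; decide⟩
/-- `(0 1)(2 3)` -/
def w0 : A6 := ⟨swap (0 : Fin 6) 1 * swap (2 : Fin 6) 3, by rw [Perm.mem_alternatingGroup]; decide⟩
/-- `(0 2)(1 3)` -/
def w1 : A6 := ⟨swap (0 : Fin 6) 2 * swap (1 : Fin 6) 3, by rw [Perm.mem_alternatingGroup]; decide⟩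
/-- `(1 2 3)` -/
def d3 : A6 := ⟨swap (1 : Fin 6) 2 * swap (2 : Fin 6) 3, by rw [Perm.mem_alternatingGroup]; decide⟩
/-- `(0 2 1 3)(4 5)` -/
def cc : A6 := ⟨swap (0 : Fin 6) 2 * swap (2 : Fin 6) 1 * swap (1 : Fin 6) 3 * swap (4 : Fin 6) 5, by rw [Perm.mem_alternatingGroup]; decide⟩
/-- `(0 5)(1 3 2 4)` -/
def yy : A6 := ⟨swap (0 : Fin 6) 5 * (swap (1 : Fin 6) 3 * swap (3 : Fin 6) 2 * swap (2 : Fin 6) 4), by rw [Perm.mem_alternatingGroup]; decide⟩
/-- `(0 1)(4 5)` -/
def w1' : A6 := ⟨swap (0 : Fin 6) 1 * swap (4 : Fin 6) 5, by rw [Perm.mem_alternatingGroup]; decide⟩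
/-- `(0 4 3)(1 5 2)` -/
def d3' : A6 := ⟨swap (0 : Fin 6) 4 * swap (4 : Fin 6) 3 * (swap (1 : Fin 6) 5 * swap (5 : Fin 6) 2), by rw [Perm.mem_alternatingGroup]; decide⟩
/-- `(0 3 5 1)(2 4)` -/
def yy' : A6 := ⟨swap (0 : Fin 6) 3 * swap (3 : Fin 6) 5 * swap (5 : Fin 6) 1 * swap (2 : Fin 6) 4, by rw [Perm.mem_alternatingGroup]; decide⟩

/-- a subgroup containing the Carmichael generators -/
theorem top_of_s (H : Subgroup A6) (h : ∀ i < 4, s i ∈ H) (g : A6) : g ∈ H := by
  have h1 : gen 4 (cyc 4) ≤ H.map (alternatingGroup (Fin 6)).subtype := by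
    rw [gen_def, Subgroup.closure_le]
    rintro _ ⟨i, hi, rfl⟩
    exact ⟨s i, h i hi, s_eq i hi⟩
  have h2 := gen_cyc 4 (by norm_num)
  have h3 : (g : Perm (Fin 6)) ∈ gen 4 (cyc 4) := by
    rw [h2]; exact g.2
  obtain ⟨g', hg', he⟩ := h1 h3
  have : g' = g := Subtype.ext he
  rwa [← this]

theorem exists_alpha : ∃ α : A6 →* A6, (∀ g, α (α g) = g) ∧ α zz = zz ∧ α w0 = w0 ∧ α w1 = w1' ∧ α d3 = d3' ∧
    α yy = yy' := by
  obtain ⟨φ, hφ⟩ := exists_hom (m := 4) (by norm_num) rel_xe
  have hs : ∀ i < 4, φ (s i) = xe i := by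
    intro i hi
    have : s i = ⟨cyc 4 i, cyc_mem 4 i hi⟩ := Subtype.ext (s_eq i hi)
    rw [this]
    exact hφ i hi
  have h0 := hs 0 (by norm_num)
  have h1 := hs 1 (by norm_num)
  have h2 := hs 2 (by norm_num)
  have h3 := hs 3 (by norm_num)
  have k0 : φ (xe 0) = s 0 := by
    rw [show xe 0 = s 0 * s 2 * s 3 * s 1 by apply Subtype.ext; decide, map_mul, map_mul, map_mul, h0, h1, h2, h3]
    apply Subtype.ext; decide
  have k1 : φ (xe 1) = s 1 := by
    rw [show xe 1 = s 1 * s 3 * s 2 * s 0 by apply Subtype.ext; decide, map_mul, map_mul, map_mul, h0, h1, h2, h3]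
    apply Subtype.ext; decide
  have k2 : φ (xe 2) = s 2 := by
    rw [show xe 2 = s 2 * s 1 * s 0 * s 3 by apply Subtype.ext; decide, map_mul, map_mul, map_mul, h0, h1, h2, h3]
    apply Subtype.ext; decide
  have k3 : φ (xe 3) = s 3 := by
    rw [show xe 3 = s 3 * s 0 * s 1 * s 2 by apply Subtype.ext; decide, map_mul, map_mul, map_mul, h0, h1, h2, h3]
    apply Subtype.ext; decide
  refine ⟨φ, ?_, ?_, ?_, ?_, ?_, ?_⟩
  · intro g
    refine top_of_s ((φ.comp φ).eqLocus (MonoidHom.id A6)) ?_ g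
    intro i hi
    change φ (φ (s i)) = s i
    rw [hs i hi]
    interval_cases i
    · exact k0
    · exact k1
    · exact k2
    · exact k3
  · rw [show zz = s 2 * (s 1)⁻¹ * s 0 * (s 3)⁻¹ by apply Subtype.ext; decide, map_mul, map_mul, map_mul, map_inv, map_inv,
      h0, h1, h2, h3]
    apply Subtype.ext; decide
  · rw [show w0 = s 0 * s 2 * s 1 * s 3 * s 0 * s 2 by apply Subtype.ext; decide, map_mul, map_mul, map_mul, map_mul,
      map_mul, h0, h1, h2, h3]
    apply Subtype.ext; decide
  · rw [show w1 = s 0 * s 1 * s 2 * s 3 * s 0 * s 1 by apply Subtype.ext; decide, map_mul, map_mul, map_mul, map_mul,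
      map_mul, h0, h1, h2, h3]
    apply Subtype.ext; decide
  · rw [show d3 = s 1 * (s 3)⁻¹ * s 2 * (s 1)⁻¹ by apply Subtype.ext; decide, map_mul, map_mul, map_mul, map_inv, map_inv,
      h1, h2, h3]
    apply Subtype.ext; decide
  · rw [show yy = s 2 * s 0 * s 3 * (s 1)⁻¹ by apply Subtype.ext; decide, map_mul, map_mul, map_mul, map_inv,
      h0, h1, h2, h3]
    apply Subtype.ext; decide

/-- `w0`, `yy` generate -/
theorem gen_xy : Subgroup.closure {w0, yy} = ⊤ := by
  rw [eq_top_iff]
  intro g _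
  have hx : w0 ∈ Subgroup.closure {w0, yy} := Subgroup.subset_closure (by simp)
  have hy : yy ∈ Subgroup.closure {w0, yy} := Subgroup.subset_closure (by simp)
  have hy' := inv_mem hy
  refine top_of_s _ ?_ g
  intro i hi
  interval_cases i
  · rw [show s 0 = yy * yy * w0 * yy * w0 * yy⁻¹ * w0 * yy⁻¹ * w0 by apply Subtype.ext; decide +kernel]
    exact mul_mem (mul_mem (mul_mem (mul_mem (mul_mem (mul_mem (mul_mem (mul_mem hy hy) hx) hy) hx) hy') hx) hy') hx
  · rw [show s 1 = w0 * yy * yy * w0 * yy * w0 * yy⁻¹ * w0 * yy⁻¹ by apply Subtype.ext; decide +kernel]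
    exact mul_mem (mul_mem (mul_mem (mul_mem (mul_mem (mul_mem (mul_mem (mul_mem hx hy) hy) hx) hy) hx) hy') hx) hy'
  · rw [show s 2 = yy⁻¹ * w0 * yy * w0 * yy⁻¹ * w0 * yy * yy * w0 * yy⁻¹ * w0 * yy⁻¹ by
      apply Subtype.ext; decide +kernel]
    exact mul_mem (mul_mem (mul_mem (mul_mem (mul_mem (mul_mem (mul_mem (mul_mem (mul_mem (mul_mem (mul_mem hy' hx) hy)
      hx) hy') hx) hy) hy) hx) hy') hx) hy'
  · rw [show s 3 = w0 * yy⁻¹ * w0 * yy * w0 * yy⁻¹ * w0 * yy⁻¹ * w0 * yy * w0 * yy by
      apply Subtype.ext; decide +kernel]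
    exact mul_mem (mul_mem (mul_mem (mul_mem (mul_mem (mul_mem (mul_mem (mul_mem (mul_mem (mul_mem (mul_mem hx hy') hx)
      hy) hx) hy') hx) hy') hx) hy) hx) hy

end Cfsg.Agent.H505.E6Three
end

-- part: H505/E6Three/Scott
section
/-!
# S5927, `six_three` (K7): the case of equality in Scott's lemma
-/

set_option autoImplicit false

namespace Cfsg.Agent.H505.E6Three

open Module Cfsg.Agent.H952.F4

section
variable {K V G : Type*} [Field K] [AddCommGroup V] [Module K V] [FiniteDimensional K V] [Group G]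

/-- The case of equality in Scott's lemma: a pair `(a, b)` which could be `((x - 1) v, (y - 1) v)` is. -/
theorem scott_eq (ρ : Representation K G V) {x y : G} (hgen : Subgroup.closure {x, y} = ⊤) (h1 : ρ.invariants = ⊥)
    (h2 : ρ.dual.invariants = ⊥) (he : finrank K V ≤ ev (ρ x) 1 + ev (ρ y) 1 + ev (ρ (x * y)) 1) {a b : V}
    (ha : a ∈ LinearMap.range (ρ x - 1)) (hb : b ∈ LinearMap.range (ρ y - 1))
    (hab : a + ρ x b ∈ LinearMap.range (ρ (x * y) - 1)) : ∃ v, ρ x v - v = a ∧ ρ y v - v = b := by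
  set A := LinearMap.range (ρ x - 1) with hA
  set B := LinearMap.range (ρ y - 1) with hB
  set C := LinearMap.range (ρ (x * y) - 1) with hC
  have hsup : A ⊔ B = ⊤ := by
    have hle : (A ⊔ B).dualAnnihilator ≤ ρ.dual.invariants := by
      intro f hf
      rw [Representation.mem_invariants]
      rw [Submodule.mem_dualAnnihilator] at hf
      have hfx : ∀ v, f (ρ x v) = f v := fun v => by
        have := hf (ρ x v - v) (Submodule.mem_sup_left ⟨v, rfl⟩)
        rwa [map_sub, sub_eq_zero] at this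
      have hfy : ∀ v, f (ρ y v) = f v := fun v => by
        have := hf (ρ y v - v) (Submodule.mem_sup_right ⟨v, rfl⟩)
        rwa [map_sub, sub_eq_zero] at this
      have hall : ∀ g v, f (ρ g v) = f v := by
        intro g
        refine Scott.fix_all (P := fun g => ∀ v, f (ρ g v) = f v) hgen hfx hfy ?_ ?_ ?_ g
        · intro v
          rw [map_one, Module.End.one_apply]
        · intro a b ha hb v
          rw [map_mul, Module.End.mul_apply, ha, hb]
        · intro a ha v
          rw [← ha (ρ a⁻¹ v), ← Module.End.mul_apply, ← map_mul, mul_inv_cancel, map_one, Module.End.one_apply]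
      intro g
      refine LinearMap.ext fun v => ?_
      change f (ρ g⁻¹ v) = f v
      exact hall _ _
    rw [h2, le_bot_iff] at hle
    have h8 := Subspace.finrank_add_finrank_dualAnnihilator_eq (A ⊔ B)
    rw [hle, finrank_bot, add_zero] at h8
    exact Submodule.eq_top_of_finrank_eq h8
  let θ0 : (↥A × ↥B) →ₗ[K] V := A.subtype.coprod ((ρ x) ∘ₗ B.subtype)
  have hθ0 : LinearMap.range θ0 = ⊤ := by
    rw [eq_top_iff, ← hsup]
    refine sup_le ?_ ?_
    · intro u hu
      exact ⟨(⟨u, hu⟩, 0), by simp [θ0]⟩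
    · intro u hu
      refine ⟨(⟨-(ρ x u - u), neg_mem ⟨u, rfl⟩⟩, ⟨u, hu⟩), ?_⟩
      simp only [θ0, LinearMap.coprod_apply, LinearMap.comp_apply, Submodule.subtype_apply]
      abel
  let θ : (↥A × ↥B) →ₗ[K] V ⧸ C := C.mkQ ∘ₗ θ0
  have hθ : LinearMap.range θ = ⊤ := by
    rw [LinearMap.range_comp, hθ0, Submodule.map_top, Submodule.range_mkQ]
  have d1 := LinearMap.finrank_range_add_finrank_ker θ
  rw [hθ, finrank_top, Module.finrank_prod] at d1
  have d2 := Submodule.finrank_quotient_add_finrank C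
  have d3 := Scott.rank_add_ev (ρ x)
  have d4 := Scott.rank_add_ev (ρ y)
  have d5 := Scott.rank_add_ev (ρ (x * y))
  rw [← hA] at d3
  rw [← hB] at d4
  rw [← hC] at d5
  let Φ : V →ₗ[K] (↥A × ↥B) := LinearMap.prod ((ρ x - 1).rangeRestrict) ((ρ y - 1).rangeRestrict)
  have hΦ : LinearMap.ker Φ = ⊥ := by
    rw [eq_bot_iff, ← h1]
    intro v hv
    have hv' := LinearMap.mem_ker.1 hv
    have e1 : ρ x v = v := by
      have := congrArg (fun z : ↥A × ↥B => (z.1 : V)) hv'
      exact sub_eq_zero.1 this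
    have e2 : ρ y v = v := by
      have := congrArg (fun z : ↥A × ↥B => (z.2 : V)) hv'
      exact sub_eq_zero.1 this
    rw [Representation.mem_invariants]
    intro g
    refine Scott.fix_all (P := fun g => ρ g v = v) hgen e1 e2 ?_ ?_ ?_ g
    · rw [map_one, Module.End.one_apply]
    · intro a b ha hb
      rw [map_mul, Module.End.mul_apply, hb, ha]
    · intro a ha
      calc ρ a⁻¹ v = ρ a⁻¹ (ρ a v) := by rw [ha]
        _ = v := by rw [← Module.End.mul_apply, ← map_mul, inv_mul_cancel, map_one, Module.End.one_apply]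
  have hr : LinearMap.range Φ ≤ LinearMap.ker θ := by
    rintro _ ⟨v, rfl⟩
    rw [LinearMap.mem_ker]
    change C.mkQ ((ρ x v - v) + ρ x (ρ y v - v)) = 0
    rw [Submodule.mkQ_apply, Submodule.Quotient.mk_eq_zero]
    refine ⟨v, ?_⟩
    change ρ (x * y) v - v = _
    rw [map_mul, Module.End.mul_apply, map_sub]
    abel
  have d6 := LinearMap.finrank_range_add_finrank_ker Φ
  rw [hΦ, finrank_bot, add_zero] at d6
  have hle := Submodule.finrank_mono hr
  have heq : LinearMap.range Φ = LinearMap.ker θ := Submodule.eq_of_le_of_finrank_le hr (by omega)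
  have hmem : ((⟨a, ha⟩, ⟨b, hb⟩) : ↥A × ↥B) ∈ LinearMap.ker θ := by
    rw [LinearMap.mem_ker]
    change C.mkQ (a + ρ x b) = 0
    rw [Submodule.mkQ_apply, Submodule.Quotient.mk_eq_zero]
    exact hab
  rw [← heq] at hmem
  obtain ⟨v, hv⟩ := hmem
  exact ⟨v, congrArg (fun z : ↥A × ↥B => (z.1 : V)) hv, congrArg (fun z : ↥A × ↥B => (z.2 : V)) hv⟩

end

section
variable {K V V' G : Type*} [Field K] [AddCommGroup V] [Module K V] [FiniteDimensional K V] [AddCommGroup V']
  [Module K V'] [FiniteDimensional K V'] [Group G]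

/-- the dual module in terms of a perfect pairing -/
theorem dual_inv_le (ρ : Representation K G V) (ρ' : Representation K G V') (B : V →ₗ[K] V' →ₗ[K] K)
    (hinv : ∀ g v w, B (ρ g v) (ρ' g w) = B v w) (h1 : ∀ v, (∀ w, B v w = 0) → v = 0)
    (h2 : ∀ w, (∀ v, B v w = 0) → w = 0) : finrank K ρ.dual.invariants ≤ finrank K ρ'.invariants := by
  have hinj : Function.Injective B.flip := by
    rw [← LinearMap.ker_eq_bot, eq_bot_iff]
    intro w hw
    refine (Submodule.mem_bot K).2 (h2 w fun v => ?_)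
    have := LinearMap.congr_fun (LinearMap.mem_ker.1 hw) v
    exact this
  have hinj1 : Function.Injective B := by
    rw [← LinearMap.ker_eq_bot, eq_bot_iff]
    intro v hv
    refine (Submodule.mem_bot K).2 (h1 v fun w => ?_)
    have := LinearMap.congr_fun (LinearMap.mem_ker.1 hv) w
    exact this
  have e1 : finrank K V ≤ finrank K V' := by
    have := LinearMap.finrank_le_finrank_of_injective (f := B) hinj1
    rwa [Subspace.dual_finrank_eq] at this
  have e2 : finrank K V' ≤ finrank K V := by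
    have := LinearMap.finrank_le_finrank_of_injective (f := B.flip) hinj
    rwa [Subspace.dual_finrank_eq] at this
  have hd : finrank K V' = finrank K (Module.Dual K V) := by
    rw [Subspace.dual_finrank_eq]; omega
  have hsurj : Function.Surjective B.flip :=
    (LinearMap.injective_iff_surjective_of_finrank_eq_finrank (f := (B.flip : V' →ₗ[K] Module.Dual K V)) hd).1 hinj
  have hle : ρ.dual.invariants ≤ ρ'.invariants.map (B.flip : V' →ₗ[K] Module.Dual K V) := by
    intro f hf
    obtain ⟨w, rfl⟩ := hsurj f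
    refine ⟨w, ?_, rfl⟩
    have hf' := (Representation.mem_invariants (ρ := ρ.dual) _).1 hf
    change w ∈ ρ'.invariants
    rw [Representation.mem_invariants]
    intro g
    refine sub_eq_zero.1 (h2 _ fun v => ?_)
    have h3 : B (ρ g⁻¹ v) w = B v w := LinearMap.congr_fun (hf' g) v
    have h4 : B v (ρ' g w) = B (ρ g⁻¹ v) w := by
      rw [← hinv g (ρ g⁻¹ v) w, ← Module.End.mul_apply, ← map_mul, mul_inv_cancel, map_one, Module.End.one_apply]
    rw [map_sub, h4, h3, sub_self]
  exact (Submodule.finrank_mono hle).trans (Submodule.finrank_map_le (B.flip : V' →ₗ[K] Module.Dual K V) ρ'.invariants)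

/-- fixed spaces of elements of order prime to the characteristic: cocycles are coboundaries -/
theorem mem_range_of_cocycle {W : Type*} [AddCommGroup W] [Module K W] (T : Module.End K W) {n : ℕ} (hn : (n : K) ≠ 0)
    (d : ℕ → W) (h0 : d 0 = 0) (hper : d n = 0) (hd : ∀ k, T (d k) = d (k + 1) - d 1) :
    d 1 ∈ LinearMap.range (T - 1) := by
  have hs : ∑ k ∈ Finset.range n, d (k + 1) = ∑ k ∈ Finset.range n, d k := by
    have e1 := Finset.sum_range_succ d n
    have e2 := Finset.sum_range_succ' d n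
    rw [h0] at e2
    rw [hper] at e1
    rw [e1] at e2
    rw [add_zero, add_zero] at e2
    exact e2.symm
  have hT : T (∑ k ∈ Finset.range n, d k) = ∑ k ∈ Finset.range n, d k - (n : K) • d 1 := by
    rw [map_sum, Finset.sum_congr rfl fun k _ => hd k, Finset.sum_sub_distrib, hs, Finset.sum_const, Finset.card_range,
      Nat.cast_smul_eq_nsmul]
  refine ⟨-((n : K)⁻¹ • ∑ k ∈ Finset.range n, d k), ?_⟩
  rw [LinearMap.sub_apply, Module.End.one_apply, map_neg, map_smul, hT, smul_sub, smul_smul, inv_mul_cancel₀ hn, one_smul]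
  abel

end

end Cfsg.Agent.H505.E6Three
end

-- part: H505/E6Three/Six
section
/-!
# S5927, `six_three` (K7): the six conjugates of a vector fixed by `A₅`, and the transfer
-/

set_option autoImplicit false

namespace Cfsg.Agent.H505.E6Three

open Module Cfsg.Agent.H952.F4

section
variable {K V : Type*} [Field K] [AddCommGroup V] [Module K V]

theorem rmul (ρ : Representation K A6 V) (g h : A6) (v : V) : ρ (g * h) v = ρ g (ρ h v) := by
  rw [map_mul]; rfl

theorem rone (ρ : Representation K A6 V) (v : V) : ρ 1 v = v := by rw [map_one]; rfl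

theorem rinv (ρ : Representation K A6 V) (g : A6) (v : V) : ρ g⁻¹ (ρ g v) = v := by
  rw [← rmul, inv_mul_cancel, rone]

/-- the vectors fixed by the stabilizer of the point 5 -/
def Fx (ρ : Representation K A6 V) : Submodule K V where
  carrier := {v | ∀ g : A6, (g : Equiv.Perm (Fin 6)) 5 = 5 → ρ g v = v}
  add_mem' := by
    intro a b ha hb g hg
    rw [map_add, ha g hg, hb g hg]
  zero_mem' := by
    intro g _
    rw [map_zero]
  smul_mem' := by
    intro c a ha g hg
    rw [map_smul, ha g hg]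

theorem mem_Fx {ρ : Representation K A6 V} {v : V} : v ∈ Fx ρ ↔ ∀ g : A6, (g : Equiv.Perm (Fin 6)) 5 = 5 → ρ g v = v :=
  Iff.rfl

/-- a transversal -/
def tr : Fin 6 → A6 := ![s 0, s 1, s 2, s 3, s 0 * s 0, 1]

theorem tr_five : ∀ j : Fin 6, (tr j : Equiv.Perm (Fin 6)) 5 = j := by decide

/-- the six conjugates -/
def cv (ρ : Representation K A6 V) (v : V) (j : Fin 6) : V := ρ (tr j) v

theorem cv_five (ρ : Representation K A6 V) (v : V) : cv ρ v 5 = v := rone ρ v

theorem cv_act {ρ : Representation K A6 V} {v : V} (hv : v ∈ Fx ρ) (g : A6) (j : Fin 6) :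
    ρ g (cv ρ v j) = cv ρ v ((g : Equiv.Perm (Fin 6)) j) := by
  have h1 : (((tr ((g : Equiv.Perm (Fin 6)) j))⁻¹ * g * tr j : A6) : Equiv.Perm (Fin 6)) 5 = 5 := by
    change ((tr ((g : Equiv.Perm (Fin 6)) j) : Equiv.Perm (Fin 6)))⁻¹ ((g : Equiv.Perm (Fin 6))
      ((tr j : Equiv.Perm (Fin 6)) 5)) = 5
    rw [tr_five, Equiv.Perm.inv_eq_iff_eq, tr_five]
  have h2 := hv _ h1
  have h3 := congrArg (ρ (tr ((g : Equiv.Perm (Fin 6)) j))) h2
  rw [← rmul] at h3
  have e : tr ((g : Equiv.Perm (Fin 6)) j) * ((tr ((g : Equiv.Perm (Fin 6)) j))⁻¹ * g * tr j) = g * tr j := by group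
  rw [e, rmul] at h3
  exact h3

theorem cv_add (ρ : Representation K A6 V) (v w : V) (j : Fin 6) : cv ρ (v + w) j = cv ρ v j + cv ρ w j := map_add _ _ _
theorem cv_smul (ρ : Representation K A6 V) (c : K) (v : V) (j : Fin 6) : cv ρ (c • v) j = c • cv ρ v j := map_smul _ _ _

theorem cv_sum {ρ : Representation K A6 V} (hi : ρ.invariants = ⊥) {v : V} (hv : v ∈ Fx ρ) : ∑ j, cv ρ v j = 0 := by
  rw [← Submodule.mem_bot K, ← hi, Representation.mem_invariants]
  intro g
  rw [map_sum, Finset.sum_congr rfl fun j _ => cv_act hv g j]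
  exact Equiv.sum_comp (g : Equiv.Perm (Fin 6)) (cv ρ v)

/-- the averaging of the two point stabilizer `D₁₀ = ⟨zz, w0⟩` -/
def D : Fin 5 → Bool → A6 := fun i b => zz ^ (i : ℕ) * cond b w0 1

theorem sum_D (ρ : Representation K A6 V) {v : V} (hv : v ∈ Fx ρ) (j : Fin 6) (hj : j ≠ 5) :
    ∑ i, ∑ b, ρ (D i b) (cv ρ v j) = (2 : K) • ∑ k : Fin 5, cv ρ v k.castSucc := by
  have key : ∀ j : Fin 6, j ≠ 5 → ∀ b : Bool, (Finset.univ.val.map fun i : Fin 5 => (D i b : Equiv.Perm (Fin 6)) j) =
      Finset.univ.val.map fun i : Fin 5 => i.castSucc := by decide +kernel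
  have h1 : ∀ b : Bool, ∑ i, ρ (D i b) (cv ρ v j) = ∑ k : Fin 5, cv ρ v k.castSucc := by
    intro b
    rw [Finset.sum_congr rfl fun i _ => cv_act hv (D i b) j]
    have h := congrArg (fun m => (Multiset.map (cv ρ v) m).sum) (key j hj b)
    simp only [Multiset.map_map] at h
    exact h
  rw [Finset.sum_comm, Finset.sum_congr rfl fun b _ => h1 b, Fintype.sum_bool, two_smul]

end

end Cfsg.Agent.H505.E6Three
end

-- part: H505/E6Three/Proj
section
/-!
# S5927, `six_three` (K7): the projection on the fixed vectors of `D₁₀`, characteristic 3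
-/

set_option autoImplicit false

namespace Cfsg.Agent.H505.E6Three

open Module Cfsg.Agent.H952.F4

section
variable {K V : Type*} [Field K] [AddCommGroup V] [Module K V]

/-- the fixed vectors of `D₁₀` -/
def U (ρ : Representation K A6 V) : Submodule K V := es (ρ zz) 1 ⊓ es (ρ w0) 1

theorem mem_U {ρ : Representation K A6 V} {v : V} : v ∈ U ρ ↔ ρ zz v = v ∧ ρ w0 v = v := by
  rw [U, Submodule.mem_inf]
  simp only [es, Module.End.mem_eigenspace_iff, one_smul]

/-- the projection (characteristic 3: `1/10 = 1`) -/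
noncomputable def P (ρ : Representation K A6 V) : Module.End K V := ∑ i, ∑ b, ρ (D i b)

theorem P_apply (ρ : Representation K A6 V) (v : V) : P ρ v = ∑ i, ∑ b, ρ (D i b) v := by
  rw [P, LinearMap.sum_apply]
  exact Finset.sum_congr rfl fun i _ => LinearMap.sum_apply _ _ _

theorem zz_D : ∀ (i : Fin 5) (b : Bool), zz * D i b = D (i + 1) b := by decide +kernel
theorem w0_D : ∀ (i : Fin 5) (b : Bool), w0 * D i b = D (-i) (!b) := by decide +kernel
theorem D_inv : ∀ (i : Fin 5) (b : Bool), (D i b)⁻¹ = D (cond b i (-i)) b := by decide +kernel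

theorem zz_P (ρ : Representation K A6 V) (v : V) : ρ zz (P ρ v) = P ρ v := by
  rw [P_apply, map_sum, Finset.sum_congr rfl fun i _ => map_sum _ _ _]
  simp only [← rmul, zz_D]
  exact Equiv.sum_comp (Equiv.addRight (1 : Fin 5)) fun i => ∑ b, ρ (D i b) v

theorem w0_P (ρ : Representation K A6 V) (v : V) : ρ w0 (P ρ v) = P ρ v := by
  rw [P_apply, map_sum, Finset.sum_congr rfl fun i _ => map_sum _ _ _]
  simp only [← rmul, w0_D]
  have h1 : ∀ i : Fin 5, ∑ b : Bool, ρ (D (-i) (!b)) v = ∑ b : Bool, ρ (D (-i) b) v := by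
    intro i
    rw [Fintype.sum_bool, Fintype.sum_bool, add_comm]
    rfl
  rw [Finset.sum_congr rfl fun i _ => h1 i]
  exact Equiv.sum_comp (Equiv.neg (Fin 5)) fun i => ∑ b, ρ (D i b) v

theorem P_mem (ρ : Representation K A6 V) (v : V) : P ρ v ∈ U ρ := mem_U.2 ⟨zz_P ρ v, w0_P ρ v⟩

theorem D_fix {ρ : Representation K A6 V} {v : V} (hv : v ∈ U ρ) (i : Fin 5) (b : Bool) : ρ (D i b) v = v := by
  obtain ⟨h1, h2⟩ := mem_U.1 hv
  have h3 : ∀ k : ℕ, ρ (zz ^ k) v = v := by
    intro k
    induction k with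
    | zero => rw [pow_zero, rone]
    | succ k ih => rw [pow_succ, rmul, h1, ih]
  cases b
  · change ρ (zz ^ (i : ℕ) * 1) v = v
    rw [mul_one, h3]
  · change ρ (zz ^ (i : ℕ) * w0) v = v
    rw [rmul, h2, h3]

variable [CharP K 3]

variable (K) in
theorem three_eq : (3 : K) = 0 := by
  have := CharP.cast_eq_zero K 3
  exact_mod_cast this

theorem P_of_mem {ρ : Representation K A6 V} {v : V} (hv : v ∈ U ρ) : P ρ v = v := by
  rw [P_apply, Finset.sum_congr rfl fun i _ => Finset.sum_congr rfl fun b _ => D_fix hv i b]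
  rw [Finset.sum_const, Finset.sum_const, smul_smul]
  have h3 := three_eq K
  have : ((Finset.univ : Finset (Fin 5)).card * (Finset.univ : Finset Bool).card) • v = ((10 : K)) • v := by
    rw [← Nat.cast_smul_eq_nsmul K]
    norm_num
  rw [this, show (10 : K) = 1 by linear_combination 3 * h3, one_smul]

theorem isProj (ρ : Representation K A6 V) : LinearMap.IsProj (U ρ) (P ρ) :=
  ⟨P_mem ρ, fun _ hv => P_of_mem hv⟩

theorem P_P (ρ : Representation K A6 V) (v : V) : P ρ (P ρ v) = P ρ v := P_of_mem (P_mem ρ v)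

theorem P_cv {ρ : Representation K A6 V} (hi : ρ.invariants = ⊥) {v : V} (hv : v ∈ Fx ρ) (j : Fin 6) :
    P ρ (cv ρ v j) = v := by
  have hD5 : ∀ (i : Fin 5) (b : Bool), (D i b : Equiv.Perm (Fin 6)) 5 = 5 := by decide +kernel
  have h3 := three_eq K
  by_cases hj : j = 5
  · subst hj
    rw [cv_five]
    apply P_of_mem
    rw [mem_U]
    exact ⟨hv _ (by decide), hv _ (by decide)⟩
  · rw [P_apply, sum_D ρ hv j hj]
    have h1 := cv_sum hi hv
    rw [Fin.sum_univ_castSucc] at h1
    have h2 : ∑ k : Fin 5, cv ρ v k.castSucc = - v := by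
      have h4 : cv ρ v (Fin.last 5) = v := cv_five ρ v
      rw [h4] at h1
      exact eq_neg_of_add_eq_zero_left h1
    rw [h2, smul_neg, ← neg_smul, show (-2 : K) = 1 by linear_combination (-1 : K) * h3, one_smul]

theorem P_rho {ρ : Representation K A6 V} (hi : ρ.invariants = ⊥) {v : V} (hv : v ∈ Fx ρ) (g : A6) :
    P ρ (ρ g v) = v := by
  have h1 : ρ g v = cv ρ v ((g : Equiv.Perm (Fin 6)) 5) := by
    rw [← cv_act hv, cv_five]
  rw [h1]
  exact P_cv hi hv _

omit [CharP K 3] in
/-- adjointness -/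
theorem P_adj {V' : Type*} [AddCommGroup V'] [Module K V'] {ρ : Representation K A6 V} {ρ' : Representation K A6 V'}
    {B : V →ₗ[K] V' →ₗ[K] K} (hB : ∀ g v w, B (ρ g v) (ρ' g w) = B v w) (v : V) (w : V') :
    B (P ρ v) w = B v (P ρ' w) := by
  have h1 : ∀ g, B (ρ g v) w = B v (ρ' g⁻¹ w) := by
    intro g
    rw [← hB g v (ρ' g⁻¹ w), ← rmul, mul_inv_cancel, rone]
  rw [P_apply, P_apply, map_sum, LinearMap.sum_apply, map_sum]
  simp only [map_sum, LinearMap.sum_apply, h1, D_inv]
  conv_lhs => rw [Finset.sum_comm]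
  conv_rhs => rw [Finset.sum_comm]
  refine Finset.sum_congr rfl fun b _ => ?_
  cases b
  · exact Equiv.sum_comp (Equiv.neg (Fin 5)) fun i => B v (ρ' (D i false) w)
  · rfl

end

end Cfsg.Agent.H505.E6Three
end

-- part: H505/E6Three/Trace
section
/-!
# S5927, `six_three` (K7): traces
-/

set_option autoImplicit false

namespace Cfsg.Agent.H505.E6Three

open Module Cfsg.Agent.H952.F4

section
variable {K V : Type*} [Field K] [AddCommGroup V] [Module K V]

theorem tr_conj (ρ : Representation K A6 V) (k g : A6) :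
    LinearMap.trace K V (ρ (k * g * k⁻¹)) = LinearMap.trace K V (ρ g) := by
  rw [map_mul ρ, map_mul ρ, LinearMap.trace_mul_comm, ← mul_assoc, ← map_mul ρ, inv_mul_cancel, map_one, one_mul]

theorem tr_zz_inv (ρ : Representation K A6 V) : LinearMap.trace K V (ρ (zz ^ 4)) = LinearMap.trace K V (ρ zz) := by
  rw [show zz ^ 4 = w0 * zz * w0⁻¹ by decide +kernel, tr_conj]

theorem tr_zz_inv2 (ρ : Representation K A6 V) :
    LinearMap.trace K V (ρ (zz ^ 3)) = LinearMap.trace K V (ρ (zz ^ 2)) := by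
  rw [show zz ^ 3 = w0 * zz ^ 2 * w0⁻¹ by decide +kernel, tr_conj]

variable [CharP K 3] [FiniteDimensional K V]

theorem trace_five (ρ : Representation K A6 V) (hd : finrank K V = 27) (h5 : ev (ρ zz) 1 = 5) :
    LinearMap.trace K V (ρ zz) + LinearMap.trace K V (ρ (zz ^ 2)) = -1 := by
  have h3 := three_eq K
  let S : Module.End K V := -∑ i : Fin 5, ρ (zz ^ (i : ℕ))
  have hS : ∀ v, S v = -∑ i : Fin 5, ρ (zz ^ (i : ℕ)) v := by
    intro v
    change -((∑ i : Fin 5, ρ (zz ^ (i : ℕ))) v) = _
    rw [LinearMap.sum_apply]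
  have hz : ∀ i : Fin 5, zz * zz ^ (i : ℕ) = zz ^ ((i + 1 : Fin 5) : ℕ) := by decide +kernel
  have hp : LinearMap.IsProj (es (ρ zz) 1) S := by
    constructor
    · intro v
      rw [es, Module.End.mem_eigenspace_iff, one_smul, hS, map_neg, map_sum]
      congr 1
      simp only [← rmul, hz]
      exact Equiv.sum_comp (Equiv.addRight (1 : Fin 5)) fun i => ρ (zz ^ (i : ℕ)) v
    · intro v hv
      rw [es, Module.End.mem_eigenspace_iff, one_smul] at hv
      have h1 : ∀ k : ℕ, ρ (zz ^ k) v = v := by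
        intro k
        induction k with
        | zero => rw [pow_zero, rone]
        | succ k ih => rw [pow_succ, rmul, hv, ih]
      rw [hS, Finset.sum_congr rfl fun i _ => h1 _, Finset.sum_const, Finset.card_univ, Fintype.card_fin,
        ← Nat.cast_smul_eq_nsmul K, ← neg_smul]
      rw [show (-((5 : ℕ) : K)) = 1 by push_cast; linear_combination (-2 : K) * h3, one_smul]
  have ht := hp.trace
  have e1 : LinearMap.trace K V S = -∑ i : Fin 5, LinearMap.trace K V (ρ (zz ^ (i : ℕ))) := by
    change LinearMap.trace K V (-∑ i : Fin 5, ρ (zz ^ (i : ℕ))) = _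
    rw [map_neg, map_sum]
  have e2 : finrank K ↥(es (ρ zz) 1) = 5 := h5
  rw [e1, e2, Fin.sum_univ_five] at ht
  have e0 : LinearMap.trace K V (ρ (zz ^ ((0 : Fin 5) : ℕ))) = 0 := by
    change LinearMap.trace K V (ρ (zz ^ 0)) = 0
    rw [pow_zero, map_one, LinearMap.trace_one, hd]
    push_cast
    linear_combination (9 : K) * h3
  have q1 : LinearMap.trace K V (ρ (zz ^ ((1 : Fin 5) : ℕ))) = LinearMap.trace K V (ρ zz) := by
    change LinearMap.trace K V (ρ (zz ^ 1)) = _
    rw [pow_one]
  have q2 : LinearMap.trace K V (ρ (zz ^ ((2 : Fin 5) : ℕ))) = LinearMap.trace K V (ρ (zz ^ 2)) := rfl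
  have q3 : LinearMap.trace K V (ρ (zz ^ ((3 : Fin 5) : ℕ))) = LinearMap.trace K V (ρ (zz ^ 2)) := tr_zz_inv2 ρ
  have q4 : LinearMap.trace K V (ρ (zz ^ ((4 : Fin 5) : ℕ))) = LinearMap.trace K V (ρ zz) := tr_zz_inv ρ
  rw [e0, q1, q2, q3, q4] at ht
  push_cast at ht
  linear_combination ht + (LinearMap.trace K V (ρ zz) + LinearMap.trace K V (ρ (zz ^ 2)) + 2) * h3

/-- the trace of `P ρ(c)` is zero -/
theorem trace_P_cc (ρ : Representation K A6 V) (hd : finrank K V = 27) (h5 : ev (ρ zz) 1 = 5)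
    (h4 : ∀ g : A6, g * g ≠ 1 → g ^ 4 = 1 → LinearMap.trace K V (ρ g) = -1) :
    LinearMap.trace K V (P ρ * ρ cc) = 0 := by
  have h3 := three_eq K
  have h1 : P ρ * ρ cc = ∑ i, ∑ b, ρ (D i b * cc) := by
    rw [P, Finset.sum_mul]
    refine Finset.sum_congr rfl fun i _ => ?_
    rw [Finset.sum_mul]
    exact Finset.sum_congr rfl fun b _ => (map_mul _ _ _).symm
  have h2 := trace_five ρ hd h5
  rw [h1, map_sum, Fin.sum_univ_five]
  simp only [Fintype.sum_bool, map_add]
  rw [h4 (D 0 true * cc) (by decide +kernel) (by decide +kernel),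
    h4 (D 0 false * cc) (by decide +kernel) (by decide +kernel),
    show D 1 false * cc = (w1 * cc * zz * cc) * zz ^ 2 * (w1 * cc * zz * cc)⁻¹ by decide +kernel,
    show D 2 false * cc = (cc⁻¹ * zz * d3 * cc⁻¹) * zz * (cc⁻¹ * zz * d3 * cc⁻¹)⁻¹ by decide +kernel,
    show D 3 false * cc = (d3⁻¹ * zz * zz * cc) * zz * (d3⁻¹ * zz * zz * cc)⁻¹ by decide +kernel,
    show D 4 false * cc = (zz * d3⁻¹ * cc) * zz ^ 2 * (zz * d3⁻¹ * cc)⁻¹ by decide +kernel,
    show D 1 true * cc = (cc * zz * cc * d3) * zz ^ 2 * (cc * zz * cc * d3)⁻¹ by decide +kernel,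
    show D 2 true * cc = (zz * d3 * zz * cc⁻¹) * zz * (zz * d3 * zz * cc⁻¹)⁻¹ by decide +kernel,
    show D 3 true * cc = (zz * d3 * cc) * zz * (zz * d3 * cc)⁻¹ by decide +kernel,
    show D 4 true * cc = (w1 * zz * cc⁻¹) * zz ^ 2 * (w1 * zz * cc⁻¹)⁻¹ by decide +kernel]
  simp only [tr_conj]
  linear_combination 4 * h2 - 2 * h3

end

section
variable {K V V' : Type*} [Field K] [CharP K 3] [AddCommGroup V] [Module K V] [FiniteDimensional K V]
  [AddCommGroup V'] [Module K V'] [FiniteDimensional K V']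

/-- the contradiction (3) -/
theorem kill (ρ : Representation K A6 V) (ρ' : Representation K A6 V') (B : V →ₗ[K] V' →ₗ[K] K)
    (hB : ∀ g v w, B (ρ g v) (ρ' g w) = B v w) (hnd : ∀ w, (∀ v, B v w = 0) → w = 0)
    (hd : finrank K V = 27) (h5 : ev (ρ zz) 1 = 5)
    (h4 : ∀ g : A6, g * g ≠ 1 → g ^ 4 = 1 → LinearMap.trace K V (ρ g) = -1) (hU : finrank K ↥(U ρ) = 4)
    (U1 : Submodule K V) (U1' : Submodule K V') (hU1 : U1 ≤ U ρ) (hU1' : U1' ≤ U ρ')
    (hc : ∀ u ∈ U1, P ρ (ρ cc u) = u) (hc' : ∀ u ∈ U1', P ρ' (ρ' cc⁻¹ u) = u)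
    (hz : ∀ u ∈ U1, ∀ w ∈ U1', B u w = 0) (hdim : 4 ≤ finrank K ↥U1 + finrank K ↥U1') : False := by
  have h3 := three_eq K
  -- the annihilator of `U1'` in `U`
  let b : ↥(U ρ) →ₗ[K] Module.Dual K ↥U1' :=
    (LinearMap.lcomp K K U1'.subtype) ∘ₗ B ∘ₗ (U ρ).subtype
  have hb : ∀ (u : ↥(U ρ)) (w : ↥U1'), b u w = B u w := fun _ _ => rfl
  have hbs : LinearMap.range b = ⊤ := by
    have hinj : Function.Injective b.flip := by
      rw [← LinearMap.ker_eq_bot, eq_bot_iff]
      intro w hw
      have hw' := LinearMap.mem_ker.1 hw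
      refine (Submodule.mem_bot K).2 (Subtype.ext (hnd w fun v => ?_))
      have e1 : B (P ρ v) w = 0 := by
        have := LinearMap.congr_fun hw' ⟨P ρ v, P_mem ρ v⟩
        exact this
      rw [P_adj hB, P_of_mem (hU1' w.2)] at e1
      exact e1
    apply Submodule.eq_top_of_finrank_eq
    have e3 : (LinearMap.range b).dualCoannihilator = ⊥ := by
      rw [eq_bot_iff]
      intro w hw
      rw [Submodule.mem_dualCoannihilator] at hw
      refine (Submodule.mem_bot K).2 (hinj ?_)
      rw [map_zero]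
      refine LinearMap.ext fun u => ?_
      exact hw (b u) ⟨u, rfl⟩
    have e4 := Subspace.finrank_add_finrank_dualCoannihilator_eq (LinearMap.range b)
    rw [e3, finrank_bot, add_zero] at e4
    rw [Subspace.dual_finrank_eq]
    exact e4
  have hk := LinearMap.finrank_range_add_finrank_ker b
  rw [hbs, finrank_top, Subspace.dual_finrank_eq, hU] at hk
  have hle : U1 ≤ (LinearMap.ker b).map (U ρ).subtype := by
    intro u hu
    refine ⟨⟨u, hU1 hu⟩, ?_, rfl⟩
    rw [SetLike.mem_coe, LinearMap.mem_ker]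
    refine LinearMap.ext fun w => ?_
    exact hz u hu w w.2
  have heq : U1 = (LinearMap.ker b).map (U ρ).subtype := by
    apply Submodule.eq_of_le_of_finrank_le hle
    rw [Submodule.finrank_map_subtype_eq]
    omega
  have hmem : ∀ u ∈ U ρ, (∀ w ∈ U1', B u w = 0) → u ∈ U1 := by
    intro u hu hw
    rw [heq]
    refine ⟨⟨u, hu⟩, ?_, rfl⟩
    rw [SetLike.mem_coe, LinearMap.mem_ker]
    refine LinearMap.ext fun w => ?_
    exact hw w w.2
  -- the nilpotent operator
  let N : Module.End K V := P ρ * ρ cc * P ρ - P ρ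
  have hN : ∀ v, N v = P ρ (ρ cc (P ρ v)) - P ρ v := fun _ => rfl
  have hN1 : ∀ v, N v ∈ U1 := by
    intro v
    apply hmem
    · rw [hN]
      exact sub_mem (P_mem ρ _) (P_mem ρ _)
    · intro w hw
      have e1 : B (ρ cc (P ρ v)) (P ρ' w) = B (P ρ v) w := by
        rw [P_of_mem (hU1' hw)]
        have e2 : B (ρ cc (P ρ v)) w = B (P ρ v) (ρ' cc⁻¹ w) := by
          rw [← hB cc (P ρ v) (ρ' cc⁻¹ w), ← rmul, mul_inv_cancel, rone]
        rw [e2, P_adj hB, hc' w hw, P_adj hB, P_of_mem (hU1' hw)]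
      rw [hN, map_sub, LinearMap.sub_apply, P_adj hB, e1, sub_self]
  have hN2 : ∀ u ∈ U1, N u = 0 := by
    intro u hu
    rw [hN, P_of_mem (hU1 hu), hc u hu, sub_self]
  have hnil : IsNilpotent N := by
    refine ⟨2, LinearMap.ext fun v => ?_⟩
    rw [pow_two]
    exact hN2 _ (hN1 v)
  have ht := (LinearMap.isNilpotent_trace_of_isNilpotent hnil).eq_zero
  have ht1 : LinearMap.trace K V N = LinearMap.trace K V (P ρ * ρ cc) - LinearMap.trace K V (P ρ) := by
    change LinearMap.trace K V (P ρ * ρ cc * P ρ - P ρ) = _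
    rw [map_sub, LinearMap.trace_mul_comm, ← mul_assoc]
    have : P ρ * P ρ = P ρ := LinearMap.ext fun v => P_P ρ v
    rw [this]
  have ht2 := (isProj ρ).trace
  rw [ht1, trace_P_cc ρ hd h5 h4, ht2, hU] at ht
  push_cast at ht
  have h1 : (1 : K) = 0 := by linear_combination -ht - h3
  exact one_ne_zero h1

end

end Cfsg.Agent.H505.E6Three
end

private theorem dce_9bd1d831f946 : _root_.True := by
  try have : _root_.True := by simp only [_root_.Cfsg.Agent.H505.E6Three.U.eq_1]
  try have : _root_.True := by simp only [_root_.Cfsg.Agent.H505.E6Three.P.eq_1]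
  try have : _root_.True := by simp only [_root_.Cfsg.Agent.H952.F4.es.eq_1]
  exact _root_.True.intro
end

-- part: H200/E6Two
section
prune_inst 0x10004000062000000000506120000240000000000000000880000040000c2000000000010101000000014805008000000000000406000000e003400000000208080400022400004240017800000000000000000000000000000000000000000000000000
set_option linter.all false
open scoped Cfsg.Agent.FastGrp

/-!
# S5927: `Tor.two_two`, `Tor.two_four` (helper200)

Involutions (and elements of order 4) of the simply connected group `Zgrp F` of type `E₆` in characteristic 2: dimensions of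
the fixed spaces on the 27-dimensional module.
-/

set_option autoImplicit false

namespace Cfsg.Agent.H200.E6Two

open Cfsg Cfsg.Lie Module
open Cfsg.Agent.ChevalleyStructure.E6Min.Tables Cfsg.Agent.ChevalleyStructure.E6Min.Basic
  Cfsg.Agent.ChevalleyStructure.E6Min.Adjoint Cfsg.Agent.ChevalleyStructure.E6Min.Checks2
open Cfsg.Agent.ChevalleyStructure.Elts Cfsg.Agent.H83.ChevInv
open Cfsg.Agent.H952.F4 (ev es matRep)
open Cfsg.Agent.H163.E6 (V V_apply)
open scoped Matrix

theorem hp : Cfsg.Agent.Nodes.RGDChev.IsType chevE6 6 CoxeterMatrix.E₆ := by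
  simp [Cfsg.Agent.Nodes.RGDChev.IsType, Cfsg.Agent.Nodes.RGDChev.typeList]

/-! ### the table -/

/-- the rows occurring in the row `j` of a product of root elements -/
def rws : List ℕ → ℕ → List ℕ
  | [], j => [j]
  | r :: R, j => rws R j ++ (if sgN r j = 0 then [] else rws R (srN r j))

/-- the vectors which are constant on the classes of `kl` are fixed (modulo 2) -/
def chk (R kl : List ℕ) : Bool :=
  (allLt 27 fun j => allLt 15 fun κ =>
    ((((rws R j).map fun m => kl.getD m 15).count κ + (if kl.getD j 15 = κ then 1 else 0)) % 2 == 0)) &&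
  (allLt 15 fun κ => !(allLt 27 fun j => !(kl.getD j 15 == κ))) && (R.all fun r => decide (r < 72))

def kl0 : List ℕ := [0, 1, 2, 3, 4, 5, 6, 7, 8, 9, 10, 11, 12, 13, 14]
def kl1 : List ℕ := [0, 1, 2, 3, 4, 5, 6, 7, 8, 9, 15, 10, 11, 15, 12, 13, 15, 14]
def kl2 : List ℕ := [0, 1, 2, 15, 3, 4, 15, 5, 6, 7, 15, 8, 9, 15, 15, 10, 15, 15, 15, 15, 15, 15, 11, 12, 13, 14]
def kl3 : List ℕ := [0, 12, 1, 12, 2, 3, 15, 15, 4, 5, 13, 15, 6, 14, 15, 7, 15, 15, 15, 15, 15, 13, 14, 8, 9, 10, 11]

theorem chk0 : chk [] kl0 = true := by decide +kernel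
theorem chk1 : chk [71] kl1 = true := by decide +kernel
theorem chk2 : chk [71, 60] kl2 = true := by decide +kernel
theorem chk3 : chk [71, 60, 44] kl3 = true := by decide +kernel

/-- the weights are distinguished by the roots -/
theorem sep_all : allLt 27 (fun i => allLt 27 fun j => (i == j) || !(allLt 72 fun r => decide (indN r i = indN r j))) =
    true := by decide +kernel

theorem allLt_false {n : ℕ} {p : ℕ → Bool} (h : allLt n p = false) : ∃ k, k < n ∧ p k = false := by
  by_contra hcon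
  push Not at hcon
  have : allLt n p = true := by
    have h1 : ∀ m, m ≤ n → allLt m p = true := by
      intro m
      induction m with
      | zero => intro _; rfl
      | succ m ih =>
        intro hm
        change (p m && allLt m p) = true
        rw [Bool.and_eq_true]
        exact ⟨by
          have := hcon m (by omega)
          simpa using this, ih (by omega)⟩
    exact h1 n le_rfl
  rw [this] at h
  exact absurd h (by decide)

theorem sep {x y : I27} (h : x ≠ y) : ∃ r < 72, ind r x ≠ ind r y := by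
  have h1 := allLt_spec (allLt_spec sep_all _ (code_lt x)) _ (code_lt y)
  rw [Bool.or_eq_true] at h1
  rcases h1 with h2 | h2
  · exact absurd (code_injective (by simpa using h2)) h
  · rw [Bool.not_eq_true'] at h2
    obtain ⟨r, hr, h3⟩ := allLt_false h2
    exact ⟨r, hr, by simpa [ind] using h3⟩

section

variable {F : Type*} [Field F] [CharP F 2]

theorem two0 : (2 : F) = 0 := CharTwo.two_eq_zero

/-- product of root elements -/
def zP (F : Type*) [CommRing F] (R : List ℕ) : Matrix I27 I27 F := (R.map fun r => zM r 1).prod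

theorem zP_mulVec {R : List ℕ} (hR : ∀ r ∈ R, r < 72) (v : I27 → F) (x : I27) :
    (zP F R *ᵥ v) x = ((rws R (code x)).map fun m => v (dec m)).sum := by
  induction R generalizing x with
  | nil =>
    change ((1 : Matrix I27 I27 F) *ᵥ v) x = _
    rw [Matrix.one_mulVec]
    simp [rws, dec_code]
  | cons r R ih =>
    have hr : r < 72 := hR r (by simp)
    have ih' := ih fun s hs => hR s (by simp [hs])
    have h1 : zP F (r :: R) = zM r 1 * zP F R := by
      unfold zP
      rw [List.map_cons, List.prod_cons]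
    have h2 : rws (r :: R) (code x) =
      rws R (code x) ++ (if sgN r (code x) = 0 then [] else rws R (srN r (code x))) := rfl
    rw [h1, ← Matrix.mulVec_mulVec, zM_mulVec, ih', one_mul, ih', code_sr hr, h2,
      List.map_append, List.sum_append]
    congr 1
    unfold sg
    split_ifs with h4
    · rw [h4]
      simp
    · have h3 : ((sgN r (code x) : ℤ) : F) = 1 := by
        unfold sgN at h4 ⊢
        split_ifs at h4 ⊢
        · exact absurd rfl h4
        · exact Int.cast_one
        · rw [Int.cast_neg, Int.cast_one, CharTwo.neg_eq]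
      rw [h3, one_mul]

omit [CharP F 2] in
theorem sum_map_count (L : List ℕ) (c : ℕ → F) (hc : ∀ κ, 15 ≤ κ → c κ = 0) :
    (L.map c).sum = ∑ κ ∈ Finset.range 15, (L.count κ : F) * c κ := by
  induction L with
  | nil => simp
  | cons a L ih =>
    rw [List.map_cons, List.sum_cons, ih]
    have h1 : c a = ∑ κ ∈ Finset.range 15, (if a = κ then (1 : F) else 0) * c κ := by
      by_cases ha : a < 15
      · rw [Finset.sum_eq_single a]
        · rw [if_pos rfl, one_mul]
        · intro b _ hb
          rw [if_neg (Ne.symm hb), zero_mul]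
        · intro h
          exact absurd (Finset.mem_range.2 ha) h
      · rw [hc a (by omega), Finset.sum_eq_zero]
        intro b hb
        rw [Finset.mem_range] at hb
        rw [if_neg (by omega), zero_mul]
    rw [h1, ← Finset.sum_add_distrib]
    apply Finset.sum_congr rfl
    intro κ _
    rw [List.count_cons, ← add_mul]
    congr 1
    by_cases h2 : a = κ
    · simp [h2, add_comm]
    · simp [h2]

/-- the fixed vectors -/
def fv (kl : List ℕ) (c : ℕ → F) : I27 → F := fun x => c (kl.getD (code x) 15)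

theorem fv_fixed {R kl : List ℕ} (h : chk R kl = true) (c : ℕ → F) (hc : ∀ κ, 15 ≤ κ → c κ = 0) :
    zP F R *ᵥ fv kl c = fv kl c := by
  unfold chk at h
  rw [Bool.and_eq_true, Bool.and_eq_true] at h
  obtain ⟨⟨h1, -⟩, h3⟩ := h
  have hR : ∀ r ∈ R, r < 72 := fun r hr => by
    rw [List.all_eq_true] at h3
    simpa using h3 r hr
  funext x
  rw [zP_mulVec hR]
  have h4 : ((rws R (code x)).map fun m => fv kl c (dec m)) = ((rws R (code x)).map fun m => kl.getD m 15).map c := by
    rw [List.map_map]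
    apply List.map_congr_left
    intro m hm
    have hm27 : m < 27 := by
      have : ∀ (R : List ℕ) (j : ℕ), (∀ r ∈ R, r < 72) → j < 27 → ∀ m ∈ rws R j, m < 27 := by
        intro R
        induction R with
        | nil =>
          intro j _ hj m hm
          simp only [rws, List.mem_singleton] at hm
          omega
        | cons r R ih =>
          intro j hR hj m hm
          unfold rws at hm
          rw [List.mem_append] at hm
          rcases hm with hm | hm
          · exact ih j (fun s hs => hR s (by simp [hs])) hj m hm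
          · split_ifs at hm with h5
            · simp at hm
            · exact ih _ (fun s hs => hR s (by simp [hs])) (srN_lt (hR r (by simp)) hj) m hm
      exact this R _ hR (code_lt x) m hm
    change c (kl.getD (code (dec m)) 15) = c (kl.getD m 15)
    rw [code_dec hm27]
  rw [h4, sum_map_count _ _ hc]
  have h5 : fv kl c x = ∑ κ ∈ Finset.range 15, (if kl.getD (code x) 15 = κ then (1 : F) else 0) * c κ := by
    have := sum_map_count [kl.getD (code x) 15] c hc
    simp only [List.map_cons, List.map_nil, List.sum_cons, List.sum_nil, add_zero] at this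
    change c _ = _
    rw [this]
    apply Finset.sum_congr rfl
    intro κ _
    congr 1
    rw [List.count_singleton]
    simp
  rw [h5]
  apply Finset.sum_congr rfl
  intro κ hκ
  congr 1
  have h6 := allLt_spec (allLt_spec h1 _ (code_lt x)) κ (Finset.mem_range.1 hκ)
  rw [beq_iff_eq] at h6
  obtain ⟨a, ha⟩ : ∃ a, a = (((rws R (code x)).map fun m => kl.getD m 15).count κ) := ⟨_, rfl⟩
  rw [← ha] at h6 ⊢
  have h7 : ((a + (if kl.getD (code x) 15 = κ then 1 else 0) : ℕ) : F) = 0 := by
    rw [CharP.cast_eq_zero_iff F 2]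
    exact Nat.dvd_of_mod_eq_zero h6
  split_ifs at h7 ⊢ with h8
  · push_cast at h7
    exact CharTwo.add_eq_zero.1 h7
  · simpa using h7

theorem ev_ge {R kl : List ℕ} (h : chk R kl = true) {g : ↥(Zgrp F)}
    (hg : ((g : GL I27 F) : Matrix I27 I27 F) = zP F R) : 15 ≤ ev (V F g) 1 := by
  have h' := h
  unfold chk at h'
  rw [Bool.and_eq_true, Bool.and_eq_true] at h'
  obtain ⟨⟨-, h2⟩, -⟩ := h'
  let ex : (Fin 15 → F) → ℕ → F := fun c κ => if hκ : κ < 15 then c ⟨κ, hκ⟩ else 0
  have hex : ∀ c κ, 15 ≤ κ → ex c κ = 0 := fun c κ hκ => dif_neg (by omega)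
  let θ : (Fin 15 → F) →ₗ[F] ↥(Module.End.eigenspace (V F g) (1 : F)) :=
    { toFun := fun c => ⟨fv kl (ex c), by
        rw [Module.End.mem_eigenspace_iff, one_smul, V_apply, hg]
        exact fv_fixed h _ (hex c)⟩
      map_add' := fun c c' => by
        apply Subtype.ext
        funext x
        change ex (c + c') _ = ex c _ + ex c' _
        simp only [ex]
        split_ifs
        · rfl
        · rw [add_zero]
      map_smul' := fun a c => by
        apply Subtype.ext
        funext x
        change ex (a • c) _ = a * ex c _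
        simp only [ex]
        split_ifs
        · rfl
        · rw [mul_zero] }
  have hθ : Function.Injective θ := by
    rw [injective_iff_map_eq_zero]
    intro c hc
    funext κ
    have h3 := allLt_spec h2 κ.val κ.isLt
    rw [Bool.not_eq_true'] at h3
    obtain ⟨j, hj, h4⟩ := allLt_false h3
    have h5 : kl.getD j 15 = κ.val := by simpa using h4
    have h6 := congrFun (congrArg Subtype.val hc) (dec j)
    change ex c (kl.getD (code (dec j)) 15) = 0 at h6
    rw [code_dec hj, h5] at h6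
    simp only [ex] at h6
    rw [dif_pos κ.isLt] at h6
    exact h6
  have h7 := LinearMap.finrank_le_finrank_of_injective hθ
  rw [Module.finrank_fintype_fun_eq_card, Fintype.card_fin] at h7
  exact h7

/-! ### the centre has no involution -/

theorem central_eq_one {c : ↥(Zgrp F)} (hc : ad F c = 1) (hcc : c * c = 1) : c = 1 := by
  have h1 := comm_B_of_ker hc
  have hN : ∀ r < 72, ((c : GL I27 F) : Matrix I27 I27 F) * Nm F r = Nm F r * ((c : GL I27 F) : Matrix I27 I27 F) :=
    fun r hr => h1 (Sum.inr ⟨r, hr⟩)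
  obtain ⟨C, hC⟩ : ∃ C, C = ((c : GL I27 F) : Matrix I27 I27 F) := ⟨_, rfl⟩
  rw [← hC] at hN
  have hoff : ∀ x y, x ≠ y → C x y = 0 := by
    intro x y hxy
    obtain ⟨r, hr, hne⟩ := sep hxy
    have h2 : C * (Nm F r * Nm F (71 - r)) = (Nm F r * Nm F (71 - r)) * C := by
      rw [← mul_assoc, hN r hr, mul_assoc, hN (71 - r) (by omega), ← mul_assoc]
    rw [Nm_mul_opp hr] at h2
    have h3 := congrFun (congrFun h2 x) y
    rw [Matrix.mul_diagonal, Matrix.diagonal_mul] at h3
    have h4 : C x y * (((ind r y : ℤ) : F) - ((ind r x : ℤ) : F)) = 0 := by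
      rw [mul_sub, h3]
      ring
    rcases mul_eq_zero.1 h4 with h5 | h5
    · exact h5
    · exfalso
      have ix : ind r x = 0 ∨ ind r x = 1 := by
        unfold ind indN
        split_ifs
        · exact Or.inl rfl
        · exact Or.inr rfl
      have iy : ind r y = 0 ∨ ind r y = 1 := by
        unfold ind indN
        split_ifs
        · exact Or.inl rfl
        · exact Or.inr rfl
      rcases ix with ix | ix <;> rcases iy with iy | iy <;> rw [ix, iy] at h5 hne
      · exact hne rfl
      · simp at h5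
      · simp at h5
      · exact hne rfl
  have hCC : C * C = 1 := by
    rw [hC, ← Units.val_mul, ← Subgroup.coe_mul, hcc]
    rfl
  have hdiag : ∀ x, C x x = 1 := by
    intro x
    have h2 := congrFun (congrFun hCC x) x
    rw [Matrix.mul_apply, Finset.sum_eq_single x, Matrix.one_apply_eq] at h2
    · have h3 : (C x x - 1) * (C x x - 1) = 0 := by
        linear_combination h2 + (1 - C x x) * (two0 (F := F))
      exact sub_eq_zero.1 (mul_self_eq_zero.1 h3)
    · intro y _ hy
      rw [hoff x y (Ne.symm hy), zero_mul]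
    · intro h
      exact absurd (Finset.mem_univ _) h
  apply Subtype.ext
  apply Units.ext
  rw [← hC]
  ext x y
  by_cases hxy : x = y
  · rw [hxy, hdiag]
    exact (Matrix.one_apply_eq y).symm
  · rw [hoff x y hxy]
    exact (Matrix.one_apply_ne hxy).symm

/-! ### lifting the representatives -/

/-- the product of root elements in the simply connected group -/
noncomputable def zG (F : Type*) [Field F] (R : List ℕ) : ↥(Zgrp F) :=
  (R.map fun r => (⟨zU r 1, zU_mem _ _⟩ : ↥(Zgrp F))).prod

omit [CharP F 2] in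
theorem zG_val {R : List ℕ} (hR : ∀ r ∈ R, r < 72) : ((zG F R : GL I27 F) : Matrix I27 I27 F) = zP F R := by
  induction R with
  | nil => rfl
  | cons r R ih =>
    have hr : r < 72 := hR r (by simp)
    have ih' := ih fun s hs => hR s (by simp [hs])
    have h1 : zP F (r :: R) = zM r 1 * zP F R := by
      unfold zP
      rw [List.map_cons, List.prod_cons]
    have h2 : zG F (r :: R) = ⟨zU r 1, zU_mem _ _⟩ * zG F R := by
      unfold zG
      rw [List.map_cons, List.prod_cons]
    rw [h1, h2, Subgroup.coe_mul, Units.val_mul, ih', coe_zU hr]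

omit [CharP F 2] in
theorem ad_zU {r : ℕ} (hr : r < 72) (t : F) :
    ((ad F ⟨zU r t, zU_mem _ _⟩ : chevE6.group F) : GL chevE6.Idx F) = xG hp.inList r t := by
  apply Units.ext
  refine P_unique (g := zU r t) (ad_P ⟨zU r t, zU_mem _ _⟩) ?_
  rw [coe_zU hr, coe_xG, x_of_lt (D := chevE6) hr]
  exact P_root ⟨r, hr⟩ t

omit [CharP F 2] in
theorem ad_zG {R : List ℕ} (hR : ∀ r ∈ R, r < 72) :
    ((ad F (zG F R) : chevE6.group F) : GL chevE6.Idx F) = PX hp.inList F R := by
  induction R with
  | nil =>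
    have : zG F [] = 1 := rfl
    rw [this, map_one, PX_nil]
    rfl
  | cons r R ih =>
    have hr : r < 72 := hR r (by simp)
    have ih' := ih fun s hs => hR s (by simp [hs])
    have h2 : zG F (r :: R) = ⟨zU r 1, zU_mem _ _⟩ * zG F R := by
      unfold zG
      rw [List.map_cons, List.prod_cons]
    rw [h2, map_mul, Subgroup.coe_mul, ih', ad_zU hr, PX_cons]

omit [CharP F 2] in
/-- the dimension of the eigenspace is a class function -/
theorem ev_conj (g x : ↥(Zgrp F)) (μ : F) : ev (V F (g * x * g⁻¹)) μ = ev (V F x) μ := by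
  let e : (I27 → F) ≃ₗ[F] (I27 → F) :=
    LinearEquiv.ofLinearMap (V F g) (V F g⁻¹)
      (by rw [← Module.End.mul_eq_comp, ← map_mul, mul_inv_cancel, map_one]; rfl)
      (by rw [← Module.End.mul_eq_comp, ← map_mul, inv_mul_cancel, map_one]; rfl)
  have h1 : (Module.End.eigenspace (V F x) μ).map (e : (I27 → F) →ₗ[F] (I27 → F)) =
      Module.End.eigenspace (V F (g * x * g⁻¹)) μ := by
    ext v
    rw [Submodule.mem_map, Module.End.mem_eigenspace_iff]
    constructor
    · rintro ⟨w, hw, rfl⟩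
      rw [Module.End.mem_eigenspace_iff] at hw
      change V F (g * x * g⁻¹) (V F g w) = μ • V F g w
      rw [← Module.End.mul_apply, ← map_mul, inv_mul_cancel_right, map_mul, Module.End.mul_apply, hw, map_smul]
    · intro hv
      refine ⟨V F g⁻¹ v, ?_, ?_⟩
      · rw [Module.End.mem_eigenspace_iff]
        have h2 : V F x (V F g⁻¹ v) = V F g⁻¹ (V F (g * x * g⁻¹) v) := by
          rw [← Module.End.mul_apply, ← Module.End.mul_apply, ← map_mul, ← map_mul]
          congr 2
          group
        rw [h2, hv, map_smul]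
      · change V F g (V F g⁻¹ v) = v
        rw [← Module.End.mul_apply, ← map_mul, mul_inv_cancel, map_one]
        rfl
  unfold ev
  rw [← h1]
  exact (LinearEquiv.finrank_map_eq e _)

/-- **Tor.two_two** -/
theorem two_two [Finite F] (x : ↥(Zgrp F)) (hx : x * x = 1) : 15 ≤ ev (V F x) 1 := by
  have ht : ((ad F x : chevE6.group F) : GL chevE6.Idx F) * (ad F x : chevE6.group F) = 1 := by
    rw [← Subgroup.coe_mul, ← map_mul, hx, map_one]
    rfl
  obtain ⟨R, hR, g, hg, hgR⟩ := Cfsg.Agent.H83.Count.exists_rep hp Cfsg.Agent.H83.RedESix.allchk_eq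
    (ad F x).2 ht
  obtain ⟨kl, hkl⟩ : ∃ kl, chk R kl = true := by
    simp only [Cfsg.Agent.H83.RedESix.reps, List.mem_cons, List.not_mem_nil, or_false] at hR
    rcases hR with rfl | rfl | rfl | rfl
    · exact ⟨_, chk0⟩
    · exact ⟨_, chk1⟩
    · exact ⟨_, chk2⟩
    · exact ⟨_, chk3⟩
  have hOL : OL chevE6 R := by
    simp only [Cfsg.Agent.H83.RedESix.reps, List.mem_cons, List.not_mem_nil, or_false] at hR
    rcases hR with rfl | rfl | rfl | rfl
    · exact ⟨by decide, by decide +kernel⟩
    · exact ⟨by decide, by decide +kernel⟩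
    · exact ⟨by decide, by decide +kernel⟩
    · exact ⟨by decide, by decide +kernel⟩
  have hR72 : ∀ r ∈ R, r < 72 := hOL.lt
  obtain ⟨z, hz⟩ := ad_surjective (F := F) ⟨g, hg⟩
  -- `z x z⁻¹ = u c`
  have h1 : ad F (z * x * z⁻¹) = ad F (zG F R) := by
    apply Subtype.ext
    rw [ad_zG hR72, ← hgR, map_mul, map_mul, map_inv, hz]
    rfl
  have hcker : ad F ((zG F R)⁻¹ * (z * x * z⁻¹)) = 1 := by
    rw [map_mul, map_inv, h1, inv_mul_cancel]
  have hcen : (zG F R)⁻¹ * (z * x * z⁻¹) ∈ Subgroup.center (Zgrp F) := by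
    rw [← ker_ad]
    exact hcker
  have hyy : (z * x * z⁻¹) * (z * x * z⁻¹) = 1 := by
    have : (z * x * z⁻¹) * (z * x * z⁻¹) = z * (x * x) * z⁻¹ := by group
    rw [this, hx, mul_one, mul_inv_cancel]
  -- `u` is an involution: the product of commuting involutions
  have huu : zG F R * zG F R = 1 := by
    have hsq : ∀ r, r < 72 → (⟨zU r (1 : F), zU_mem _ _⟩ : ↥(Zgrp F)) * ⟨zU r 1, zU_mem _ _⟩ = 1 := fun r hr => by
      apply Subtype.ext
      apply Units.ext
      change ((zU r (1 : F) : GL I27 F) : Matrix I27 I27 F) * ((zU r (1 : F) : GL I27 F) : Matrix I27 I27 F) = 1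
      rw [coe_zU hr, zM_mul hr, CharTwo.add_self_eq_zero, zM_zero]
    have hcm : ∀ r s, r < 72 → s < 72 → s + r ≠ 71 → kN r s = 127 →
        (⟨zU r (1 : F), zU_mem _ _⟩ : ↥(Zgrp F)) * ⟨zU s 1, zU_mem _ _⟩ =
          ⟨zU s 1, zU_mem _ _⟩ * ⟨zU r 1, zU_mem _ _⟩ := fun r s hr hs h hk => by
      apply Subtype.ext
      apply Units.ext
      change ((zU r (1 : F) : GL I27 F) : Matrix I27 I27 F) * ((zU s (1 : F) : GL I27 F) : Matrix I27 I27 F) =
        ((zU s (1 : F) : GL I27 F) : Matrix I27 I27 F) * ((zU r (1 : F) : GL I27 F) : Matrix I27 I27 F)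
      rw [coe_zU hr, coe_zU hs, zM_def, zM_def, one_smul, one_smul]
      have e := Nm_comm_of_none (F := F) hr hs h hk
      simp only [add_mul, mul_add, one_mul, mul_one]
      rw [e]
      abel
    simp only [Cfsg.Agent.H83.RedESix.reps, List.mem_cons, List.not_mem_nil, or_false] at hR
    rcases hR with rfl | rfl | rfl | rfl
    · simp [zG]
    · unfold zG
      simp only [List.map_cons, List.map_nil, List.prod_cons, List.prod_nil, mul_one]
      exact hsq 71 (by norm_num)
    · unfold zG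
      simp only [List.map_cons, List.map_nil, List.prod_cons, List.prod_nil, mul_one]
      have c1 := hcm 71 60 (by norm_num) (by norm_num) (by norm_num) (by decide +kernel)
      have s1 := hsq 71 (by norm_num)
      have s2 := hsq 60 (by norm_num)
      generalize (⟨zU 71 (1 : F), zU_mem _ _⟩ : ↥(Zgrp F)) = a at *
      generalize (⟨zU 60 (1 : F), zU_mem _ _⟩ : ↥(Zgrp F)) = b at *
      calc a * b * (a * b) = a * (b * a) * b := by group
        _ = a * (a * b) * b := by rw [c1]
        _ = (a * a) * (b * b) := by group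
        _ = 1 := by rw [s1, s2, mul_one]
    · unfold zG
      simp only [List.map_cons, List.map_nil, List.prod_cons, List.prod_nil, mul_one]
      have c1 := hcm 71 60 (by norm_num) (by norm_num) (by norm_num) (by decide +kernel)
      have c2 := hcm 71 44 (by norm_num) (by norm_num) (by norm_num) (by decide +kernel)
      have c3 := hcm 60 44 (by norm_num) (by norm_num) (by norm_num) (by decide +kernel)
      have s1 := hsq 71 (by norm_num)
      have s2 := hsq 60 (by norm_num)
      have s3 := hsq 44 (by norm_num)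
      generalize (⟨zU 71 (1 : F), zU_mem _ _⟩ : ↥(Zgrp F)) = a at *
      generalize (⟨zU 60 (1 : F), zU_mem _ _⟩ : ↥(Zgrp F)) = b at *
      generalize (⟨zU 44 (1 : F), zU_mem _ _⟩ : ↥(Zgrp F)) = c at *
      calc a * (b * c) * (a * (b * c)) = a * b * (c * a) * (b * c) := by group
        _ = a * b * (a * c) * (b * c) := by rw [c2]
        _ = a * (b * a) * (c * b) * c := by group
        _ = a * (a * b) * (b * c) * c := by rw [c1, c3]
        _ = (a * a) * (b * b) * (c * c) := by group
        _ = 1 := by rw [s1, s2, s3, mul_one, mul_one]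
  obtain ⟨c, hc⟩ : ∃ c, c = (zG F R)⁻¹ * (z * x * z⁻¹) := ⟨_, rfl⟩
  rw [← hc] at hcker hcen
  have hy : z * x * z⁻¹ = zG F R * c := by rw [hc]; group
  have hcc : c * c = 1 := by
    have h2 : zG F R * c * (zG F R * c) = (zG F R * zG F R) * (c * c) := by
      have h3 : c * zG F R = zG F R * c := (Subgroup.mem_center_iff.1 hcen (zG F R)).symm
      calc zG F R * c * (zG F R * c) = zG F R * (c * zG F R) * c := by group
        _ = zG F R * (zG F R * c) * c := by rw [h3]
        _ = _ := by group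
    rw [hy, h2, huu, one_mul] at hyy
    exact hyy
  have hc1 := central_eq_one hcker hcc
  rw [hc1, mul_one] at hy
  rw [← ev_conj z x, hy]
  exact ev_ge hkl (zG_val hR72)

/-- **Tor.two_four** -/
theorem two_four [Finite F] (x : ↥(Zgrp F)) (hx : x ^ 4 = 1) : 8 ≤ ev (V F x) 1 := by
  have h1 := two_two (x * x) (by rw [← hx, pow_succ, pow_succ, pow_succ, pow_one]; simp only [mul_assoc])
  unfold ev at h1 ⊢
  -- the map `v ↦ x v - v` from the fixed space of `x²` to the fixed space of `x`
  have add0 : ∀ v : I27 → F, v + v = 0 := fun v => by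
    funext i
    exact CharTwo.add_self_eq_zero (v i)
  obtain ⟨T, hT⟩ : ∃ T : Module.End F (I27 → F), T = V F x := ⟨_, rfl⟩
  have hTT : V F (x * x) = T * T := by rw [map_mul, hT]
  rw [hTT] at h1
  rw [← hT]
  let N : ↥(Module.End.eigenspace (T * T) (1 : F)) →ₗ[F] ↥(Module.End.eigenspace T (1 : F)) :=
    { toFun := fun v => ⟨T v.1 - v.1, by
        rw [Module.End.mem_eigenspace_iff, one_smul, map_sub]
        have h2 := v.2
        rw [Module.End.mem_eigenspace_iff, one_smul, Module.End.mul_apply] at h2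
        rw [h2, sub_eq_sub_iff_add_eq_add, add0, add0]⟩
      map_add' := fun v w => by
        apply Subtype.ext
        change T (v.1 + w.1) - (v.1 + w.1) = T v.1 - v.1 + (T w.1 - w.1)
        rw [map_add]
        abel
      map_smul' := fun a v => by
        apply Subtype.ext
        change T (a • v.1) - a • v.1 = a • (T v.1 - v.1)
        rw [map_smul, smul_sub] }
  have h2 := LinearMap.finrank_range_add_finrank_ker N
  have h3 : finrank F (LinearMap.range N) ≤ finrank F (Module.End.eigenspace T (1 : F)) :=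
    Submodule.finrank_le _
  have h4 : finrank F (LinearMap.ker N) ≤ finrank F (Module.End.eigenspace T (1 : F)) := by
    have h5 : (LinearMap.ker N).map (Module.End.eigenspace (T * T) (1 : F)).subtype ≤
        Module.End.eigenspace T (1 : F) := by
      rintro _ ⟨v, hv, rfl⟩
      rw [Module.End.mem_eigenspace_iff, one_smul]
      have h5 := congrArg Subtype.val (LinearMap.mem_ker.1 hv)
      exact sub_eq_zero.1 h5
    have h6 := Submodule.finrank_mono h5
    rw [Submodule.finrank_map_subtype_eq] at h6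
    exact h6
  omega

end

end Cfsg.Agent.H200.E6Two

namespace Cfsg.Agent.H163.E6.Tor

open Cfsg Cfsg.Lie Module
open Cfsg.Agent.ChevalleyStructure.E6Min.Basic
open Cfsg.Agent.H952.F4 (ev)

universe u

/-- E2: involutions in characteristic 2 -/
theorem two_two {F : Type u} [Field F] [Finite F] [CharP F 2] (x : ↥(Zgrp F)) (hx : x * x = 1) :
    15 ≤ ev (V F x) 1 := Cfsg.Agent.H200.E6Two.two_two x hx

/-- E2: elements of order 4 in characteristic 2 -/
theorem two_four {F : Type u} [Field F] [Finite F] [CharP F 2] (x : ↥(Zgrp F)) (hx : x ^ 4 = 1) :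
    8 ≤ ev (V F x) 1 := Cfsg.Agent.H200.E6Two.two_four x hx

end Cfsg.Agent.H163.E6.Tor

private theorem dce_ffe4e5fffca6 : _root_.True := by
  try have : _root_.True := by simp only [_root_.Cfsg.Agent.H200.E6Two.rws.eq_1]
  try have : _root_.True := by simp only [_root_.Cfsg.Agent.ChevalleyStructure.E6Min.Basic.ind.eq_1]
  try have : _root_.True := by simp only [_root_.Cfsg.Agent.H200.E6Two.rws.eq_2]
  try have : _root_.True := by simp only [_root_.Cfsg.Agent.H200.E6Two.zG.eq_1]
  try have : _root_.True := by simp only [_root_.Cfsg.Agent.H200.E6Two.rws.eq_def]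
  try have : _root_.True := by simp only [_root_.Cfsg.Agent.H83.RedESix.reps.eq_1]
  exact _root_.True.intro
end

-- part: H163/E6/Cen
section
set_option linter.all false

/-!
# The property `Cen` (helper163): centre of the centralizer of an element of order 3 of type `D₄T₂`
-/

set_option autoImplicit false

namespace Cfsg.Agent.H163.E6

open Cfsg Cfsg.Lie Module
open Cfsg.Agent.ChevalleyStructure.E6Min.Tables Cfsg.Agent.ChevalleyStructure.E6Min.Basic
  Cfsg.Agent.ChevalleyStructure.E6Min.Adjoint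
open Cfsg.Agent.H952.F4 (ev es matRep sh cr tf MaxAlt)

universe u

variable {F : Type u} [Field F]

/-- if `H` stabilizes the line of `X ≠ 0` in the Lie algebra then for every element `x` of order 3 of type `D₄T₂` in the
preimage of the alternating group, `H` contains the image of an involution in the centre of the centralizer of `x` -/
def Cen {n : ℕ} (H : Subgroup ↥(chevE6.group F)) (φ : ↥(alternatingGroup (Fin n)) →* ↥(chevE6.group F)) : Prop :=
  ∀ X : chevE6.Idx → F, X ≠ 0 → (∀ h ∈ H, ∃ c : F, LK F h X = c • X) →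
    ∀ x : ↥(Zgrp F), ad F x ∈ φ.range → x ^ 3 = 1 → ev (V F x) 1 = 9 → ev (L F x) 1 = 30 →
      ∃ τ : ↥(Zgrp F), τ * τ = 1 ∧ τ ≠ 1 ∧ τ * x = x * τ ∧ ad F τ ∈ H

end Cfsg.Agent.H163.E6
end
end

-- part: H882/E6Thirty
section
set_option linter.all false
open scoped Cfsg.Agent.FastGrp

/-!
# S5927, `Cov.type_thirty` (helper882)

Elements of order 3 of type `A₂³` (24-dimensional centralizer) are conjugate to the standard one; an element which
commutes with it up to a nontrivial central element permutes the three factors.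
-/

set_option autoImplicit false

namespace Cfsg.Agent.H882.E6T

open Cfsg.Lie Module
open Cfsg.Agent.ChevalleyStructure
open Cfsg.Agent.ChevalleyStructure.E6Min.Tables Cfsg.Agent.ChevalleyStructure.E6Min.Basic
  Cfsg.Agent.ChevalleyStructure.E6Min.Checks Cfsg.Agent.ChevalleyStructure.E6Min.Adjoint
  Cfsg.Agent.ChevalleyStructure.E6Min.Forms Cfsg.Agent.ChevalleyStructure.E6Min.Torus

/-- packed words in reflections (base 64, leading digit 1), 25 bits each -/
def WD : ℕ := 0x90800000000022a6042193000000000000000000000000000084b01086580000000424560000000000000000000000000000000000000000000000000000000000000000000000000000000000000000000000000000000000000000000000000000000000000000000000000000000000000000000000000000000000b70000000000264000005f000000000000000000000000000098e000016c00000000004c000000010967c0024220000000008c9800000000000000000000000000000000021ac000000000000000000000000000000000000000000000000c0000000000000000000000000000000000002e000000000009a000001000000000483400009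00014dc00000000043200000a60010d30000000005680000000001188000000000000000000000145300000000000000000ac00119600000000051580000000000000000000000000000000000000000000000000000000004220d0008440000000002126000000000000010917000229004218d000000000421800282600109100000000000000022ac000000000a0b0004544000000000000000000000000000000000120c000000000536c086418000000000000000000000000000159f02122d800000008431800000000000000000000000000000000000000000000000000000000000000000000000000000000000000000000000000000000000000000114a5c0022be000000000a0f800000000000004229400084d81089540000000010db0008460004330000000000000000a0d800000000229800118c00000000000000000000000000000000000000000000000000000000000468000000000146000084f80000000000000010dc00000000000000000000010cd000000000010c00000000145c0008ad80046340000000000460009880000144000000000000000000000000000000000000000000000000000000000000000000000000000000000000000000000000427000000000108d0000210000000000000000000000000000453400008a00000000002800000000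000000012d0000029000456800000000149c000023800473400000000109e00000000052800000000000000000000004780000000000000000022000443400000000111c00000000000000000000000000000000000000000000000000000000011494c0029360000000008e60000000000000042256000a4f81094580000000015180008ef8004960000000000000000886000000000223600125500000000000000000000000000000000004b4400000000119a0231498000000000000000000000000000437808652c000000021aab0000000000000000000000000000000000000000000000000000000000000000000000000000000000000000000000000000000012c00000000000000000000001680000000012dc0000000000000000000000000000000000000000000000000000000000001780000000012e000000000000000000000016a00000000000000000000001113000000000442008451600000000000000000000000000011c802122a80000000843140000000000000000000000000000000000000000000000000000000000000000000000000000000000000000000000000000000000000000010c92c0000000000000000000004b6c000000042454000000010862610c49a00000000000000000000000000000000000000004b7c0000000000000000000005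a7c0000000421920000000000000000000000000000000000455c0000000014170008a9000000000000000109400000000000000000000010890000000108934000000001414000849000452400000004249c0008438108734000000000000000a6f010927c00243c0000000008cc010877c0028b000000000090d00000000021aa0000000000000000000002194000000000000010876c0028aa0000000008c50000000000000000000000000000000000000000000002126f000000000000000000002110f0000000002324000000000000000000000000000000000000000000000000000000000218ee00000000021a4000000000000000000000218e0000000000000000000000000000000000000010866800292a0000000008e5000000000000004219e000a4c010917800000000151f0008ec000497c000000000000000885000000000222a00125b0000000000000000000000000000000000000000000000000000000000052500000000011c9000af0000000000000000149700000000000000000000011d7000000000015c000000001109000a8e0004450000000000054000926800012400000000000000000000000000000000000000000000000000000000000000000000000000000000000000000000000055800000000012a000002c0000000000000000000000000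0004a700000aa000000000025000000000000000000000000000000000000000010cb000000000436800242a000000000000000462c0000000000000000000005168000000045214000000000467800243000145e000000010885c0029b00424d70000000000000002234042215000885800000000211604229300084d00000000023960000000008a58000000000000000000000a0d00000000000000452960008af000000000283c0000000000000000000000000000000000000000000008642800000000000000000000864a600000000090a00000000000000000000000000000000000000000000000000000000008c4ac00000000090b8000000000000000000000a6b800000000000000000000000000000000000000000000000000000000000000000000000000000000000000000000000000000043500000000010c90211460000000000000000000000000000462408492a0000000210e5000000000000000000002124b80000000000000000000210eb800000000212e000000000000000000000000000000000000000000000000000000000210ea00000000022a800000000000000000000024a0000000000000421937800000004259a00000000000000000000422d60000000000000000000000000000000000000008453800109500000000042280000000431d5000000000000000000000114a0000000000000000000000000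

/-- the word number `n` -/
def wd (n : ℕ) : ℕ := (WD >>> (25 * n)) &&& 33554431

/-- packed pairs (first row of the root, its column), 10 bits each -/
def PR : ℕ := 0xa5e9a869ba56a196e5591dc972dc7a268bac6b19861b8560170dc570583615b570683a16b3a064391662b8b9cb5b9d15c5f765d37d65f665936be9fa6693a7e5994e474250b4ce3587d5954d5f86613805034150130cc53d52f4

def prA (r : ℕ) : ℕ := (PR >>> (10 * r)) &&& 31
def prB (r : ℕ) : ℕ := (PR >>> (10 * r + 5)) &&& 31

theorem pr_all : allLt 72 (fun r => (prA r == rowN r) && (prB r == srN r (rowN r))) = true := by decide +kernel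

/-- the reflection -/
def rf (r j : ℕ) : ℕ := if ent r j < 32 then (if ent (71 - r) j < 32 then j else srN (71 - r) j) else srN r j

theorem rf_all : allLt 64 (fun r => allLt 27 fun j => Nat.blt (rf r j) 27) = true := by decide +kernel

/-- application of a word -/
def app : ℕ → ℕ → ℕ → ℕ
  | 0, _, x => x
  | f + 1, v, x => if v < 2 then x else rf (v % 64) (app f (v / 64) x)

/-- the ten parameters of the function number `n` -/
def wv (n k : ℕ) : ℕ :=
  if k < 3 then n / 3 ^ k % 3
  else if k = 3 then 0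
  else if k = 4 then n / 27 % 3
  else if k = 5 then (n % 3 + n / 3 % 3 + n / 9 % 3 + 2 * (n / 27 % 3)) % 3
  else if k = 6 then n / 81 % 3
  else if k = 7 then n / 243 % 3
  else if k = 8 then (n % 3 + n / 3 % 3 + n / 9 % 3 + 2 * (n / 81 % 3) + 2 * (n / 243 % 3)) % 3
  else (n % 3 + n / 3 % 3 + n / 9 % 3) % 3

/-- the value of the function number `n` on the coordinate with code `x` -/
def bN (n x : ℕ) : ℕ := (wv n (3 * (x / 9) + x / 3 % 3) + 2 * wv n (3 * ((x / 9 + 1) % 3) + x % 3)) % 3

/-- the number of roots of level zero -/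
def cnt (n k : ℕ) : ℕ := Nat.rec 0 (fun r acc => acc + if bN n (prA r) = bN n (prB r) then 1 else 0) k

/-- the check for the function number `n` -/
def wchk (n : ℕ) : Bool := !(cnt n 72 == 18) || allLt 27 fun x => bN n (app 4 (wd n) x) == x / 9

private noncomputable def frc (x : ℕ) (k : ℕ → ℕ) : ℕ := Nat.rec (motive := fun _ => ℕ) (k 0) (fun n _ => k (Nat.succ n)) x

private theorem frc_eq (x : ℕ) (k : ℕ → ℕ) : frc x k = k x := by cases x <;> rfl

private def i1 (x : ℕ) : ℕ := 3 * (x / 9) + x / 3 % 3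

private def i2 (x : ℕ) : ℕ := 3 * ((x / 9 + 1) % 3) + x % 3

private noncomputable def bG (n x : ℕ) : ℕ :=
  frc (i1 x) fun a => frc (i2 x) fun b => Nat.mod (Nat.add (wv n a) (Nat.mul 2 (wv n b))) 3

private noncomputable def bF (n x : ℕ) : ℕ := frc x fun y => Nat.add (bG n y) 0

private theorem bN_F : bN = bF := funext fun n => funext fun x => by
  rw [bF, frc_eq, bG, frc_eq, frc_eq]
  rfl

private noncomputable def cntF (n k : ℕ) : ℕ := Nat.rec (motive := fun _ => ℕ) 0 (fun r acc =>
  Bool.rec (motive := fun _ => ℕ) acc (Nat.succ acc) (Nat.beq (bF n (prA r)) (bF n (prB r)))) k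

private theorem cnt_F : cnt = cntF := funext fun n => funext fun k => by
  induction k with
  | zero => rfl
  | succ k ih =>
    show cnt n k + (if bN n (prA k) = bN n (prB k) then 1 else 0) =
      Bool.rec (motive := fun _ => ℕ) (cntF n k) (Nat.succ (cntF n k)) (Nat.beq (bF n (prA k)) (bF n (prB k)))
    rw [ih, bN_F]
    cases h : Nat.beq (bF n (prA k)) (bF n (prB k))
    · exact congrArg _ (if_neg (Nat.ne_of_beq_eq_false h))
    · exact congrArg _ (if_pos (Nat.eq_of_beq_eq_true h))

private noncomputable def rfF (r j : ℕ) : ℕ := frc r fun r => frc j fun j => Nat.add (rf r j) 0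

private noncomputable def appF (f : ℕ) : ℕ → ℕ → ℕ := Nat.rec (motive := fun _ => ℕ → ℕ → ℕ) (fun _ x => x)
  (fun _ ih v x => Bool.rec (motive := fun _ => ℕ) x (rfF (Nat.mod v 64) (ih (Nat.div v 64) x)) (Nat.ble 2 v)) f

private theorem app_F : app = appF := funext fun f => by
  induction f with
  | zero => rfl
  | succ f ih =>
    refine funext fun v => funext fun x => ?_
    show (if v < 2 then x else rf (v % 64) (app f (v / 64) x)) =
      Bool.rec (motive := fun _ => ℕ) x (rfF (v % 64) (appF f (v / 64) x)) (Nat.ble 2 v)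
    rw [ih, rfF, frc_eq, frc_eq]
    cases h : Nat.ble 2 v
    · exact if_pos (Nat.lt_of_not_le fun h1 => by rw [Nat.ble_eq_true_of_le h1] at h; cases h)
    · exact if_neg (Nat.le_of_ble_eq_true h).not_gt

private theorem word_F : allLt 729 (fun n => wchk n) = true := by
  delta wchk
  rewrite [cnt_F, bN_F, app_F]
  decide +kernel

theorem allLt_of {p : ℕ → Bool} : ∀ n : ℕ, (∀ k < n, p k = true) → allLt n p = true
  | 0, _ => rfl
  | n + 1, h => by
    have h1 : (p n && allLt n p) = true := by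
      rw [Bool.and_eq_true]
      exact ⟨h n (Nat.lt_succ_self n), allLt_of n fun k hk => h k (Nat.lt_succ_of_lt hk)⟩
    exact h1

theorem wchk_all : ∀ n < 729, wchk n = true := allLt_spec word_F

theorem word_all : allLt 729 (fun n => !(cnt n 72 == 18) || allLt 27 fun x => bN n (app 4 (wd n) x) == x / 9) = true :=
  allLt_of (p := fun n => !(cnt n 72 == 18) || allLt 27 fun x => bN n (app 4 (wd n) x) == x / 9) 729 wchk_all

theorem opp_all : allLt 72 (fun r => allLt 27 fun j => (ent r j < 32 : Bool) || (ent (71 - r) j < 32 : Bool)) = true := by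
  decide +kernel


open scoped Matrix
open Cfsg.Agent.H944.E6T (exists_diag ev_diag ev_conj par par_x par_y par_z par_par Par b_eq lin_cb)
open Cfsg.Agent.H952.F4 (ev es matRep)
open Cfsg.Agent.H163.E6 (V L scal)
open Cfsg.Agent.BpExc.TorAll (HAlg)

theorem rf_lt {r j : ℕ} (hr : r < 64) (hj : j < 27) : rf r j < 27 :=
  Nat.blt_eq.mp (allLt_spec (allLt_spec rf_all r hr) j hj)

theorem app_lt : ∀ (f v : ℕ) {x : ℕ}, x < 27 → app f v x < 27
  | 0, _, _, h => h
  | f + 1, v, x, h => by
    unfold app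
    split_ifs
    · exact h
    · exact rf_lt (Nat.mod_lt _ (by norm_num)) (app_lt f _ h)

section nr

variable {K : Type*} [Field K]

/-- the reflection as an element of the group -/
def nr (K : Type*) [Field K] (r : ℕ) : GL I27 K := zU r 1 * zU (71 - r) (-1) * zU r 1

theorem nr_mem (K : Type*) [Field K] (r : ℕ) : nr K r ∈ Zgrp K := mul_mem (mul_mem (zU_mem _ _) (zU_mem _ _)) (zU_mem _ _)

theorem coe_nr {r : ℕ} (hr : r < 72) : ((nr K r : GL I27 K) : Matrix I27 I27 K) =
    1 - Nm K r * Nm K (71 - r) - Nm K (71 - r) * Nm K r + Nm K r - Nm K (71 - r) := by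
  have h := nM_eq (F := K) hr (c := 1) one_ne_zero
  rw [one_smul, inv_one, one_smul] at h
  rw [← h]
  unfold nr
  rw [Units.val_mul, Units.val_mul, coe_zU hr, coe_zU (by omega)]

theorem sg_of_lt {r : ℕ} {x : I27} (h : ent r (code x) < 32) : sg r x = 0 := by
  show sgN r (code x) = 0
  unfold sgN
  rw [if_pos h]

theorem sg_of_ge {r : ℕ} {x : I27} (h : ¬ ent r (code x) < 32) : sg r x ≠ 0 := by
  show sgN r (code x) ≠ 0
  unfold sgN
  rw [if_neg h]
  split_ifs <;> norm_num

theorem nr_apply {r : ℕ} (hr : r < 72) (m m' : I27) :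
    ((nr K r : GL I27 K) : Matrix I27 I27 K) m m' = 0 ∨ m' = dec (rf r (code m)) := by
  rw [coe_nr hr, Nm_mul_opp hr, Nm_opp_mul hr]
  simp only [Matrix.add_apply, Matrix.sub_apply, Matrix.diagonal_apply, Matrix.one_apply, Nm_apply]
  have ho := allLt_spec (allLt_spec opp_all r hr) _ (code_lt m)
  simp only [Bool.or_eq_true, decide_eq_true_eq] at ho
  by_cases h1 : ent r (code m) < 32
  · have s1 := sg_of_lt h1
    by_cases h2 : ent (71 - r) (code m) < 32
    · have s2 := sg_of_lt h2
      have e : rf r (code m) = code m := by unfold rf; rw [if_pos h1, if_pos h2]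
      rw [e, dec_code]
      by_cases hm : m' = m
      · exact Or.inr hm
      · left
        rw [if_neg (Ne.symm hm), if_neg (Ne.symm hm), if_neg (Ne.symm hm), s1, s2]
        simp
    · have s2 := sg_of_ge h2
      have e : rf r (code m) = srN (71 - r) (code m) := by unfold rf; rw [if_pos h1, if_neg h2]
      rw [e]
      by_cases hm : m' = _root_.Cfsg.Agent.ChevalleyStructure.E6Min.Tables.dec (srN (71 - r) (code m))
      · exact Or.inr hm
      · left
        have hm' : ¬ m' = sr (71 - r) m := hm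
        rw [if_neg hm', s1, ind_of_ne s2, ind_of_eq s1]
        by_cases hmm : m = m'
        · rw [if_pos hmm, if_pos hmm, if_pos hmm]; simp
        · rw [if_neg hmm, if_neg hmm, if_neg hmm]; simp
  · have s1 := sg_of_ge h1
    have h2 : ent (71 - r) (code m) < 32 := by
      rcases ho with h | h
      · exact absurd h h1
      · exact h
    have s2 := sg_of_lt h2
    have e : rf r (code m) = srN r (code m) := by unfold rf; rw [if_neg h1]
    rw [e]
    by_cases hm : m' = _root_.Cfsg.Agent.ChevalleyStructure.E6Min.Tables.dec (srN r (code m))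
    · exact Or.inr hm
    · left
      have hm' : ¬ m' = sr r m := hm
      rw [if_neg hm', s2, ind_of_ne s1, ind_of_eq s2]
      by_cases hmm : m = m'
      · rw [if_pos hmm, if_pos hmm, if_pos hmm]; simp
      · rw [if_neg hmm, if_neg hmm, if_neg hmm]; simp

theorem nr_diag {r : ℕ} (hr : r < 72) (d : I27 → K) :
    ((nr K r : GL I27 K) : Matrix I27 I27 K) * Matrix.diagonal d =
      Matrix.diagonal (fun x => d (dec (rf r (code x)))) * ((nr K r : GL I27 K) : Matrix I27 I27 K) := by
  ext m m'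
  rw [Matrix.mul_diagonal, Matrix.diagonal_mul]
  rcases nr_apply (K := K) hr m m' with h | h
  · rw [h, zero_mul, mul_zero]
  · rw [h, mul_comm]

theorem word_diag (f : ℕ) : ∀ (v : ℕ) (d : I27 → K), ∃ n : ↥(Zgrp K),
    ((n : GL I27 K) : Matrix I27 I27 K) * Matrix.diagonal d =
      Matrix.diagonal (fun x => d (dec (app f v (code x)))) * ((n : GL I27 K) : Matrix I27 I27 K) := by
  induction f with
  | zero =>
    intro v d
    refine ⟨1, ?_⟩
    have e : (fun x : I27 => d (dec (app 0 v (code x)))) = d := by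
      funext x
      show d (dec (code x)) = d x
      rw [dec_code]
    rw [e]
    show (1 : Matrix I27 I27 K) * _ = _ * (1 : Matrix I27 I27 K)
    rw [one_mul, mul_one]
  | succ f ih =>
    intro v d
    by_cases hv : v < 2
    · refine ⟨1, ?_⟩
      have e : (fun x : I27 => d (dec (app (f + 1) v (code x)))) = d := by
        funext x
        unfold app
        rw [if_pos hv, dec_code]
      rw [e]
      show (1 : Matrix I27 I27 K) * _ = _ * (1 : Matrix I27 I27 K)
      rw [one_mul, mul_one]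
    · have hr : v % 64 < 64 := Nat.mod_lt _ (by norm_num)
      obtain ⟨n, hn⟩ := ih (v / 64) (fun x => d (dec (rf (v % 64) (code x))))
      refine ⟨n * ⟨nr K (v % 64), nr_mem K _⟩, ?_⟩
      rw [Subgroup.coe_mul, Units.val_mul, mul_assoc]
      show _ * (((nr K (v % 64) : GL I27 K) : Matrix I27 I27 K) * Matrix.diagonal d) = _
      rw [nr_diag (by omega) d, ← mul_assoc, hn, mul_assoc]
      congr 2
      funext x
      have e : app (f + 1) v (code x) = rf (v % 64) (app f (v / 64) (code x)) := by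
        conv_lhs => unfold app
        rw [if_neg hv]
      rw [e, code_dec (app_lt f _ (code_lt x))]

end nr

/-! ### numbers of the functions -/

set_option synthInstance.maxSize 2000 in
private theorem digits : ∀ a < 3, ∀ b < 3, ∀ c < 3, ∀ d < 3, ∀ e < 3, ∀ f < 3,
    (a + 3 * b + 9 * c + 27 * d + 81 * e + 243 * f) % 3 = a ∧ (a + 3 * b + 9 * c + 27 * d + 81 * e + 243 * f) / 3 % 3 = b ∧
    (a + 3 * b + 9 * c + 27 * d + 81 * e + 243 * f) / 9 % 3 = c ∧ (a + 3 * b + 9 * c + 27 * d + 81 * e + 243 * f) / 27 % 3 = d ∧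
    (a + 3 * b + 9 * c + 27 * d + 81 * e + 243 * f) / 81 % 3 = e ∧
    (a + 3 * b + 9 * c + 27 * d + 81 * e + 243 * f) / 243 % 3 = f := by decide +kernel

theorem exists_num {b : I27 → ZMod 3} (hb : ∀ x y, rel x y = 2 → b x + b y + b (th x y) = 0) :
    ∃ n < 729, ∀ x, (b x).val = bN n (code x) := by
  have hP := par_par hb
  set w := par b with hw
  have w3 : w 3 = 0 := by
    have := par_y b 0
    simpa using this
  have l0 := ZMod.val_lt (w 0)
  have l1 := ZMod.val_lt (w 1)
  have l2 := ZMod.val_lt (w 2)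
  have l4 := ZMod.val_lt (w 4)
  have l6 := ZMod.val_lt (w 6)
  have l7 := ZMod.val_lt (w 7)
  have c : ∀ k, (((w k).val : ℕ) : ZMod 3) = w k := fun k => ZMod.natCast_zmod_val _
  obtain ⟨n, hn⟩ : ∃ n, n = (w 0).val + 3 * (w 1).val + 9 * (w 2).val + 27 * (w 4).val + 81 * (w 6).val +
    243 * (w 7).val := ⟨_, rfl⟩
  obtain ⟨n0, n1, n2, n4, n6, n7⟩ : n % 3 = (w 0).val ∧ n / 3 % 3 = (w 1).val ∧ n / 9 % 3 = (w 2).val ∧
      n / 27 % 3 = (w 4).val ∧ n / 81 % 3 = (w 6).val ∧ n / 243 % 3 = (w 7).val :=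
    hn ▸ digits _ l0 _ l1 _ l2 _ l4 _ l6 _ l7
  have h3 : (3 : ZMod 3) = 0 := by decide
  have hwv : ∀ k < 9, ((wv n k : ℕ) : ZMod 3) = w k := by
    intro k hk
    interval_cases k
    · show ((n / 3 ^ 0 % 3 : ℕ) : ZMod 3) = _
      rw [pow_zero, Nat.div_one, n0, c]
    · show ((n / 3 ^ 1 % 3 : ℕ) : ZMod 3) = _
      rw [pow_one, n1, c]
    · show ((n / 3 ^ 2 % 3 : ℕ) : ZMod 3) = _
      rw [show 3 ^ 2 = 9 by norm_num, n2, c]
    · rw [w3]; rfl
    · show ((n / 27 % 3 : ℕ) : ZMod 3) = _
      rw [n4, c]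
    · show (((n % 3 + n / 3 % 3 + n / 9 % 3 + 2 * (n / 27 % 3)) % 3 : ℕ) : ZMod 3) = _
      rw [n0, n1, n2, n4, ZMod.natCast_mod]
      push_cast
      rw [c, c, c, c]
      linear_combination hP.x - hP.y + w3 + w 4 * h3
    · show ((n / 81 % 3 : ℕ) : ZMod 3) = _
      rw [n6, c]
    · show ((n / 243 % 3 : ℕ) : ZMod 3) = _
      rw [n7, c]
    · show (((n % 3 + n / 3 % 3 + n / 9 % 3 + 2 * (n / 81 % 3) + 2 * (n / 243 % 3)) % 3 : ℕ) : ZMod 3) = _
      rw [n0, n1, n2, n6, n7, ZMod.natCast_mod]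
      push_cast
      rw [c, c, c, c, c]
      linear_combination hP.x - hP.z + (w 6 + w 7) * h3
  refine ⟨n, by (clear * - l0 hn n1 n2 n4 n6 n7; omega), fun x => ?_⟩
  have hx := b_eq hb x
  rw [lin_cb _ (code_lt x), ← hw, ← hwv _ (by have := code_lt x; (clear * - this; omega)), ← hwv _ (by have := code_lt x; (clear * -; omega))] at hx
  have hlt : bN n (code x) < 3 := Nat.mod_lt _ (by norm_num)
  have e : ((bN n (code x) : ℕ) : ZMod 3) = b x := by
    rw [hx]
    unfold bN
    rw [ZMod.natCast_mod]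
    push_cast
    linear_combination ((wv n (3 * ((code x / 9 + 1) % 3) + code x % 3) : ℕ) : ZMod 3) * h3
  rw [← e, ZMod.val_natCast_of_lt hlt]

theorem cnt_eq (n : ℕ) : ∀ k ≤ 72, cnt n k =
    ∑ r ∈ Finset.range k, if bN n (rowN r) = bN n (srN r (rowN r)) then 1 else 0 := by
  intro k
  induction k with
  | zero => intro _; rfl
  | succ k ih =>
    intro hk
    have h := allLt_spec pr_all k (by omega)
    simp only [Bool.and_eq_true, beq_iff_eq] at h
    rw [Finset.sum_range_succ, ← ih (by omega)]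
    show cnt n k + _ = _
    rw [h.1, h.2]

/-- elements of type `A₂³` are conjugate to the standard one -/
theorem exists_std {K : Type*} [Field K] [IsAlgClosed K] (p : ℕ) [Fact p.Prime] [CharP K p] (hK : HAlg p K)
    (hp : p ≠ 3) {ζ : K} (hζ : IsPrimitiveRoot ζ 3) {x : ↥(Zgrp K)} (hx : x ^ 3 = 1) (h24 : ev (L K x) 1 = 24) :
    ∃ g : ↥(Zgrp K), (((g * x * g⁻¹ : ↥(Zgrp K)) : GL I27 K) : Matrix I27 I27 K) =
      Matrix.diagonal fun m : I27 => ζ ^ (m.1.val) := by
  classical
  have hcop : (3 : ℕ).Coprime p := (Nat.coprime_primes Nat.prime_three Fact.out).2 (Ne.symm hp)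
  obtain ⟨g, d, hdV, hdL, hdm, htri⟩ := exists_diag p hK (by norm_num : (3 : ℕ) ≠ 0) hcop hx
  have hζ0 : ζ ≠ 0 := hζ.ne_zero (by norm_num)
  let z : Kˣ := Units.mk0 ζ hζ0
  have hzu : IsPrimitiveRoot z 3 := by
    rw [← IsPrimitiveRoot.coe_units_iff]
    exact hζ
  have hex : ∀ i, ∃ a < 3, z ^ a = d i := by
    intro i
    have h1 : ((d i : Kˣ) : K) ^ 3 = 1 := by
      rw [← Units.val_pow_eq_pow_val, hdm i, Units.val_one]
    obtain ⟨a, ha', ha⟩ := hζ.eq_pow_of_pow_eq_one h1
    refine ⟨a, ha', Units.ext ?_⟩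
    rw [Units.val_pow_eq_pow_val, ← ha]
    rfl
  choose a ha' ha using hex
  let b : I27 → ZMod 3 := fun i => (a i : ZMod 3)
  have hzp : ∀ n : ℤ, z ^ n = z ^ ((n : ZMod 3).val) := by
    intro n
    rw [← zpow_natCast, ZMod.val_intCast]
    have h1 : z ^ ((3 : ℕ) : ℤ) = 1 := by rw [zpow_natCast]; exact hzu.pow_eq_one
    conv_lhs => rw [← Int.emod_add_mul_ediv n (3 : ℕ)]
    rw [zpow_add, zpow_mul, h1, one_zpow, mul_one]
  have hzinj : ∀ {c c' : ZMod 3}, z ^ c.val = z ^ c'.val → c = c' := by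
    intro c c' h
    exact ZMod.val_injective 3 (hzu.pow_inj (ZMod.val_lt _) (ZMod.val_lt _) h)
  have hdb : ∀ i, d i = z ^ (b i).val := by
    intro i
    rw [← ha i, ← zpow_natCast, hzp]
    simp [b]
  have hb : ∀ x y, rel x y = 2 → b x + b y + b (th x y) = 0 := by
    intro x y hxy
    have h1 := htri x y hxy
    apply hzinj
    rw [hdb, hdb, hdb, ← pow_add, ← pow_add] at h1
    rw [ZMod.val_zero, pow_zero, ← h1, ← zpow_natCast z ((b x).val + (b y).val + (b (th x y)).val), hzp]
    congr 2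
    push_cast
    simp
  obtain ⟨n, hn, hbn⟩ := exists_num hb
  -- the number of roots
  have hcard : cnt n 72 = 18 := by
    have h1 : ev (L K (g * x * g⁻¹)) 1 = 24 := by rw [ev_conj]; exact h24
    obtain ⟨D, hD⟩ : ∃ D : chevE6.Idx → K, D = Sum.elim (fun _ => (1 : K))
        (fun r : Fin chevE6.nroots => (((d (row r.val) * (d (sr r.val (row r.val)))⁻¹ : Kˣ)) : K)) := ⟨_, rfl⟩
    have hL : L K (g * x * g⁻¹) = Matrix.toLin' (Matrix.diagonal D) := by
      rw [hD, ← hdL]
      rfl
    rw [ev_diag _ 1 hL, Finset.card_filter, Fintype.sum_sum_type] at h1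
    have e1 : (∑ i : Fin chevE6.rank, if D (Sum.inl i) = 1 then 1 else 0) = 6 := by
      rw [hD]
      show (∑ i : Fin 6, if (1 : K) = 1 then 1 else 0) = 6
      simp
    have e2 : (∑ r : Fin chevE6.nroots, if D (Sum.inr r) = 1 then 1 else 0) = cnt n 72 := by
      rw [cnt_eq n 72 le_rfl]
      show (∑ r : Fin 72, _) = _
      rw [← Fin.sum_univ_eq_sum_range (fun r => if bN n (rowN r) = bN n (srN r (rowN r)) then 1 else 0) 72]
      refine Finset.sum_congr rfl fun r _ => ?_
      have hr := r.isLt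
      have hrow : rowN r.val < 27 := by
        have := allLt_spec row_all r.val hr
        simp only [Bool.and_eq_true, Nat.blt_eq] at this
        exact this.1.1.1
      have hc : code (row r.val) = rowN r.val := code_dec hrow
      have hiff : D (Sum.inr r) = 1 ↔ bN n (rowN r) = bN n (srN r (rowN r)) := by
        rw [hD]
        change (((d (row r.val) * (d (sr r.val (row r.val)))⁻¹ : Kˣ)) : K) = 1 ↔ _
        have h2 : bN n (rowN r) = (b (row r.val)).val := by rw [hbn, hc]
        have h3 : bN n (srN r (rowN r)) = (b (sr r.val (row r.val))).val := by rw [hbn, code_sr hr, hc]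
        rw [h2, h3]
        constructor
        · intro h
          have h4 : d (row r.val) = d (sr r.val (row r.val)) := by
            have h5 : d (row r.val) * (d (sr r.val (row r.val)))⁻¹ = 1 := Units.ext h
            exact mul_inv_eq_one.1 h5
          rw [hdb, hdb] at h4
          exact congrArg ZMod.val (hzinj h4)
        · intro h
          have h4 : d (row r.val) = d (sr r.val (row r.val)) := by rw [hdb, hdb, h]
          rw [h4, mul_inv_cancel, Units.val_one]
      by_cases h : bN n (rowN r) = bN n (srN r (rowN r))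
      · rw [if_pos h, if_pos (hiff.2 h)]
      · rw [if_neg h, if_neg (fun h' => h (hiff.1 h'))]
    rw [e1, e2] at h1
    omega
  have hw := allLt_spec word_all n hn
  rw [hcard] at hw
  have hw' := fun (x : I27) => allLt_spec (by simpa using hw : allLt 27 (fun x => bN n (app 4 (wd n) x) == x / 9) = true)
    _ (code_lt x)
  obtain ⟨m, hm⟩ := word_diag (K := K) 4 (wd n) (fun x => (d x : K))
  refine ⟨m * g, ?_⟩
  have e1 : m * g * x * (m * g)⁻¹ = m * (g * x * g⁻¹) * m⁻¹ := by group
  have e2 : (((m * (g * x * g⁻¹) * m⁻¹ : ↥(Zgrp K)) : GL I27 K) : Matrix I27 I27 K) =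
      ((m : GL I27 K) : Matrix I27 I27 K) * (((g * x * g⁻¹ : ↥(Zgrp K)) : GL I27 K) : Matrix I27 I27 K) *
        (((m : GL I27 K)⁻¹ : GL I27 K) : Matrix I27 I27 K) := rfl
  rw [e1, e2, hdV, hm, mul_assoc, ← Units.val_mul, mul_inv_cancel, Units.val_one, mul_one]
  congr 1
  funext x
  have h5 := hw' x
  rw [beq_iff_eq] at h5
  have h6 : (b (dec (app 4 (wd n) (code x)))).val = x.1.val := by
    rw [hbn, code_dec (app_lt 4 _ (code_lt x)), h5]
    have := x.2.1.isLt
    have := x.2.2.isLt
    unfold code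
    omega
  rw [hdb, h6, Units.val_pow_eq_pow_val]
  rfl

/-! ### the standard element -/

private theorem uniq_F : allLt 72 (fun r => allLt 27 fun m => (ent r m < 32 : Bool) ||
    ((!(srN r m == m)) && rtN (srN r m) m == r)) = true := by
  decide +kernel

theorem uniq_all : allLt 72 (fun r => allLt 27 fun m => (ent r m < 32 : Bool) ||
    ((!(srN r m == m)) && allLt 72 fun s => (s == r) || (ent s m < 32 : Bool) || !(srN s m == srN r m))) = true :=
  allLt_of _ fun r hr => allLt_of _ fun m hm => Bool.or_eq_true_iff.2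
    ((Bool.or_eq_true_iff.1 (allLt_spec (allLt_spec uniq_F r hr) m hm)).imp_right fun h => Bool.and_eq_true_iff.2
      ⟨(Bool.and_eq_true_iff.1 h).1, allLt_of _ fun s hs => by
        rcases Bool.or_eq_true_iff.1 (allLt_spec (allLt_spec uniq_F s hs) m hm) with h1 | h1
        · rw [h1, Bool.or_true, Bool.true_or]
        · cases h2 : srN s m == srN r m
          · exact Bool.or_true _
          · have h3 := beq_iff_eq.1 (Bool.and_eq_true_iff.1 h1).2
            rw [beq_iff_eq.1 h2, beq_iff_eq.1 (Bool.and_eq_true_iff.1 h).2] at h3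
            rw [h3, beq_self_eq_true, Bool.true_or, Bool.true_or]⟩)

theorem blk_all : allLt 72 (fun r => allLt 27 fun m => (ent r m < 32 : Bool) ||
    ((m / 9 + 2 * (srN r m / 9)) % 3 == (rowN r / 9 + 2 * (srN r (rowN r) / 9)) % 3)) = true := by decide +kernel

/-- the root `r` kills the block `j` -/
def zer (r j : ℕ) : Bool := allLt 9 fun a => (ent r (9 * j + a) < 32 : Bool)

theorem zer_all : allLt 72 (fun r => !((rowN r / 9 + 2 * (srN r (rowN r) / 9)) % 3 == 0) ||
    (zer r 0 && !(zer r 1) && !(zer r 2)) || (zer r 1 && !(zer r 0) && !(zer r 2)) ||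
    (zer r 2 && !(zer r 0) && !(zer r 1))) = true := by decide +kernel

section std

variable {K : Type*} [Field K] {ζ : K}

theorem comb_apply_gen (c : chevE6.Idx → K) {r : Fin chevE6.nroots} {m : I27} (hs : sg r.val m ≠ 0) :
    comb c m (sr r.val m) = c (Sum.inr r) * ((sg r.val m : ℤ) : K) := by
  have hr := lt72 r
  have h0 := allLt_spec (allLt_spec uniq_all _ hr) _ (code_lt m)
  have hent : ¬ ent r.val (code m) < 32 := fun h => hs (sg_of_lt h)
  simp only [Bool.or_eq_true, decide_eq_true_eq, Bool.and_eq_true, Bool.not_eq_true', beq_eq_false_iff_ne] at h0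
  rcases h0 with h0 | ⟨h1, h2⟩
  · exact absurd h0 hent
  have hne : m ≠ sr r.val m := by
    intro h
    apply h1
    have := congrArg code h
    rw [code_sr hr] at this
    exact this.symm
  rw [comb_split, Matrix.add_apply, Matrix.sum_apply, Matrix.sum_apply]
  have e1 : ∑ i : Fin chevE6.rank, (c (Sum.inl i) • Hm K i.val) m (sr r.val m) = 0 := by
    refine Finset.sum_eq_zero fun i _ => ?_
    rw [Matrix.smul_apply, Hm_apply, if_neg hne, smul_zero]
  rw [e1, zero_add, Finset.sum_eq_single r]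
  · rw [Matrix.smul_apply, Nm_apply, if_pos rfl, smul_eq_mul]
  · intro s _ hsr
    rw [Matrix.smul_apply, Nm_apply]
    have h3 := allLt_spec h2 s.val (lt72 s)
    simp only [Bool.or_eq_true, decide_eq_true_eq, Bool.not_eq_true', beq_eq_false_iff_ne, beq_iff_eq] at h3
    rcases h3 with (h3 | h3) | h3
    · exact absurd (Fin.ext h3) hsr
    · rw [sg_of_lt h3]; simp
    · rw [if_neg, smul_zero]
      intro h4
      apply h3
      have := congrArg code h4
      rw [code_sr hr, code_sr (lt72 s)] at this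
      exact this.symm
  · intro h; exact absurd (Finset.mem_univ _) h

/-- the diagonal of the standard element -/
def dS (ζ : K) : I27 → K := fun m => ζ ^ m.1.val

theorem row_blk (hζ : IsPrimitiveRoot ζ 3) {Y : Matrix I27 I27 K} {e : Fin 3}
    (h : Y * Matrix.diagonal (dS ζ) = ζ ^ e.val • (Matrix.diagonal (dS ζ) * Y)) (m a : I27) :
    Y m a = 0 ∨ a.1 = m.1 + e := by
  by_cases h0 : Y m a = 0
  · exact Or.inl h0
  · right
    have h1 := congrFun (congrFun h m) a
    rw [Matrix.mul_diagonal, Matrix.smul_apply, Matrix.diagonal_mul, smul_eq_mul] at h1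
    have h2 : ζ ^ a.1.val = ζ ^ (m.1.val + e.val) := by
      apply mul_left_cancel₀ h0
      show Y m a * dS ζ a = _
      rw [h1, pow_add]
      unfold dS
      ring
    have h3 : ζ ^ (m.1.val + e.val) = ζ ^ ((m.1.val + e.val) % 3) := by
      conv_lhs => rw [← Nat.mod_add_div (m.1.val + e.val) 3, pow_add, pow_mul, hζ.pow_eq_one, one_pow, mul_one]
    rw [h3] at h2
    have h4 := hζ.pow_inj a.1.isLt (Nat.mod_lt _ (by norm_num)) h2
    apply Fin.ext
    rw [h4, Fin.val_add]

theorem row_kill (hζ : IsPrimitiveRoot ζ 3) {Y Yi C N : Matrix I27 I27 K} {e : Fin 3}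
    (h : Y * Matrix.diagonal (dS ζ) = ζ ^ e.val • (Matrix.diagonal (dS ζ) * Y)) (hYi : Y * Yi = 1)
    (hC : Y * N = C * Y) {j : Fin 3} (hN : ∀ a : I27, a.1 = j → ∀ b, N a b = 0) {m : I27} (hm : m.1 + e = j)
    (b : I27) : C m b = 0 := by
  have h1 : ∀ b', (Y * N) m b' = 0 := by
    intro b'
    rw [Matrix.mul_apply]
    refine Finset.sum_eq_zero fun a _ => ?_
    rcases row_blk hζ h m a with h2 | h2
    · rw [h2, zero_mul]
    · rw [hN a (h2.trans hm), mul_zero]
  have h2 : C = Y * N * Yi := by rw [hC, mul_assoc, hYi, mul_one]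
  rw [h2, Matrix.mul_apply]
  exact Finset.sum_eq_zero fun b' _ => by rw [h1, zero_mul]

/-- the functionals -/
theorem functionals (c : chevE6.Idx → K) (k : Fin 3) (h : ∀ m : I27, m.1 = k → comb c m m = 0) :
    (k ≠ 0 → c (Sum.inl (3 : Fin 6)) = 0 ∧ 3 * c (Sum.inl (1 : Fin 6)) - c (Sum.inl (3 : Fin 6)) = 0) ∧
    (k ≠ 1 → 3 * c (Sum.inl (0 : Fin 6)) - c (Sum.inl (3 : Fin 6)) = 0 ∧
      3 * c (Sum.inl (2 : Fin 6)) - 2 * c (Sum.inl (3 : Fin 6)) = 0) ∧
    (k ≠ 2 → 3 * c (Sum.inl (4 : Fin 6)) - 2 * c (Sum.inl (3 : Fin 6)) = 0 ∧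
      3 * c (Sum.inl (5 : Fin 6)) - c (Sum.inl (3 : Fin 6)) = 0) := by
  have hk : k = 0 ∨ k = 1 ∨ k = 2 := (by decide : ∀ i : Fin 3, i = 0 ∨ i = 1 ∨ i = 2) k
  rcases hk with rfl | rfl | rfl
  · have w0 := comb_diag_val c 0 1 0 0 0 0 (-1) (by decide +kernel)
    have w1 := comb_diag_val c 1 1 0 0 0 (-1) 1 (by decide +kernel)
    have w2 := comb_diag_val c 2 1 0 0 (-1) 1 0 (by decide +kernel)
    have w3 := comb_diag_val c 3 (-1) 0 1 0 0 (-1) (by decide +kernel)
    rw [h (dec 0) (by decide)] at w0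
    rw [h (dec 1) (by decide)] at w1
    rw [h (dec 2) (by decide)] at w2
    rw [h (dec 3) (by decide)] at w3
    push_cast at w0 w1 w2 w3
    refine ⟨fun h => absurd rfl h, fun _ => ⟨?_, ?_⟩, fun _ => ⟨?_, ?_⟩⟩
    · linear_combination -w0 - w1 - w2
    · linear_combination w0 - 2 * w1 - 2 * w2 - 3 * w3
    · linear_combination w0 + w1 - 2 * w2
    · linear_combination 2 * w0 - w1 - w2
  · have w0 := comb_diag_val c 9 0 0 0 0 0 1 (by decide +kernel)
    have w1 := comb_diag_val c 10 0 (-1) 0 0 0 1 (by decide +kernel)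
    have w2 := comb_diag_val c 11 0 1 0 (-1) 0 1 (by decide +kernel)
    have w3 := comb_diag_val c 12 0 0 0 0 1 (-1) (by decide +kernel)
    rw [h (dec 9) (by decide)] at w0
    rw [h (dec 10) (by decide)] at w1
    rw [h (dec 11) (by decide)] at w2
    rw [h (dec 12) (by decide)] at w3
    push_cast at w0 w1 w2 w3
    refine ⟨fun _ => ⟨?_, ?_⟩, fun h => absurd rfl h, fun _ => ⟨?_, ?_⟩⟩
    · linear_combination -2 * w0 + w1 + w2
    · linear_combination -w0 + 2 * w1 - w2
    · linear_combination w0 - 2 * w1 - 2 * w2 - 3 * w3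
    · linear_combination -w0 - w1 - w2
  · have w0 := comb_diag_val c 18 (-1) 0 0 0 0 0 (by decide +kernel)
    have w1 := comb_diag_val c 19 1 0 (-1) 0 0 0 (by decide +kernel)
    have w2 := comb_diag_val c 20 0 0 1 (-1) 0 0 (by decide +kernel)
    have w3 := comb_diag_val c 21 (-1) 1 0 0 0 0 (by decide +kernel)
    rw [h (dec 18) (by decide)] at w0
    rw [h (dec 19) (by decide)] at w1
    rw [h (dec 20) (by decide)] at w2
    rw [h (dec 21) (by decide)] at w3
    push_cast at w0 w1 w2 w3
    refine ⟨fun _ => ⟨?_, ?_⟩, fun _ => ⟨?_, ?_⟩, fun h => absurd rfl h⟩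
    · linear_combination w0 + w1 + w2
    · linear_combination 2 * w0 - w1 - w2 - 3 * w3
    · linear_combination 2 * w0 - w1 - w2
    · linear_combination w0 + w1 - 2 * w2

end std

/-! ### the trace -/

section tr

variable {K : Type*} [Field K] {ζ : K}

/-- the diagonal of the image of the standard element -/
def dL (ζ : K) : chevE6.Idx → K := Sum.elim (fun _ => 1) fun r : Fin chevE6.nroots =>
  ζ ^ ((rowN r.val / 9 + 2 * (srN r.val (rowN r.val) / 9)) % 3)

theorem hk3 {K : Type*} [Field K] {ζ : K} (hζ : IsPrimitiveRoot ζ 3) (n : ℕ) : ζ ^ n = ζ ^ (n % 3) := by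
  conv_lhs => rw [← Nat.mod_add_div n 3, pow_add, pow_mul, hζ.pow_eq_one, one_pow, mul_one]

theorem dec_fst {n : ℕ} (hn : n < 27) : (dec n).1.val = n / 9 := by
  show (Fin.ofNat 3 (n / 9)).val = n / 9
  simp only [Fin.ofNat]
  omega

theorem P_std (hζ : IsPrimitiveRoot ζ 3) :
    E6Min.Adjoint.P (Matrix.diagonal (dS ζ)) (Matrix.diagonal (dL ζ)) := by
  intro col
  have hc : (fun row => Matrix.diagonal (dL ζ) row col) = fun row => if row = col then dL ζ col else 0 := by
    funext row
    rw [Matrix.diagonal_apply]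
    by_cases h : row = col
    · rw [if_pos h, if_pos h, h]
    · rw [if_neg h, if_neg h]
  rw [hc]
  have hcomb : comb (fun row => if row = col then dL ζ col else 0) = dL ζ col • B K col := by
    rw [comb_def, Finset.sum_eq_single col]
    · rw [if_pos rfl]
    · intro u _ hu; rw [if_neg hu, zero_smul]
    · intro h; exact absurd (Finset.mem_univ _) h
  rw [hcomb]
  ext m m'
  rw [Matrix.diagonal_mul, smul_mul_assoc, Matrix.smul_apply, Matrix.mul_diagonal, smul_eq_mul]
  rcases col with i | r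
  · show dS ζ m * Hm K i.val m m' = 1 * (Hm K i.val m m' * dS ζ m')
    rw [Hm_apply]
    by_cases h : m = m'
    · subst h
      ring
    · rw [if_neg h]; ring
  · show dS ζ m * Nm K r.val m m' = ζ ^ _ * (Nm K r.val m m' * dS ζ m')
    rw [Nm_apply]
    by_cases h : m' = sr r.val m
    · rw [if_pos h]
      by_cases hs : sg r.val m = 0
      · rw [hs]; simp
      · subst h
        have hr := lt72 r
        have h0 := allLt_spec (allLt_spec blk_all _ hr) _ (code_lt m)
        have hent : ¬ ent r.val (code m) < 32 := fun h => hs (sg_of_lt h)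
        simp only [Bool.or_eq_true, decide_eq_true_eq, beq_iff_eq] at h0
        have h1 := h0.resolve_left hent
        have hm1 : m.1.val = code m / 9 := by
          have := m.2.1.isLt
          have := m.2.2.isLt
          unfold code; omega
        have hm2 : (sr r.val m).1.val = srN r.val (code m) / 9 := dec_fst (srN_lt hr (code_lt m))
        unfold dS
        have e : ζ ^ m.1.val = ζ ^ ((rowN r.val / 9 + 2 * (srN r.val (rowN r.val) / 9)) % 3) *
            ζ ^ (sr r.val m).1.val := by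
          rw [← h1, ← pow_add, hk3 hζ (m.1.val), hk3 hζ (_ + _), hm1, hm2]
          congr 1
          (clear * -; omega)
        rw [e]
        ring
    · rw [if_neg h]; ring

theorem w0 : ∀ a : I27, a.1 = 1 → wt a 0 = 0 := by decide +kernel
theorem w2 : ∀ a : I27, a.1 = 1 → wt a 2 = 0 := by decide +kernel
theorem w1 : ∀ a : I27, a.1 = 0 → wt a 1 = 0 := by decide +kernel
theorem w4 : ∀ a : I27, a.1 = 2 → wt a 4 = 0 := by decide +kernel
theorem w5 : ∀ a : I27, a.1 = 2 → wt a 5 = 0 := by decide +kernel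
theorem wG : ∀ a : I27, a.1 = 0 → wt a 0 + wt a 1 + 2 * wt a 2 + 3 * wt a 3 + 2 * wt a 4 + wt a 5 = 0 := by
  decide +kernel

/-- the coefficients of the sixth torus element -/
def gv (n : ℕ) : ℕ := [1, 1, 2, 3, 2, 1].getD n 0

def cG (K : Type*) [Field K] : chevE6.Idx → K := Sum.elim (fun i => ((gv i.val : ℕ) : K)) fun _ => 0

theorem cG_r : (∑ r : Fin chevE6.nroots, cG K (Sum.inr r) • Nm K r.val) = 0 :=
  Finset.sum_eq_zero fun _ _ => zero_smul _ _

theorem cG_l (a b : I27) : (∑ i : Fin chevE6.rank, (cG K (Sum.inl i) • Hm K i.val) a b) =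
    Hm K 0 a b + Hm K 1 a b + 2 * Hm K 2 a b + 3 * Hm K 3 a b + 2 * Hm K 4 a b + Hm K 5 a b := by
  show (∑ i : Fin 6, (((gv i.val : ℕ) : K) • Hm K i.val) a b) = _
  rw [Fin.sum_univ_six]
  simp only [Matrix.smul_apply, smul_eq_mul]
  show ((1 : ℕ) : K) * _ + ((1 : ℕ) : K) * _ + ((2 : ℕ) : K) * _ + ((3 : ℕ) : K) * _ + ((2 : ℕ) : K) * _ +
    ((1 : ℕ) : K) * _ = _
  push_cast
  rw [one_mul, one_mul, one_mul]
  rfl

theorem cG_s (M : Matrix chevE6.Idx chevE6.Idx K) (row : chevE6.Idx) : (∑ col, M row col * cG K col) =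
    M row (Sum.inl (0 : Fin 6)) + M row (Sum.inl (1 : Fin 6)) +
      2 * M row (Sum.inl (2 : Fin 6)) + 3 * M row (Sum.inl (3 : Fin 6)) + 2 * M row (Sum.inl (4 : Fin 6)) +
      M row (Sum.inl (5 : Fin 6)) := by
  rw [Fintype.sum_sum_type]
  have e2 : (∑ r : Fin chevE6.nroots, M row (Sum.inr r) * cG K (Sum.inr r)) = 0 :=
    Finset.sum_eq_zero fun _ _ => mul_zero _
  rw [e2, add_zero]
  show (∑ i : Fin 6, M row (Sum.inl i) * ((gv i.val : ℕ) : K)) = _
  rw [Fin.sum_univ_six]
  show _ * ((1 : ℕ) : K) + _ * ((1 : ℕ) : K) + _ * ((2 : ℕ) : K) + _ * ((3 : ℕ) : K) + _ * ((2 : ℕ) : K) +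
    _ * ((1 : ℕ) : K) = _
  push_cast
  ring

/-- **The sum of the traces over the coset vanishes.** -/
theorem trace_std (h3 : (3 : K) ≠ 0) (hζ : IsPrimitiveRoot ζ 3) {x y : ↥(Zgrp K)}
    (hx : ((x : GL I27 K) : Matrix I27 I27 K) = Matrix.diagonal (dS ζ)) {e : Fin 3} (he : e ≠ 0)
    (hy : ((y : GL I27 K) : Matrix I27 I27 K) * Matrix.diagonal (dS ζ) =
      ζ ^ e.val • (Matrix.diagonal (dS ζ) * ((y : GL I27 K) : Matrix I27 I27 K))) :
    LinearMap.trace K _ (L K y) + LinearMap.trace K _ (L K (x * y)) + LinearMap.trace K _ (L K (x * x * y)) = 0 := by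
  classical
  obtain ⟨Y, hY⟩ : ∃ Y, Y = ((y : GL I27 K) : Matrix I27 I27 K) := ⟨_, rfl⟩
  obtain ⟨Yi, hYi⟩ : ∃ Yi, Yi = (((y : GL I27 K)⁻¹ : GL I27 K) : Matrix I27 I27 K) := ⟨_, rfl⟩
  have hYY : Y * Yi = 1 := by rw [hY, hYi, ← Units.val_mul, mul_inv_cancel, Units.val_one]
  obtain ⟨M, hM⟩ : ∃ M, M = (((ad K y : ↥(chevE6.group K)) : GL chevE6.Idx K) : Matrix chevE6.Idx chevE6.Idx K) :=
    ⟨_, rfl⟩
  have hP : E6Min.Adjoint.P Y M := by rw [hY, hM]; exact ad_P y
  rw [← hY] at hy
  -- entries at the roots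
  have hroot : ∀ r : Fin chevE6.nroots, dL ζ (Sum.inr r) = 1 → M (Sum.inr r) (Sum.inr r) = 0 := by
    intro r hr1
    have hr := lt72 r
    have hdvd : (rowN r.val / 9 + 2 * (srN r.val (rowN r.val) / 9)) % 3 = 0 := by
      by_contra hne
      exact hζ.pow_ne_one_of_pos_of_lt hne (Nat.mod_lt _ (by norm_num)) hr1
    -- the killed block
    have hz := allLt_spec zer_all _ hr
    have hblock : ∃ j : Fin 3, (∀ a : I27, a.1 = j → sg r.val a = 0) ∧
        ∀ k : Fin 3, k ≠ j → ∃ m : I27, m.1 = k ∧ sg r.val m ≠ 0 := by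
      have z1 : ∀ j : Fin 3, zer r.val j.val = true → ∀ a : I27, a.1 = j → sg r.val a = 0 := by
        intro j hj a ha
        have ha1 := a.2.1.isLt
        have ha2 := a.2.2.isLt
        have hj' : allLt 9 (fun a => (ent r.val (9 * j.val + a) < 32 : Bool)) = true := hj
        have := allLt_spec hj' (3 * a.2.1.val + a.2.2.val) (by omega)
        rw [decide_eq_true_eq] at this
        apply sg_of_lt
        have hcode : code a = 9 * j.val + (3 * a.2.1.val + a.2.2.val) := by
          rw [← ha]; unfold code; omega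
        rw [hcode]
        exact this
      have z2 : ∀ k : Fin 3, zer r.val k.val = false → ∃ m : I27, m.1 = k ∧ sg r.val m ≠ 0 := by
        intro k hk
        obtain ⟨a, ha, h1⟩ := H944.E6T.exists_of_not_allLt hk
        rw [decide_eq_false_iff_not] at h1
        have hklt := k.isLt
        refine ⟨dec (9 * k.val + a), ?_, ?_⟩
        · apply Fin.ext
          rw [dec_fst (by omega)]
          omega
        · apply sg_of_ge
          rw [code_dec (by omega)]
          exact h1
      simp only [Bool.or_eq_true, Bool.and_eq_true, Bool.not_eq_true', beq_eq_false_iff_ne] at hz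
      rcases hz with ((hz | ⟨⟨a0, a1⟩, a2⟩) | ⟨⟨a0, a1⟩, a2⟩) | ⟨⟨a0, a1⟩, a2⟩
      · exact absurd hdvd hz
      · refine ⟨0, z1 0 a0, ?_⟩
        intro k hk
        have hk' : k = 0 ∨ k = 1 ∨ k = 2 := (by decide : ∀ i : Fin 3, i = 0 ∨ i = 1 ∨ i = 2) k
        rcases hk' with rfl | rfl | rfl
        · exact absurd rfl hk
        · exact z2 1 a1
        · exact z2 2 a2
      · refine ⟨1, z1 1 a0, ?_⟩
        intro k hk
        have hk' : k = 0 ∨ k = 1 ∨ k = 2 := (by decide : ∀ i : Fin 3, i = 0 ∨ i = 1 ∨ i = 2) k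
        rcases hk' with rfl | rfl | rfl
        · exact z2 0 a1
        · exact absurd rfl hk
        · exact z2 2 a2
      · refine ⟨2, z1 2 a0, ?_⟩
        intro k hk
        have hk' : k = 0 ∨ k = 1 ∨ k = 2 := (by decide : ∀ i : Fin 3, i = 0 ∨ i = 1 ∨ i = 2) k
        rcases hk' with rfl | rfl | rfl
        · exact z2 0 a1
        · exact z2 1 a2
        · exact absurd rfl hk
    obtain ⟨j, hj1, hj2⟩ := hblock
    obtain ⟨m, hm1, hm2⟩ := hj2 (j - e) (by
      intro h
      exact he (by simpa using h))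
    have h0 := row_kill hζ hy hYY (hP (Sum.inr r)) (j := j) (fun a ha b => by
      show Nm K r.val a b = 0
      rw [Nm_apply, hj1 a ha]
      simp) (m := m) (by rw [hm1]; exact sub_add_cancel j e) (sr r.val m)
    rw [comb_apply_gen _ hm2] at h0
    have h4 : ((sg r.val m : ℤ) : K) ≠ 0 := H944.E6T.sg_cast_ne_zero hm2
    exact (mul_eq_zero.1 h0).resolve_right h4
  -- the torus
  have htor : ∀ (c : chevE6.Idx → K) (j : Fin 3), (∀ a : I27, a.1 = j → ∀ b, comb c a b = 0) →
      ∀ m : I27, m.1 = j - e → comb (fun row => ∑ col, M row col * c col) m m = 0 := by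
    intro c j hc m hm
    exact row_kill hζ hy hYY (comb_mul_of hP c) hc (by rw [hm]; exact sub_add_cancel j e) m
  have hsingle : ∀ (col0 row : chevE6.Idx), (∑ col, M row col *
      (if col = col0 then (1 : K) else 0)) = M row col0 := by
    intro col0 row
    rw [Finset.sum_eq_single col0]
    · rw [if_pos rfl, mul_one]
    · intro u _ hu; rw [if_neg hu, mul_zero]
    · intro h; exact absurd (Finset.mem_univ _) h
  have hH : ∀ (i : Fin chevE6.rank) (j : Fin 3), (∀ a : I27, a.1 = j → wt a i.val = 0) →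
      ∀ m : I27, m.1 = j - e → comb (fun row => M row (Sum.inl i)) m m = 0 := by
    intro i j hw m hm
    obtain ⟨col0, hcol⟩ : ∃ col0 : chevE6.Idx, col0 = Sum.inl i := ⟨_, rfl⟩
    have h := htor (fun col => if col = col0 then (1 : K) else 0) j (fun a ha b => by
      have e1 : comb (fun col => if col = col0 then (1 : K) else 0) = Hm K i.val := by
        rw [comb_def, Finset.sum_eq_single col0]
        · rw [if_pos rfl, one_smul, hcol]; rfl
        · intro u _ hu; rw [if_neg hu, zero_smul]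
        · intro h; exact absurd (Finset.mem_univ _) h
      rw [e1, Hm_apply, hw a ha]
      simp) m hm
    simp only [hsingle] at h
    rw [hcol] at h
    exact h
  have hje : ∀ j : Fin 3, j - e ≠ j := by
    intro j h
    exact he (by simpa using h)
  have hG : ∀ m : I27, m.1 = 0 - e → comb (fun row => M row (Sum.inl (0 : Fin 6)) + M row (Sum.inl (1 : Fin 6)) +
      2 * M row (Sum.inl (2 : Fin 6)) + 3 * M row (Sum.inl (3 : Fin 6)) + 2 * M row (Sum.inl (4 : Fin 6)) +
      M row (Sum.inl (5 : Fin 6))) m m = 0 := by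
    intro m hm
    have h := htor (cG K) 0 (fun a ha b => by
      rw [comb_split, cG_r]
      rw [add_zero, Matrix.sum_apply, cG_l]
      by_cases hab : a = b
      · have hw := wG a ha
        have hw' := congrArg (fun z : ℤ => (z : K)) hw
        push_cast at hw'
        simp only [Hm_apply, if_pos hab]
        linear_combination hw'
      · simp only [Hm_apply, if_neg hab]; ring) m hm
    simp only [cG_s] at h
    exact h
  have t0 := ((functionals _ _ (hH (0 : Fin 6) 1 w0)).2.1 (hje 1)).1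
  have t2 := ((functionals _ _ (hH (2 : Fin 6) 1 w2)).2.1 (hje 1)).2
  have t1 := ((functionals _ _ (hH (1 : Fin 6) 0 w1)).1 (hje 0)).2
  have t4 := ((functionals _ _ (hH (4 : Fin 6) 2 w4)).2.2 (hje 2)).1
  have t5 := ((functionals _ _ (hH (5 : Fin 6) 2 w5)).2.2 (hje 2)).2
  have tG := ((functionals _ _ hG).1 (hje 0)).1
  have htorus : ∑ i : Fin 6, M (Sum.inl i) (Sum.inl i) = 0 := by
    have h : (3 : K) * ∑ i : Fin 6, M (Sum.inl i) (Sum.inl i) = 0 := by
      rw [Fin.sum_univ_six]
      linear_combination t0 + t1 + t2 + t4 + t5 + tG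
    exact (mul_eq_zero.1 h).resolve_left h3
  -- the traces
  have hX : (((ad K x : ↥(chevE6.group K)) : GL chevE6.Idx K) : Matrix chevE6.Idx chevE6.Idx K) =
      Matrix.diagonal (dL ζ) := by
    refine P_unique (g := (x : GL I27 K)) (ad_P x) ?_
    rw [hx]
    exact P_std hζ
  have trc : ∀ z : ↥(Zgrp K), LinearMap.trace K _ (L K z) =
      Matrix.trace ((((ad K z : ↥(chevE6.group K)) : GL chevE6.Idx K) : Matrix chevE6.Idx chevE6.Idx K)) := by
    intro z
    exact Matrix.trace_toLin'_eq _
  have m1 : (((ad K (x * y) : ↥(chevE6.group K)) : GL chevE6.Idx K) : Matrix chevE6.Idx chevE6.Idx K) =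
      Matrix.diagonal (dL ζ) * M := by
    rw [map_mul, Subgroup.coe_mul, Units.val_mul, hX, hM]
  have m2 : (((ad K (x * x * y) : ↥(chevE6.group K)) : GL chevE6.Idx K) : Matrix chevE6.Idx chevE6.Idx K) =
      Matrix.diagonal (dL ζ) * (Matrix.diagonal (dL ζ) * M) := by
    rw [map_mul, map_mul, Subgroup.coe_mul, Subgroup.coe_mul, Units.val_mul, Units.val_mul, hX, hM, mul_assoc]
  rw [trc, trc, trc, m1, m2, ← hM]
  simp only [Matrix.trace, Matrix.diag_apply, Matrix.diagonal_mul]
  rw [← Finset.sum_add_distrib, ← Finset.sum_add_distrib, Fintype.sum_sum_type]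
  have s1 : (∑ i : Fin chevE6.rank, (M (Sum.inl i) (Sum.inl i) + dL ζ (Sum.inl i) * M (Sum.inl i) (Sum.inl i) +
      dL ζ (Sum.inl i) * (dL ζ (Sum.inl i) * M (Sum.inl i) (Sum.inl i)))) = 0 := by
    have : ∀ i : Fin chevE6.rank, (M (Sum.inl i) (Sum.inl i) + dL ζ (Sum.inl i) * M (Sum.inl i) (Sum.inl i) +
      dL ζ (Sum.inl i) * (dL ζ (Sum.inl i) * M (Sum.inl i) (Sum.inl i))) = 3 * M (Sum.inl i) (Sum.inl i) := by
      intro i
      show _ + 1 * _ + 1 * (1 * _) = _
      ring
    rw [Finset.sum_congr rfl fun i _ => this i, ← Finset.mul_sum]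
    show 3 * ∑ i : Fin 6, M (Sum.inl i) (Sum.inl i) = 0
    rw [htorus, mul_zero]
  have s2 : (∑ r : Fin chevE6.nroots, (M (Sum.inr r) (Sum.inr r) + dL ζ (Sum.inr r) * M (Sum.inr r) (Sum.inr r) +
      dL ζ (Sum.inr r) * (dL ζ (Sum.inr r) * M (Sum.inr r) (Sum.inr r)))) = 0 := by
    refine Finset.sum_eq_zero fun r _ => ?_
    by_cases h1 : dL ζ (Sum.inr r) = 1
    · rw [hroot r h1]; ring
    · have h2 : dL ζ (Sum.inr r) ^ 3 = 1 := by
        show (ζ ^ _) ^ 3 = 1
        rw [← pow_mul, mul_comm, pow_mul, hζ.pow_eq_one, one_pow]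
      have h4 : (dL ζ (Sum.inr r) - 1) * (1 + dL ζ (Sum.inr r) + dL ζ (Sum.inr r) ^ 2) = 0 := by
        linear_combination h2
      have h5 := (mul_eq_zero.1 h4).resolve_left (sub_ne_zero.2 h1)
      linear_combination M (Sum.inr r) (Sum.inr r) * h5
  rw [s1, s2, add_zero]

end tr

universe u

/-! ### elements commuting up to a scalar -/

/-- the commutator of `x` and `y` is the scalar `c` -/
def Com {K : Type*} [Field K] (c : K) (x y : ↥(Zgrp K)) : Prop :=
  ((x : GL I27 K) : Matrix I27 I27 K) * ((y : GL I27 K) : Matrix I27 I27 K) =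
    c • (((y : GL I27 K) : Matrix I27 I27 K) * ((x : GL I27 K) : Matrix I27 I27 K))

theorem coe_scal {K : Type*} [Field K] (c : Kˣ) : ((scal c : GL I27 K) : Matrix I27 I27 K) = (c : K) • 1 := by
  rw [← Algebra.algebraMap_eq_smul_one]
  rfl

theorem Com.of_scal {K : Type*} [Field K] {c : Kˣ} {x y : ↥(Zgrp K)}
    (h : ((x * y * x⁻¹ * y⁻¹ : ↥(Zgrp K)) : GL I27 K) = scal c) : Com (c : K) x y := by
  have h1 : (x : GL I27 K) * (y : GL I27 K) = scal c * ((y : GL I27 K) * (x : GL I27 K)) := by
    rw [← h]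
    push_cast
    group
  have h2 := congrArg (fun g : GL I27 K => (g : Matrix I27 I27 K)) h1
  simp only [Units.val_mul, coe_scal] at h2
  rw [Com, h2, smul_mul_assoc, one_mul]

theorem Com.conj {K : Type*} [Field K] {c : K} {x y : ↥(Zgrp K)} (h : Com c x y) (g : ↥(Zgrp K)) :
    Com c (g * x * g⁻¹) (g * y * g⁻¹) := by
  have e : ∀ u v : ↥(Zgrp K), ((((g * u * g⁻¹ : ↥(Zgrp K)) : GL I27 K) : Matrix I27 I27 K) *
      (((g * v * g⁻¹ : ↥(Zgrp K)) : GL I27 K) : Matrix I27 I27 K)) =
      ((g : GL I27 K) : Matrix I27 I27 K) * (((u : GL I27 K) : Matrix I27 I27 K) * ((v : GL I27 K) : Matrix I27 I27 K)) *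
        (((g : GL I27 K)⁻¹ : GL I27 K) : Matrix I27 I27 K) := by
    intro u v
    rw [← Units.val_mul, ← Units.val_mul, ← Units.val_mul, ← Units.val_mul]
    congr 1
    push_cast
    group
  rw [Com, e, e, h, Matrix.mul_smul, Matrix.smul_mul]

theorem Com.map {F K : Type u} [Field F] [Field K] (f : F →+* K) {c : F} {x y : ↥(Zgrp F)} (h : Com c x y) :
    Com (f c) (H944.E6T.jm f x) (H944.E6T.jm f y) := by
  rw [Com, H944.E6T.coe_jm, H944.E6T.coe_jm, ← Matrix.map_mul, h, ← Matrix.map_mul]
  ext i j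
  rw [Matrix.map_apply, Matrix.smul_apply, Matrix.smul_apply, Matrix.map_apply, smul_eq_mul, smul_eq_mul, map_mul]

/-- conjugation by `y` multiplies `x` by a scalar -/
theorem Com.ev_eq {K : Type*} [Field K] {c : K} (hc : c ≠ 0) {x y : ↥(Zgrp K)} (h : Com c x y) (μ : K) :
    ev (V K x) (c * μ) = ev (V K x) μ := by
  rw [← ev_conj (V K) y x μ]
  unfold ev
  suffices hs : Module.End.eigenspace (V K x) (c * μ) = Module.End.eigenspace (V K (y * x * y⁻¹)) μ by rw [hs]
  ext v
  rw [Module.End.mem_eigenspace_iff, Module.End.mem_eigenspace_iff]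
  have h1 : V K x = c • V K (y * x * y⁻¹) := by
    have h2 : ((x : GL I27 K) : Matrix I27 I27 K) =
        c • (((y * x * y⁻¹ : ↥(Zgrp K)) : GL I27 K) : Matrix I27 I27 K) := by
      have h3 : ((y : GL I27 K) : Matrix I27 I27 K) * (((y : GL I27 K)⁻¹ : GL I27 K) : Matrix I27 I27 K) = 1 := by
        rw [← Units.val_mul, mul_inv_cancel, Units.val_one]
      have h4 := congrArg (fun M => M * (((y : GL I27 K)⁻¹ : GL I27 K) : Matrix I27 I27 K)) h
      simp only [Matrix.mul_assoc, h3, Matrix.mul_one, Matrix.smul_mul] at h4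
      rw [h4]
      push_cast
      rw [Matrix.mul_assoc]
    refine LinearMap.ext fun w => ?_
    rw [H163.E6.V_apply, LinearMap.smul_apply, H163.E6.V_apply, h2, Matrix.smul_mulVec]
  rw [h1, LinearMap.smul_apply, mul_smul]
  constructor
  · intro h2
    exact smul_right_injective _ hc h2
  · intro h2
    rw [h2]

/-- **The trace identity**, algebraically closed fields. -/
theorem trace_sum_closed {K : Type*} [Field K] [IsAlgClosed K] (p : ℕ) [Fact p.Prime] [CharP K p] (hK : HAlg p K)
    (hp : p ≠ 3) (h3 : (3 : K) ≠ 0) {c : K} (hc : IsPrimitiveRoot c 3) {x y : ↥(Zgrp K)} (hx : x ^ 3 = 1)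
    (h24 : ev (L K x) 1 = 24) (hxy : Com c x y) :
    LinearMap.trace K _ (L K y) + LinearMap.trace K _ (L K (x * y)) + LinearMap.trace K _ (L K (x * x * y)) = 0 := by
  obtain ⟨g, hg⟩ := exists_std p hK hp hc.inv hx h24
  have h1 := hxy.conj g
  have h2 : (((g * y * g⁻¹ : ↥(Zgrp K)) : GL I27 K) : Matrix I27 I27 K) * Matrix.diagonal (dS c⁻¹) =
      c⁻¹ ^ (1 : Fin 3).val • (Matrix.diagonal (dS c⁻¹) *
        (((g * y * g⁻¹ : ↥(Zgrp K)) : GL I27 K) : Matrix I27 I27 K)) := by
    have hc0 : c ≠ 0 := hc.ne_zero (by norm_num)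
    rw [Com, hg] at h1
    have h3 : c⁻¹ ^ (1 : Fin 3).val = c⁻¹ := pow_one _
    rw [h3]
    unfold dS
    rw [h1, smul_smul, inv_mul_cancel₀ hc0, one_smul]
  have h4 := trace_std h3 hc.inv hg (by decide : (1 : Fin 3) ≠ 0) h2
  have e1 : g * x * g⁻¹ * (g * y * g⁻¹) = g * (x * y) * g⁻¹ := by group
  have e2 : g * x * g⁻¹ * (g * x * g⁻¹) * (g * y * g⁻¹) = g * (x * x * y) * g⁻¹ := by group
  rw [e1, e2, H944.E6T.trace_conj, H944.E6T.trace_conj, H944.E6T.trace_conj] at h4
  exact h4

open H944.E6T (jm ev_V ev_L trace_V trace_L ad_jm jm_injective) in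
/-- **The trace identity.** -/
theorem trace_sum (p : ℕ) [Fact p.Prime] {F : Type u} [Field F] [Finite F] [CharP F p]
    (hp : p ≠ 3) {c : F} (hc : IsPrimitiveRoot c 3) {x y : ↥(Zgrp F)} (hx : x ^ 3 = 1)
    (h24 : ev (L F x) 1 = 24) (hxy : Com c x y) :
    LinearMap.trace F _ (L F y) + LinearMap.trace F _ (L F (x * y)) + LinearMap.trace F _ (L F (x * x * y)) = 0 := by
  have : CharP (AlgebraicClosure F) p := charP_of_injective_algebraMap (algebraMap F (AlgebraicClosure F)).injective p
  have h3 : (3 : AlgebraicClosure F) ≠ 0 := by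
    intro h
    have h1 : ((3 : ℕ) : AlgebraicClosure F) = 0 := by exact_mod_cast h
    rw [CharP.cast_eq_zero_iff (AlgebraicClosure F) p] at h1
    exact hp ((Nat.prime_dvd_prime_iff_eq (Fact.out) Nat.prime_three).1 h1)
  set f := algebraMap F (AlgebraicClosure F) with hf
  have h1 := trace_sum_closed p (Cfsg.Agent.H944.RootVals.hAlg_closure p F) hp h3
    (hc.map_of_injective f.injective) (x := jm f x) (y := jm f y) (by rw [← map_pow, hx, map_one])
    (by rw [← map_one f, ev_L, h24]) (hxy.map f)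
  rw [← map_mul, ← map_mul, ← map_mul, trace_L, trace_L, trace_L, ← map_add, ← map_add] at h1
  exact (map_eq_zero_iff f f.injective).1 h1

open H944.E6T (jm ev_V ev_L trace_V trace_L ad_jm jm_injective exists_mult spec3 dg) in
/-- the multiplicities of an element of order 3 conjugate to a multiple -/
theorem nine (p : ℕ) [Fact p.Prime] {F : Type u} [Field F] [Finite F] [CharP F p]
    (hp : p ≠ 3) {c : F} (hc : IsPrimitiveRoot c 3) {x y : ↥(Zgrp F)} (hx : x ^ 3 = 1) (hx1 : ad F x ≠ 1)
    (hxy : Com c x y) : ev (V F x) 1 = 9 ∧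
      ((ev (L F x) 1 = 30 ∧ LinearMap.trace F _ (L F x) = 6) ∨
        (ev (L F x) 1 = 24 ∧ LinearMap.trace F _ (L F x) = -3)) := by
  have : CharP (AlgebraicClosure F) p := charP_of_injective_algebraMap (algebraMap F (AlgebraicClosure F)).injective p
  set f := algebraMap F (AlgebraicClosure F) with hf
  have hcop : (3 : ℕ).Coprime p := (Nat.coprime_primes Nat.prime_three Fact.out).2 (Ne.symm hp)
  have hcK := hc.map_of_injective f.injective
  obtain ⟨q, hq, hM⟩ := exists_mult p (Cfsg.Agent.H944.RootVals.hAlg_closure p F) (Or.inr (Or.inl rfl)) hcop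
    hcK (x := jm f x) (by rw [← map_pow, hx, map_one])
  have hT := (H163.E6.Tor.tab p (F := F)).three hp x hx1 hx
  have h0 : ev (V F x) 1 = dg q.1 0 := by
    rw [← hM.evV 0 (by norm_num), pow_zero, ← map_one f, ev_V]
  have hc0 : f c ≠ 0 := hcK.ne_zero (by norm_num)
  have h1 : dg q.1 1 = dg q.1 0 := by
    rw [← hM.evV 1 (by norm_num), ← hM.evV 0 (by norm_num), ← (hxy.map f).ev_eq hc0 (f c ^ 0)]
    congr 1
    ring
  have h2 : dg q.1 2 = dg q.1 1 := by
    rw [← hM.evV 2 (by norm_num), ← hM.evV 1 (by norm_num), ← (hxy.map f).ev_eq hc0 (f c ^ 1)]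
    congr 1
    ring
  have h3 := spec3 q hq
  have hL : ev (L F x) 1 = dg q.2 0 := by
    rw [← hM.evL 0 (by norm_num), pow_zero, ← map_one f, ev_L]
  rcases h3 with h | h | h | h | h | h
  · exfalso
    rw [h] at hL
    rcases hT with t | t | t | t
    all_goals (have := t.2.1; omega)
  · omega
  · refine ⟨by omega, Or.inl ⟨by omega, ?_⟩⟩
    rcases hT with t | t | t | t
    · have := t.1; omega
    · exact t.2.2.2
    · have := t.2.1; omega
    · have := t.1; omega
  · refine ⟨by omega, Or.inr ⟨by omega, ?_⟩⟩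
    rcases hT with t | t | t | t
    · have := t.1; omega
    · have := t.2.1; omega
    · exact t.2.2.2
    · have := t.1; omega
  · omega
  · omega

/-! ### the alternating groups -/

section grp

variable {F : Type u} [Field F] [Finite F]

omit [Finite F] in
theorem L_of_ad {x y : ↥(Zgrp F)} (h : ad F x = ad F y) : L F x = L F y := by
  rw [H163.E6.L_eq, H163.E6.L_eq, h]

omit [Finite F] in
theorem pow_three_mul {c : F} (hc : c ^ 3 = 1) {x y : ↥(Zgrp F)} (h : Com c x y) (hx : x ^ 3 = 1) (hy : y ^ 3 = 1) :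
    (x * y) ^ 3 = 1 := by
  apply Subtype.ext
  apply Units.ext
  have hX : ((x : GL I27 F) : Matrix I27 I27 F) ^ 3 = 1 := by
    have := congrArg (fun g : ↥(Zgrp F) => ((g : GL I27 F) : Matrix I27 I27 F)) hx
    simpa only [_root_.SubmonoidClass.coe_pow, _root_.Units.val_pow_eq_pow_val, _root_.OneMemClass.coe_one, _root_.Units.val_one] using this
  have hY : ((y : GL I27 F) : Matrix I27 I27 F) ^ 3 = 1 := by
    have := congrArg (fun g : ↥(Zgrp F) => ((g : GL I27 F) : Matrix I27 I27 F)) hy
    simpa only [_root_.SubmonoidClass.coe_pow, _root_.Units.val_pow_eq_pow_val, _root_.OneMemClass.coe_one, _root_.Units.val_one] using this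
  have h1 : ((((x * y) ^ 3 : ↥(Zgrp F)) : GL I27 F) : Matrix I27 I27 F) =
      (((x : GL I27 F) : Matrix I27 I27 F) * ((y : GL I27 F) : Matrix I27 I27 F)) ^ 3 := by simp
  rw [h1]
  unfold Com at h
  generalize ((x : GL I27 F) : Matrix I27 I27 F) = X at *
  generalize ((y : GL I27 F) : Matrix I27 I27 F) = Y at *
  have hc0 : c ≠ 0 := by
    rintro rfl
    norm_num at hc
  have e : Y * X = c⁻¹ • (X * Y) := by rw [h, smul_smul, inv_mul_cancel₀ hc0, one_smul]
  have e2 : (X * Y) ^ 3 = c⁻¹ ^ 3 • (X ^ 3 * Y ^ 3) := by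
    have e3 : (X * Y) ^ 3 = X * (Y * X) * (Y * X) * Y := by
      simp only [pow_succ, pow_zero, one_mul, mul_assoc]
    have e4 : X * (X * Y) * (X * Y) * Y = X * X * (Y * X) * Y * Y := by simp only [mul_assoc]
    rw [e3, e]
    simp only [Matrix.mul_smul, Matrix.smul_mul, smul_smul]
    rw [e4, e]
    simp only [Matrix.mul_smul, Matrix.smul_mul, smul_smul]
    have e5 : X * X * (X * Y) * Y * Y = X ^ 3 * Y ^ 3 := by
      simp only [pow_succ, pow_zero, one_mul, mul_assoc]
    rw [e5]
    congr 1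
    ring
  rw [e2, hX, hY, inv_pow, hc, inv_one, one_smul, one_mul]
  rfl

theorem core (p : ℕ) [Fact p.Prime] [CharP F p] (hp : p ≠ 3) {A : Type*} [Group A]
    {φ : A →* ↥(chevE6.group F)} {a b g : A} (hab : a * b = b * a) (ha3 : a ^ 3 = 1) (hb3 : b ^ 3 = 1)
    (hg : g * a * g⁻¹ = b) (hg' : g * b * g⁻¹ = a⁻¹) (ha1 : φ a ≠ 1) (hab1 : φ (a * b) ≠ 1)
    (hnc : ∀ x y, ad F x = φ a → ad F y = φ b → x ^ 3 = 1 ∧ y ^ 3 = 1 ∧ ∃ c : F, IsPrimitiveRoot c 3 ∧ Com c x y)
    {z : ↥(Zgrp F)} (hz : ad F z = φ a ∨ ad F z = φ (a * b)) :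
    z ^ 3 = 1 ∧ ev (V F z) 1 = 9 ∧ ev (L F z) 1 = 30 := by
  obtain ⟨x, y, hx, hy, hzz⟩ : ∃ x y : ↥(Zgrp F), ad F x = φ a ∧ ad F y = φ b ∧ (z = x ∨ z = x * y) := by
    obtain ⟨y, hy⟩ := ad_surjective (F := F) (φ b)
    rcases hz with hz | hz
    · exact ⟨z, y, hz, hy, Or.inl rfl⟩
    · refine ⟨z * y⁻¹, y, ?_, hy, Or.inr (by group)⟩
      rw [map_mul, hz, map_inv, hy, map_mul, mul_inv_cancel_right]
  obtain ⟨hx3, hy3, c, hc, hcom⟩ := hnc x y hx hy
  have h3F : (3 : F) ≠ 0 := by
    intro h
    have h1 : ((3 : ℕ) : F) = 0 := by exact_mod_cast h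
    rw [CharP.cast_eq_zero_iff F p] at h1
    exact hp ((Nat.prime_dvd_prime_iff_eq (Fact.out) Nat.prime_three).1 h1)
  -- the traces on the adjoint module depend on the class only
  have key : ∀ {u v : ↥(Zgrp F)} {s t : A} (w : A), ad F u = φ s → ad F v = φ t → w * s * w⁻¹ = t →
      LinearMap.trace F _ (L F u) = LinearMap.trace F _ (L F v) := by
    intro u v s t w hu hv hst
    obtain ⟨h, hh⟩ := ad_surjective (F := F) (φ w)
    rw [← H944.E6T.trace_conj (L F) h u]
    congr 1
    apply L_of_ad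
    rw [map_mul, map_mul, map_inv, hh, hu, hv, ← hst]
    simp only [map_mul, map_inv]
  have ci : ∀ w s : A, w * s⁻¹ * w⁻¹ = (w * s * w⁻¹)⁻¹ := by intros; group
  have g2a : g * (g * a * g⁻¹) * g⁻¹ = a⁻¹ := by rw [hg, hg']
  have g3a : (g * g * g) * a * (g * g * g)⁻¹ = b⁻¹ := by
    have : (g * g * g) * a * (g * g * g)⁻¹ = g * (g * (g * a * g⁻¹) * g⁻¹) * g⁻¹ := by
      simp only [mul_inv_rev, mul_assoc]
    rw [this, g2a, ci, hg]
  have g3b : (g * g * g) * b * (g * g * g)⁻¹ = a := by
    have : (g * g * g) * b * (g * g * g)⁻¹ = g * (g * (g * b * g⁻¹) * g⁻¹) * g⁻¹ := by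
      simp only [mul_inv_rev, mul_assoc]
    rw [this, hg', ci, hg, ci, hg', inv_inv]
  have hai : a⁻¹ = a * a := by rw [inv_eq_iff_mul_eq_one, ← ha3]; simp only [pow_succ, pow_zero, one_mul, mul_assoc]
  have hbi : b⁻¹ = b * b := by rw [inv_eq_iff_mul_eq_one, ← hb3]; simp only [pow_succ, pow_zero, one_mul, mul_assoc]
  have hbi3 : b * (b * b) = 1 := by rw [← hb3]; simp only [pow_succ, pow_zero, one_mul, mul_assoc]
  have cj : ∀ w s t : A, w * (s * t) * w⁻¹ = (w * s * w⁻¹) * (w * t * w⁻¹) := by intros; group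
  have t1 : LinearMap.trace F _ (L F x) = LinearMap.trace F _ (L F y) := key g hx hy hg
  have t2 : LinearMap.trace F _ (L F (x * y)) = LinearMap.trace F _ (L F (x * x * y)) := by
    refine key (s := a * b) (t := a * a * b) g (by rw [map_mul, hx, hy, map_mul])
      (by simp only [map_mul, hx, hy]) ?_
    rw [cj, hg, hg', hai]
    calc b * (a * a) = (b * a) * a := (mul_assoc _ _ _).symm
      _ = a * b * a := by rw [hab]
      _ = a * (b * a) := mul_assoc _ _ _
      _ = a * (a * b) := by rw [hab]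
      _ = a * a * b := (mul_assoc _ _ _).symm
  -- the sum for `x, y`
  have hyad : ad F x ≠ 1 := by rw [hx]; exact ha1
  have hxyad : ad F (x * y) ≠ 1 := by rw [map_mul, hx, hy, ← map_mul]; exact hab1
  have hxy3 : (x * y) ^ 3 = 1 := pow_three_mul hc.pow_eq_one hcom hx3 hy3
  have hcom2 : Com c (x * y) y := by
    have h1 := congrArg (fun M => M * ((y : GL I27 F) : Matrix I27 I27 F)) hcom
    simp only [Matrix.smul_mul, Matrix.mul_assoc] at h1
    unfold Com
    push_cast
    rw [Matrix.mul_assoc, h1]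
  have n1 := nine p hp hc hx3 hyad hcom
  have n2 := nine p hp hc hxy3 hxyad hcom2
  have r1 : ev (L F x) 1 = 30 ∧ LinearMap.trace F _ (L F x) = 6 := by
    rcases n1.2 with h1 | h1
    · exact h1
    · exfalso
      have s1 := trace_sum p hp hc hx3 h1.1 hcom
      rw [← t1, ← t2, h1.2] at s1
      rcases n2.2 with h2 | h2
      · rw [h2.2] at s1
        apply h3F
        have : (3 : F) * 3 = 0 := by linear_combination s1
        rcases mul_eq_zero.1 this with h | h <;> exact h
      · rw [h2.2] at s1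
        apply h3F
        have : (3 : F) * 3 = 0 := by linear_combination -s1
        rcases mul_eq_zero.1 this with h | h <;> exact h
  have r2 : ev (L F (x * y)) 1 = 30 := by
    rcases n2.2 with h1 | h1
    · exact h1.1
    · exfalso
      have s1 := trace_sum p hp hc hxy3 h1.1 hcom2
      have t3 : LinearMap.trace F _ (L F (x * y)) = LinearMap.trace F _ (L F (x * y * y)) := by
        refine key (s := a * b) (t := a * b * b) (g * g * g) (by rw [map_mul, hx, hy, map_mul])
          (by simp only [map_mul, hx, hy]) ?_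
        rw [cj, g3a, g3b, hbi]
        calc b * b * a = b * (b * a) := mul_assoc _ _ _
          _ = b * (a * b) := by rw [hab]
          _ = b * a * b := (mul_assoc _ _ _).symm
          _ = a * b * b := by rw [hab]
      have t4 : LinearMap.trace F _ (L F y) = LinearMap.trace F _ (L F (x * y * (x * y) * y)) := by
        refine key (s := b) (t := a * b * (a * b) * b) g hy (by simp only [map_mul, hx, hy]) ?_
        rw [hg', hai]
        simp only [mul_assoc]
        rw [← mul_assoc b a (b * b), ← hab, mul_assoc a b (b * b), hbi3, mul_one]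
      rw [← t3, ← t4, ← t1, r1.2, h1.2] at s1
      apply h3F
      have : (3 : F) * 3 = 0 := by linear_combination s1
      rcases mul_eq_zero.1 this with h | h <;> exact h
  rcases hzz with rfl | rfl
  · exact ⟨hx3, n1.1, r1.1⟩
  · exact ⟨hxy3, n2.1, r2⟩

end grp

/-! ### elements of order 3 in `A₆`, `A₇` -/

section perms

open Equiv Equiv.Perm

theorem exists_perms {n : ℕ} (hn : n = 6 ∨ n = 7) : ∃ a b g u : Perm (Fin n),
    IsThreeCycle a ∧ IsThreeCycle b ∧ a.Disjoint b ∧ sign g = 1 ∧ sign u = -1 ∧ g * a * g⁻¹ = b ∧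
      g * b * g⁻¹ = a⁻¹ ∧ u * (a * b) * u⁻¹ = a * b := by
  rcases hn with rfl | rfl
  · refine ⟨swap 0 2 * swap 0 1, swap 3 5 * swap 3 4, swap 0 3 * swap 1 4 * swap 4 2 * swap 2 5,
      swap 0 3 * swap 1 4 * swap 2 5, isThreeCycle_swap_mul_swap_same (by decide) (by decide) (by decide),
      isThreeCycle_swap_mul_swap_same (by decide) (by decide) (by decide), ?_, ?_, ?_, ?_, ?_, ?_⟩
    · intro x; revert x; decide +kernel
    · simp [sign_swap']
    · simp [sign_swap']
    all_goals (ext x; revert x; decide +kernel)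
  · refine ⟨swap 0 2 * swap 0 1, swap 3 5 * swap 3 4, swap 0 3 * swap 1 4 * swap 4 2 * swap 2 5,
      swap 0 3 * swap 1 4 * swap 2 5, isThreeCycle_swap_mul_swap_same (by decide) (by decide) (by decide),
      isThreeCycle_swap_mul_swap_same (by decide) (by decide) (by decide), ?_, ?_, ?_, ?_, ?_, ?_⟩
    · intro x; revert x; decide +kernel
    · simp [sign_swap']
    · simp [sign_swap']
    all_goals (ext x; revert x; decide +kernel)

theorem conj_std {n : ℕ} (hn : n = 6 ∨ n = 7) {a b u : Perm (Fin n)} (ha : IsThreeCycle a) (hb : IsThreeCycle b)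
    (hab : a.Disjoint b) (hu : sign u = -1) (hu' : u * (a * b) * u⁻¹ = a * b) {c : Perm (Fin n)}
    (hc : orderOf c = 3) (hcs : sign c = 1) : ∃ w : Perm (Fin n), sign w = 1 ∧ (w * c * w⁻¹ = a ∨ w * c * w⁻¹ = a * b) := by
  obtain ⟨k, hk⟩ := cycleType_prime_order (σ := c) (by rw [hc]; exact Nat.prime_three)
  rw [hc] at hk
  have hsum := sum_cycleType_le (σ := c)
  rw [hk, Multiset.sum_replicate, Fintype.card_fin, smul_eq_mul] at hsum
  have hk2 : k = 0 ∨ k = 1 := by rcases hn with rfl | rfl <;> omega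
  rcases hk2 with rfl | rfl
  · have hc3 : IsThreeCycle c := hk
    have h5 : 5 ≤ Nat.card (Fin n) := by rw [Nat.card_fin]; rcases hn with rfl | rfl <;> norm_num
    have hca : c ∈ alternatingGroup (Fin n) := mem_alternatingGroup.2 hcs
    have haa : a ∈ alternatingGroup (Fin n) := mem_alternatingGroup.2 ha.sign
    have h1 := alternatingGroup.isThreeCycle_isConj h5 (σ := ⟨c, hca⟩) (τ := ⟨a, haa⟩) hc3 ha
    obtain ⟨w, hw⟩ := isConj_iff.1 h1
    exact ⟨w, mem_alternatingGroup.1 w.2, Or.inl (congrArg Subtype.val hw)⟩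
  · have h1 : IsConj c (a * b) := by
      rw [isConj_iff_cycleType_eq, hk, hab.cycleType_mul, ha.cycleType, hb.cycleType]
      rfl
    obtain ⟨w, hw⟩ := isConj_iff.1 h1
    rcases Int.units_eq_one_or (sign w) with h | h
    · exact ⟨w, h, Or.inr hw⟩
    · refine ⟨u * w, by rw [Equiv.Perm.sign_mul, h, hu]; rfl, Or.inr ?_⟩
      rw [mul_inv_rev, ← hu', ← hw]
      simp only [mul_assoc]

end perms

/-- **`Cov.type_thirty`** from `Cov.not_comm`. -/
theorem type_thirty_of {F : Type u} [Field F] [Finite F] {n : ℕ}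
    {φ : ↥(alternatingGroup (Fin n)) →* ↥(chevE6.group F)} (hn : n = 6 ∨ n = 7) (hφ : Function.Injective φ) {ω : Fˣ}
    (hc : H163.E6.Cover φ ω)
    (not_comm : ∀ {a b : ↥(alternatingGroup (Fin n))}, (a : Equiv.Perm (Fin n)).cycleType = {3} →
      (b : Equiv.Perm (Fin n)).cycleType = {3} → (a : Equiv.Perm (Fin n)).Disjoint b →
      ∀ {x y : ↥(Zgrp F)}, ad F x = φ a → ad F y = φ b →
        x ^ 3 = 1 ∧ ((x * y * x⁻¹ * y⁻¹ : ↥(Zgrp F)) : GL I27 F) = scal ω ∨
          x ^ 3 = 1 ∧ ((x * y * x⁻¹ * y⁻¹ : ↥(Zgrp F)) : GL I27 F) = scal (ω⁻¹))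
    {a : ↥(alternatingGroup (Fin n))} (ha : orderOf a = 3) {x : ↥(Zgrp F)} (hx : ad F x = φ a) :
    x ^ 3 = 1 ∧ ev (V F x) 1 = 9 ∧ ev (L F x) 1 = 30 := by
  obtain ⟨p, hp⟩ := CharP.exists F
  have hpp : Fact p.Prime := by
    have : NeZero p := ⟨fun h0 => by
      subst h0
      have := CharP.charP_to_charZero F
      exact not_finite F⟩
    exact ⟨(CharP.char_is_prime_or_zero F p).resolve_right this.out⟩
  have hωp : IsPrimitiveRoot (ω : F) 3 := by
    rw [IsPrimitiveRoot.coe_units_iff]
    refine IsPrimitiveRoot.mk_of_lt ω (by norm_num) hc.2.1 fun l hl0 hl3 => ?_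
    interval_cases l
    · rw [pow_one]; exact hc.1
    · intro h2
      apply hc.1
      have h3 := hc.2.1
      rwa [pow_succ, h2, one_mul] at h3
  have hp3 : p ≠ 3 := by
    rintro rfl
    have h1 : ((ω : F) - 1) ^ 3 = 0 := by
      rw [sub_pow_char, one_pow, hωp.pow_eq_one, sub_self]
    have h2 : (ω : F) = 1 := sub_eq_zero.1 (pow_eq_zero_iff (by norm_num) |>.1 h1)
    exact hωp.ne_one (by norm_num) h2
  obtain ⟨a0, b0, g0, u0, h1, h2, h3, h4, h5, h6, h7, h8⟩ := exists_perms hn
  have ha0 : a0 ∈ alternatingGroup (Fin n) := Equiv.Perm.mem_alternatingGroup.2 h1.sign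
  have hb0 : b0 ∈ alternatingGroup (Fin n) := Equiv.Perm.mem_alternatingGroup.2 h2.sign
  have hg0 : g0 ∈ alternatingGroup (Fin n) := Equiv.Perm.mem_alternatingGroup.2 h4
  set A : ↥(alternatingGroup (Fin n)) := ⟨a0, ha0⟩ with hA
  set B : ↥(alternatingGroup (Fin n)) := ⟨b0, hb0⟩ with hB
  set G : ↥(alternatingGroup (Fin n)) := ⟨g0, hg0⟩ with hG
  obtain ⟨w0, hw0, hw⟩ := conj_std hn h1 h2 h3 h5 h8 (c := (a : Equiv.Perm (Fin n)))
    (by rw [Subgroup.orderOf_coe]; exact ha) (Equiv.Perm.mem_alternatingGroup.1 a.2)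
  set W : ↥(alternatingGroup (Fin n)) := ⟨w0, Equiv.Perm.mem_alternatingGroup.2 hw0⟩ with hW
  obtain ⟨h, hh⟩ := ad_surjective (F := F) (φ W)
  have hAB : A * B = B * A := Subtype.ext h3.commute
  have hA3 : A ^ 3 = 1 := Subtype.ext (by
    show a0 ^ 3 = 1
    rw [← h1.orderOf]; exact pow_orderOf_eq_one _)
  have hB3 : B ^ 3 = 1 := Subtype.ext (by
    show b0 ^ 3 = 1
    rw [← h2.orderOf]; exact pow_orderOf_eq_one _)
  have hA1 : A ≠ 1 := by
    intro h0
    have h9 : a0 = 1 := congrArg Subtype.val h0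
    have := h1.orderOf
    rw [h9, orderOf_one] at this
    omega
  have hAB1 : A * B ≠ 1 := by
    intro h0
    have h9 : a0 * b0 = 1 := congrArg Subtype.val h0
    have h10 := h3.cycleType_mul
    rw [h9, Equiv.Perm.cycleType_one, h1.cycleType, h2.cycleType] at h10
    simp at h10
  have hcore := core p hp3 (φ := φ) (a := A) (b := B) (g := G) hAB hA3 hB3 (Subtype.ext h6) (Subtype.ext h7)
    (fun h0 => hA1 (hφ (by rw [h0, map_one]))) (fun h0 => hAB1 (hφ (by rw [h0, map_one]))) (by
      intro x y hx hy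
      have k1 := not_comm (a := A) (b := B) h1.cycleType h2.cycleType h3 hx hy
      have k2 := not_comm (a := B) (b := A) h2.cycleType h1.cycleType h3.symm hy hx
      refine ⟨?_, ?_, ?_⟩
      · rcases k1 with k | k <;> exact k.1
      · rcases k2 with k | k <;> exact k.1
      · rcases k1 with k | k
        · exact ⟨ω, hωp, Com.of_scal k.2⟩
        · refine ⟨_, ?_, Com.of_scal k.2⟩
          rw [Units.val_inv_eq_inv_val]
          exact hωp.inv) (z := h * x * h⁻¹) (by
      rcases hw with hw | hw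
      · left
        have : W * a * W⁻¹ = A := Subtype.ext hw
        rw [← this]; simp only [map_mul, map_inv, hh, hx]
      · right
        have : W * a * W⁻¹ = A * B := Subtype.ext hw
        rw [← this]; simp only [map_mul, map_inv, hh, hx])
  rw [ev_conj, ev_conj] at hcore
  refine ⟨?_, hcore.2⟩
  have := hcore.1
  rw [conj_pow, mul_inv_eq_one] at this
  exact mul_left_cancel (a := h) (by rw [this, mul_one])

end Cfsg.Agent.H882.E6T

namespace Cfsg.Agent.H163.E6.Cov

open Cfsg.Lie Module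
open Cfsg.Agent.ChevalleyStructure.E6Min.Tables Cfsg.Agent.ChevalleyStructure.E6Min.Basic
  Cfsg.Agent.ChevalleyStructure.E6Min.Adjoint
open Cfsg.Agent.H952.F4 (ev es matRep)

universe u

variable {F : Type u} [Field F] [Finite F] {n : ℕ} {φ : ↥(alternatingGroup (Fin n)) →* ↥(chevE6.group F)}

/-- **The elements of order 3 are of type `D₄T₂`.** -/
theorem type_thirty (hn : n = 6 ∨ n = 7) (hφ : Function.Injective φ) {ω : Fˣ} (hc : Cover φ ω)
    {a : ↥(alternatingGroup (Fin n))} (ha : orderOf a = 3) {x : ↥(Zgrp F)} (hx : ad F x = φ a) :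
    x ^ 3 = 1 ∧ ev (V F x) 1 = 9 ∧ ev (L F x) 1 = 30 :=
  H882.E6T.type_thirty_of hn hφ hc (fun ha hb hab _ _ hx hy => not_comm hn hφ hc ha hb hab hx hy) ha hx

end Cfsg.Agent.H163.E6.Cov

private theorem dce_2a179db7289b : _root_.True := by
  try have : _root_.True := by simp only [_root_.Cfsg.Agent.H882.E6T.Com.eq_1]
  try have : _root_.True := by simp only [_root_.Cfsg.Agent.H882.E6T.app.eq_def]
  exact _root_.True.intro
end

-- part: H952/S7/Defs2
section
set_option linter.all false
open scoped Cfsg.Agent.FastGrp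

-- part: H952/S7/Defs
section
/-!
# S5927, S5928: the threefold cover of `A₇`, characteristic 2 (helper952)

`Dat ω σ σ' S T a` : abstract situation. `S`, `T` are lifts of `(2 3 4 5 6)`, `(0 1 2)`, `a` of `(0 1)(2 3)`.
`Fam ω σ S T v` : a family of 21 vectors indexed by the pairs of points (a vector fixed by the lift of the
stabilizer `S₅` of the pair `{0,1}` and its conjugates up to cube roots of unity). Pairs:
0: {0,1}; 1-5: {0,2},...,{0,6}; 6-10: {1,2},...,{1,6}; 11-15: {2,3},{3,4},{4,5},{5,6},{6,2};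
16-20: {2,4},{3,5},{4,6},{5,2},{6,3}.
-/

set_option autoImplicit false

namespace Cfsg.Agent.H952.S7

open Cfsg Cfsg.Lie Module
open Cfsg.Agent.ChevalleyStructure.E6Min.Tables
open Cfsg.Agent.H952.F4 (ev es sh cr tf)
open Cfsg.Agent.H163.E6 (TS)
open Cfsg.Agent.H905.E6T (PD)

universe u

/-- `S` on the pairs -/
def sp : Fin 21 → Fin 21 :=
  ![0, 2, 3, 4, 5, 1, 7, 8, 9, 10, 6, 12, 13, 14, 15, 11, 17, 18, 19, 20, 16]

/-- `T` on the pairs -/
def tp : Fin 21 → Fin 21 :=
  ![6, 0, 7, 8, 9, 10, 1, 11, 16, 19, 15, 2, 12, 13, 14, 5, 3, 17, 18, 4, 20]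

/-- exponents for `T` -/
def nt : Fin 21 → ℕ := ![0, 0, 2, 0, 0, 2, 0, 0, 0, 0, 0, 1, 0, 2, 0, 1, 0, 1, 1, 0, 2]

/-- monomial families -/
structure Fam {F : Type u} [Field F] {G : Type*} [Group G] (ω : F) (σ : Representation F G (I27 → F)) (S T : G)
    (v : Fin 21 → I27 → F) : Prop where
  s : ∀ p, σ S (v p) = v (sp p)
  t : ∀ p, σ T (v p) = ω ^ nt p • v (tp p)

/-- the vectors fixed by `S` and `a` -/
def X {F : Type u} [Field F] {G : Type*} [Group G] (σ : Representation F G (I27 → F)) (S a : G) :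
    Submodule F (I27 → F) := es (σ S) 1 ⊓ es (σ a) 1

/-- the element of order 3 normalizing `S T` -/
def yw {G : Type*} [Group G] (S T : G) : G := T * S⁻¹ * S⁻¹ * T⁻¹ * S⁻¹ * T * S

/-- the vectors fixed by `S T` and `yw S T` -/
def VD {F : Type u} [Field F] {G : Type*} [Group G] (σ : Representation F G (I27 → F)) (S T : G) :
    Submodule F (I27 → F) := es (σ (S * T)) 1 ⊓ es (σ (yw S T)) 1

/-- half of the situation -/
structure Half {F : Type u} [Field F] {G : Type*} [Group G] (ω : F) (σ : Representation F G (I27 → F)) (S T a : G) :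
    Prop where
  /-- `a` is `T S T⁻¹ S⁻¹ T` up to a scalar -/
  ha : ∀ v, σ (T * S * T⁻¹ * S⁻¹ * T) v = ω • σ a v
  /-- the families -/
  fam : ∀ v, σ S v = v → σ a v = v → ∃ f : Fin 21 → I27 → F, f 0 = v ∧ Fam ω σ S T f
  dimD : finrank F ↥(VD σ S T) ≤ 1
  f5 : 7 ≤ ev (σ S) 1
  /-- no stable totally singular subspace of small dimension -/
  nots : ∀ W : Submodule F (I27 → F), (∀ w ∈ W, σ S w ∈ W) → (∀ w ∈ W, σ T w ∈ W) → W ≠ ⊥ → finrank F ↥W ≤ 6 → ¬ TS W

/-- the situation -/
structure Dat {F : Type u} [Field F] {G : Type*} [Group G] (ω : F) (σ σ' : Representation F G (I27 → F))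
    (S T a : G) : Prop where
  h2 : (2 : F) = 0
  hω : ω * ω = ω + 1
  pd : PD σ σ'
  S5 : S ^ 5 = 1
  T3 : T ^ 3 = 1
  ST7 : (S * T) ^ 7 = 1
  a2 : a * a = 1
  b4 : (a * S) ^ 4 = 1
  y3 : yw S T ^ 3 = 1
  yz : yw S T * (S * T) = (S * T) ^ 2 * yw S T
  half : Half ω σ S T a
  half' : Half (ω ^ 2) σ' S T a
  dimX : 3 ≤ finrank F ↥(X σ S a) + finrank F ↥(X σ' S a)

theorem Dat.symm {F : Type u} [Field F] {G : Type*} [Group G] {ω : F} {σ σ' : Representation F G (I27 → F)}
    {S T a : G} (h : Dat ω σ σ' S T a) : Dat (ω ^ 2) σ' σ S T a where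
  h2 := h.h2
  hω := by
    have := h.hω
    linear_combination (ω * ω + ω + 1) * this + ω * h.h2
  pd := h.pd.symm
  S5 := h.S5
  T3 := h.T3
  ST7 := h.ST7
  a2 := h.a2
  b4 := h.b4
  y3 := h.y3
  yz := h.yz
  half := h.half'
  half' := by
    have h1 : (ω ^ 2) ^ 2 = ω := by
      have := h.hω
      linear_combination (ω * ω + ω + 1 + 1) * this + (ω + 1) * h.h2
    rw [h1]
    exact h.half
  dimX := by
    have := h.dimX
    omega

end Cfsg.Agent.H952.S7
end

-- part: H952/S7/KF
section
/-!
# The field with four elements as a computable ring and matrices over it acting on vectors of a module (helper952)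
-/

set_option autoImplicit false

namespace Cfsg.Agent.H952.S7

universe u v

/-- the field with 4 elements: `0`, `1`, `2 = ω`, `3 = ω + 1` -/
def KF : Type := Fin 4

namespace KF

instance : DecidableEq KF := inferInstanceAs (DecidableEq (Fin 4))
instance : Fintype KF := inferInstanceAs (Fintype (Fin 4))

/-- element with a code -/
def mk (n : ℕ) : KF := Fin.ofNat 4 n
def code (a : KF) : ℕ := Fin.val (n := 4) a

instance : Zero KF := ⟨mk 0⟩
instance : One KF := ⟨mk 1⟩
instance : Add KF := ⟨fun a b => mk (code a ^^^ code b)⟩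
instance : Neg KF := ⟨fun a => a⟩
/-- multiplication table: row `a`, column `b`, two bits each -/
instance : Mul KF := ⟨fun a b => mk ((2625168384 : ℕ) >>> (2 * (4 * code a + code b)))⟩

instance : CommRing KF where
  add_assoc := by decide +kernel
  zero_add := by decide +kernel
  add_zero := by decide +kernel
  nsmul := nsmulRec
  neg_add_cancel := by decide +kernel
  add_comm := by decide +kernel
  left_distrib := by decide +kernel
  right_distrib := by decide +kernel
  zero_mul := by decide +kernel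
  mul_zero := by decide +kernel
  mul_assoc := by decide +kernel
  one_mul := by decide +kernel
  mul_one := by decide +kernel
  zsmul := zsmulRec
  mul_comm := by decide +kernel

/-- evaluation -/
def io {F : Type u} [Field F] (ω : F) (a : KF) : F :=
  (if code a % 2 = 1 then 1 else 0) + (if code a / 2 = 1 then ω else 0)

theorem forall_KF {P : KF → Prop} (h0 : P 0) (h1 : P 1) (h2 : P (mk 2)) (h3 : P (mk 3)) : ∀ a, P a := by
  intro a
  rcases a with ⟨n, hn⟩
  match n, hn with
  | 0, _ => exact h0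
  | 1, _ => exact h1
  | 2, _ => exact h2
  | 3, _ => exact h3

section
variable {F : Type u} [Field F] {ω : F}

theorem io_zero : io ω 0 = 0 := by
  show (if (0:ℕ) % 2 = 1 then (1:F) else 0) + (if (0:ℕ) / 2 = 1 then ω else 0) = 0
  norm_num
theorem io_one : io ω 1 = 1 := by
  show (if (1:ℕ) % 2 = 1 then (1:F) else 0) + (if (1:ℕ) / 2 = 1 then ω else 0) = 1
  norm_num
theorem io_two : io ω (mk 2) = ω := by
  show (if (2:ℕ) % 2 = 1 then (1:F) else 0) + (if (2:ℕ) / 2 = 1 then ω else 0) = ω
  norm_num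
theorem io_three : io ω (mk 3) = 1 + ω := by
  show (if (3:ℕ) % 2 = 1 then (1:F) else 0) + (if (3:ℕ) / 2 = 1 then ω else 0) = 1 + ω
  norm_num

theorem io_add (h2 : (2 : F) = 0) (a b : KF) : io ω (a + b) = io ω a + io ω b := by
  revert a b
  refine forall_KF (fun b => ?_) (forall_KF ?_ ?_ ?_ ?_) (forall_KF ?_ ?_ ?_ ?_) (forall_KF ?_ ?_ ?_ ?_)
  · rw [zero_add, io_zero, zero_add]
  · rw [add_zero, io_zero, add_zero]
  · rw [show (1 + 1 : KF) = 0 by decide, io_zero, io_one]; linear_combination -h2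
  · rw [show (1 + mk 2 : KF) = mk 3 by decide, io_one, io_two, io_three]
  · rw [show (1 + mk 3 : KF) = mk 2 by decide, io_one, io_two, io_three]; linear_combination -h2
  · rw [add_zero, io_zero, add_zero]
  · rw [show (mk 2 + 1 : KF) = mk 3 by decide, io_one, io_two, io_three]; ring
  · rw [show (mk 2 + mk 2 : KF) = 0 by decide, io_zero, io_two]; linear_combination -ω * h2
  · rw [show (mk 2 + mk 3 : KF) = 1 by decide, io_one, io_two, io_three]; linear_combination -ω * h2
  · rw [add_zero, io_zero, add_zero]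
  · rw [show (mk 3 + 1 : KF) = mk 2 by decide, io_one, io_two, io_three]; linear_combination -h2
  · rw [show (mk 3 + mk 2 : KF) = 1 by decide, io_one, io_two, io_three]; linear_combination -ω * h2
  · rw [show (mk 3 + mk 3 : KF) = 0 by decide, io_zero, io_three]; linear_combination -(1 + ω) * h2

theorem io_mul (h2 : (2 : F) = 0) (hω : ω * ω = ω + 1) (a b : KF) : io ω (a * b) = io ω a * io ω b := by
  revert a b
  refine forall_KF (fun b => ?_) (fun b => ?_) (forall_KF ?_ ?_ ?_ ?_) (forall_KF ?_ ?_ ?_ ?_)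
  · rw [zero_mul, io_zero, zero_mul]
  · rw [one_mul, io_one, one_mul]
  · rw [mul_zero, io_zero, mul_zero]
  · rw [mul_one, io_one, mul_one]
  · rw [show (mk 2 * mk 2 : KF) = mk 3 by decide, io_two, io_three]; linear_combination -hω
  · rw [show (mk 2 * mk 3 : KF) = 1 by decide, io_one, io_two, io_three]; linear_combination -hω - ω * h2
  · rw [mul_zero, io_zero, mul_zero]
  · rw [mul_one, io_one, mul_one]
  · rw [show (mk 3 * mk 2 : KF) = 1 by decide, io_one, io_two, io_three]; linear_combination -hω - ω * h2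
  · rw [show (mk 3 * mk 3 : KF) = mk 2 by decide, io_two, io_three]; linear_combination -hω - (1 + ω) * h2

/-- evaluation as a ring homomorphism -/
def iota (h2 : (2 : F) = 0) (hω : ω * ω = ω + 1) : KF →+* F where
  toFun := io ω
  map_one' := io_one
  map_mul' := io_mul h2 hω
  map_zero' := io_zero
  map_add' := io_add h2

end
end KF

open Matrix

section act
variable {R : Type*} [CommRing R] {F : Type u} [Field F] {M : Type v} [AddCommGroup M] [Module F M]
  {n : Type*} [Fintype n]

/-- linear combination -/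
def pr (f : R →+* F) (c : n → R) (v : n → M) : M := ∑ i, f (c i) • v i

variable (f : R →+* F)

theorem pr_add (c d : n → R) (v : n → M) : pr f (c + d) v = pr f c v + pr f d v := by
  unfold pr
  rw [← Finset.sum_add_distrib]
  exact Finset.sum_congr rfl fun i _ => by rw [Pi.add_apply, map_add, add_smul]

theorem pr_zero (v : n → M) : pr f (0 : n → R) v = 0 := by
  unfold pr
  exact Finset.sum_eq_zero fun i _ => by rw [Pi.zero_apply, map_zero, zero_smul]

theorem pr_smul (a : R) (c : n → R) (v : n → M) : pr f (a • c) v = f a • pr f c v := by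
  unfold pr
  rw [Finset.smul_sum]
  exact Finset.sum_congr rfl fun i _ => by rw [Pi.smul_apply, smul_eq_mul, map_mul, mul_smul]

theorem pr_sum {ι : Type*} (s : Finset ι) (c : ι → n → R) (v : n → M) :
    pr f (∑ i ∈ s, c i) v = ∑ i ∈ s, pr f (c i) v := by
  classical
  induction s using Finset.induction_on with
  | empty => rw [Finset.sum_empty, Finset.sum_empty, pr_zero]
  | insert a s ha ih => rw [Finset.sum_insert ha, Finset.sum_insert ha, pr_add, ih]

theorem pr_single [DecidableEq n] (i : n) (v : n → M) : pr f (Pi.single i 1) v = v i := by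
  unfold pr
  rw [Finset.sum_eq_single i]
  · rw [Pi.single_eq_same, map_one, one_smul]
  · intro j _ hj
    rw [Pi.single_eq_of_ne hj, map_zero, zero_smul]
  · intro h; exact absurd (Finset.mem_univ i) h

/-- `g` acts on the vectors `v i` by the matrix `N` -/
def Act (g : M →ₗ[F] M) (v : n → M) (N : Matrix n n R) : Prop := ∀ i, g (v i) = pr f (N i) v

theorem Act.pr {g : M →ₗ[F] M} {v : n → M} {N : Matrix n n R} (h : Act f g v N) (c : n → R) :
    g (pr f c v) = S7.pr f (c ᵥ* N) v := by
  unfold S7.pr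
  rw [map_sum]
  simp only [map_smul, h _]
  unfold S7.pr
  simp only [Finset.smul_sum, smul_smul, vecMul, dotProduct, map_sum, map_mul, Finset.sum_smul]
  rw [Finset.sum_comm]

theorem Act.mul {g h : M →ₗ[F] M} {v : n → M} {N P : Matrix n n R} (hg : Act f g v N) (hh : Act f h v P) :
    Act f (g * h) v (P * N) := by
  intro i
  rw [Module.End.mul_apply, hh i, hg.pr]
  rfl

end act

end Cfsg.Agent.H952.S7
end

-- part: H952/S7/Defs2
section
/-!
# Tables for the threefold cover of `A₇` in characteristic 2 (helper952)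

`Hm` : the Hecke operator on the 21-dimensional monomial module (row `p` = image of the `p`-th vector);
`Am` : the 21 vectors of the 6-dimensional module in terms of the numbers 0, 11, ..., 15.
-/

set_option autoImplicit false

namespace Cfsg.Agent.H952.S7

open Cfsg Cfsg.Lie Module
open Cfsg.Agent.ChevalleyStructure.E6Min.Tables

universe u v

/-- entry of a table -/
def ent (t : List (List ℕ)) (i j : ℕ) : KF := KF.mk ((t.getD i []).getD j 0)

def Htab : List (List ℕ) :=
  [[0, 0, 0, 0, 0, 0, 0, 0, 0, 0, 0, 2, 2, 2, 2, 2, 1, 1, 1, 1, 1],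
   [0, 0, 0, 0, 0, 0, 0, 2, 1, 1, 2, 0, 2, 3, 2, 0, 0, 3, 3, 0, 2],
   [0, 0, 0, 0, 0, 0, 2, 0, 2, 1, 1, 0, 0, 2, 3, 2, 2, 0, 3, 3, 0],
   [0, 0, 0, 0, 0, 0, 1, 2, 0, 2, 1, 2, 0, 0, 2, 3, 0, 2, 0, 3, 3],
   [0, 0, 0, 0, 0, 0, 1, 1, 2, 0, 2, 3, 2, 0, 0, 2, 3, 0, 2, 0, 3],
   [0, 0, 0, 0, 0, 0, 2, 1, 1, 2, 0, 2, 3, 2, 0, 0, 3, 3, 0, 2, 0],
   [0, 0, 3, 1, 1, 3, 0, 0, 0, 0, 0, 0, 2, 1, 2, 0, 0, 2, 2, 0, 3],
   [0, 3, 0, 3, 1, 1, 0, 0, 0, 0, 0, 0, 0, 2, 1, 2, 3, 0, 2, 2, 0],
   [0, 1, 3, 0, 3, 1, 0, 0, 0, 0, 0, 2, 0, 0, 2, 1, 0, 3, 0, 2, 2],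
   [0, 1, 1, 3, 0, 3, 0, 0, 0, 0, 0, 1, 2, 0, 0, 2, 2, 0, 3, 0, 2],
   [0, 3, 1, 1, 3, 0, 0, 0, 0, 0, 0, 2, 1, 2, 0, 0, 2, 2, 0, 3, 0],
   [3, 0, 0, 3, 2, 3, 0, 0, 3, 1, 3, 0, 0, 1, 1, 0, 0, 0, 3, 0, 0],
   [3, 3, 0, 0, 3, 2, 3, 0, 0, 3, 1, 0, 0, 0, 1, 1, 0, 0, 0, 3, 0],
   [3, 2, 3, 0, 0, 3, 1, 3, 0, 0, 3, 1, 0, 0, 0, 1, 0, 0, 0, 0, 3],
   [3, 3, 2, 3, 0, 0, 3, 1, 3, 0, 0, 1, 1, 0, 0, 0, 3, 0, 0, 0, 0],
   [3, 0, 3, 2, 3, 0, 0, 3, 1, 3, 0, 0, 1, 1, 0, 0, 0, 3, 0, 0, 0],
   [1, 0, 3, 0, 2, 2, 0, 2, 0, 3, 3, 0, 0, 0, 2, 0, 0, 1, 0, 0, 1],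
   [1, 2, 0, 3, 0, 2, 3, 0, 2, 0, 3, 0, 0, 0, 0, 2, 1, 0, 1, 0, 0],
   [1, 2, 2, 0, 3, 0, 3, 3, 0, 2, 0, 2, 0, 0, 0, 0, 0, 1, 0, 1, 0],
   [1, 0, 2, 2, 0, 3, 0, 3, 3, 0, 2, 0, 2, 0, 0, 0, 0, 0, 1, 0, 1],
   [1, 3, 0, 2, 2, 0, 2, 0, 3, 3, 0, 0, 0, 2, 0, 0, 1, 0, 0, 1, 0]]

def Atab : List (List ℕ) :=
  [[1, 0, 0, 0, 0, 0],
   [2, 2, 3, 0, 3, 2],
   [2, 2, 2, 3, 0, 3],
   [2, 3, 2, 2, 3, 0],
   [2, 0, 3, 2, 2, 3],
   [2, 3, 0, 3, 2, 2],
   [3, 2, 1, 0, 1, 2],
   [3, 2, 2, 1, 0, 1],
   [3, 1, 2, 2, 1, 0],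
   [3, 0, 1, 2, 2, 1],
   [3, 1, 0, 1, 2, 2],
   [0, 1, 0, 0, 0, 0],
   [0, 0, 1, 0, 0, 0],
   [0, 0, 0, 1, 0, 0],
   [0, 0, 0, 0, 1, 0],
   [0, 0, 0, 0, 0, 1],
   [1, 2, 2, 0, 2, 0],
   [1, 0, 2, 2, 0, 2],
   [1, 2, 0, 2, 2, 0],
   [1, 0, 2, 0, 2, 2],
   [1, 2, 0, 2, 0, 2]]

/-- the Hecke operator -/
def Hm : Matrix (Fin 21) (Fin 21) KF := fun p q => ent Htab p q

/-- coordinates in the 6-dimensional module -/
def Am : Matrix (Fin 21) (Fin 6) KF := fun p j => ent Atab p j

/-- the basis of the 6-dimensional module -/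
def bas : Fin 6 → Fin 21 := ![0, 11, 12, 13, 14, 15]

/-- evaluation of a vector with coefficients in `KF` -/
def lin {F : Type u} [Field F] {M : Type v} [AddCommGroup M] [Module F M] {n : Type*} [Fintype n] (ω : F) (c : n → KF)
    (v : n → M) : M := ∑ i, KF.io ω (c i) • v i

theorem pr_eq_lin {F : Type u} [Field F] {M : Type v} [AddCommGroup M] [Module F M] {n : Type*} [Fintype n] {ω : F}
    (h2 : (2 : F) = 0) (hω : ω * ω = ω + 1) (c : n → KF) (v : n → M) : pr (KF.iota h2 hω) c v = lin ω c v := rfl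

/-- the sum over the group of order 21 generated by `S T` and `yw S T` -/
noncomputable def eD {F : Type u} [Field F] {G : Type*} [Group G] (σ : Representation F G (I27 → F)) (S T : G) :
    (I27 → F) →ₗ[F] (I27 → F) := ∑ j : Fin 3, ∑ i : Fin 7, σ (yw S T ^ (j : ℕ) * (S * T) ^ (i : ℕ))

/-- `H`-fixed families: they generate a 6-dimensional module -/
def HFix {F : Type u} [Field F] (ω : F) (v : Fin 21 → I27 → F) : Prop := ∀ p, v p = lin ω (Hm p) v

/-- the rows of `Hm` with numbers `bas` -/
def Hb : Matrix (Fin 6) (Fin 21) KF := fun j q => Hm (bas j) q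

theorem Am_Hm : Am * Hb = Hm := by
  decide +kernel

end Cfsg.Agent.H952.S7
end
end
end
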