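import Mathlib
import Cfsg.Agent.H529.TwinCycle
import Cfsg.Agent.H529.TwoCycles
import Cfsg.Agent.Solvable.Glauberman
import Cfsg.Agent.Classification.QDW.FuCop
import Cfsg.Agent.PermutationGroups.PrimeDegree
import Cfsg.Agent.SolvableStructure.PrimitiveSolvable
import Cfsg.Agent.Lib.SolvableMinNormal
set_option linter.all false

-- part: H401/Plus
section
/-!
# Subgroups generated by Sylow subgroups

`plus p H` is the subgroup generated by the Sylow `p`-subgroups of `G` contained in `H`.
`PGen p G` says that `G` is generated by its Sylow `p`-subgroups.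
-/

set_option autoImplicit false
open Subgroup MulAction
open scoped Pointwise

namespace Cfsg.Agent.H401

variable {G : Type*} [Group G] {p : ℕ}

/-- The subgroup generated by the Sylow `p`-subgroups of `G` contained in `H`. -/
def plus (p : ℕ) (H : Subgroup G) : Subgroup G :=
  Subgroup.closure {g | ∃ Q : Sylow p G, (Q : Subgroup G) ≤ H ∧ g ∈ (Q : Subgroup G)}

theorem plus_le_iff {H K : Subgroup G} :
    plus p H ≤ K ↔ ∀ Q : Sylow p G, (Q : Subgroup G) ≤ H → (Q : Subgroup G) ≤ K := by
  unfold plus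
  rw [closure_le]
  constructor
  · intro h Q hQ g hg
    exact h ⟨Q, hQ, hg⟩
  · rintro h g ⟨Q, hQ, hg⟩
    exact h Q hQ hg

theorem plus_le (H : Subgroup G) : plus p H ≤ H := plus_le_iff.2 fun _ h => h

theorem le_plus {H : Subgroup G} {Q : Sylow p G} (h : (Q : Subgroup G) ≤ H) :
    (Q : Subgroup G) ≤ plus p H := fun _ hg => subset_closure ⟨Q, h, hg⟩

theorem plus_mono {H K : Subgroup G} (h : H ≤ K) : plus p H ≤ plus p K :=
  plus_le_iff.2 fun _ hQ => le_plus (hQ.trans h)

theorem sylow_le_plus_iff {H : Subgroup G} {Q : Sylow p G} :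
    (Q : Subgroup G) ≤ plus p H ↔ (Q : Subgroup G) ≤ H :=
  ⟨fun h => h.trans (plus_le H), le_plus⟩

theorem plus_plus (H : Subgroup G) : plus p (plus p H) = plus p H :=
  le_antisymm (plus_le _) (plus_le_iff.2 fun _ hQ => le_plus (le_plus hQ))

theorem le_plus_iff_of_plus_le {H K : Subgroup G} : plus p H ≤ K ↔ plus p H ≤ plus p K := by
  constructor
  · intro h
    rw [← plus_plus H]
    exact plus_mono h
  · intro h
    exact h.trans (plus_le K)

theorem smul_plus_le (g : G) (H : Subgroup G) :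
    MulAut.conj g • plus p H ≤ plus p (MulAut.conj g • H) := by
  rw [Subgroup.pointwise_smul_subset_iff, plus_le_iff]
  intro Q hQ
  rw [← Subgroup.pointwise_smul_subset_iff]
  have : MulAut.conj g • (Q : Subgroup G) = ((g • Q : Sylow p G) : Subgroup G) := by
    rw [Sylow.coe_subgroup_smul]
  rw [this]
  apply le_plus
  rw [← this]
  exact Subgroup.pointwise_smul_le_pointwise_smul_iff.2 hQ

theorem smul_plus (g : G) (H : Subgroup G) :
    MulAut.conj g • plus p H = plus p (MulAut.conj g • H) := by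
  apply le_antisymm (smul_plus_le g H)
  have h := smul_plus_le (p := p) g⁻¹ (MulAut.conj g • H)
  rw [map_inv, inv_smul_smul] at h
  rwa [← Subgroup.subset_pointwise_smul_iff] at h

theorem conj_smul_eq_map (g : G) (H : Subgroup G) :
    MulAut.conj g • H = H.map (MulAut.conj g).toMonoidHom := rfl

theorem mem_normalizer_iff_smul {H : Subgroup G} {g : G} :
    g ∈ Subgroup.normalizer (H : Set G) ↔ MulAut.conj g • H = H := by
  rw [mem_normalizer_iff_map_conj_eq]
  rfl

theorem smul_eq_of_mem {H : Subgroup G} {g : G} (hg : g ∈ H) : MulAut.conj g • H = H :=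
  mem_normalizer_iff_smul.1 (le_normalizer hg)

theorem le_normalizer_plus (H : Subgroup G) : H ≤ normalizer (plus p H : Set G) := by
  intro h hh
  rw [mem_normalizer_iff_smul, smul_plus, smul_eq_of_mem hh]

/-- `G` is generated by its Sylow `p`-subgroups. -/
def PGen (p : ℕ) (G : Type*) [Group G] : Prop := plus p (⊤ : Subgroup G) = ⊤

theorem PGen.eq_top (hG : PGen p G) {H : Subgroup G} (h : ∀ Q : Sylow p G, (Q : Subgroup G) ≤ H) :
    H = ⊤ := by
  rw [eq_top_iff, ← (show plus p (⊤ : Subgroup G) = ⊤ from hG), plus_le_iff]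
  exact fun Q _ => h Q

section Fin
variable [Finite G] [Fact p.Prime]

theorem PGen.eq_top_of_normal (hG : PGen p G) {H : Subgroup G} (hn : H.Normal) {P : Sylow p G}
    (hP : (P : Subgroup G) ≤ H) : H = ⊤ := by
  apply hG.eq_top
  intro Q
  obtain ⟨g, rfl⟩ := MulAction.exists_smul_eq G P Q
  rw [Sylow.coe_subgroup_smul, Subgroup.pointwise_smul_subset_iff, ← map_inv]
  intro x hx
  rw [mem_pointwise_smul_iff_inv_smul_mem, ← map_inv, inv_inv]
  simpa [MulAut.smul_def] using hn.conj_mem x (hP hx) g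

theorem normalizer_plus_eq (hG : PGen p G) {H : Subgroup G} (hH : IsCoatom H) {P : Sylow p G}
    (hP : (P : Subgroup G) ≤ H) : normalizer (plus p H : Set G) = H := by
  rcases (le_normalizer_plus (p := p) H).eq_or_lt with h | h
  · exact h.symm
  · exfalso
    have h1 := hH.2 _ h
    rw [normalizer_eq_top_iff] at h1
    have h2 := hG.eq_top_of_normal h1 (le_plus hP)
    have h3 := plus_le (p := p) H
    rw [h2, top_le_iff] at h3
    exact hH.1 h3

theorem mem_of_smul_plus_eq (hG : PGen p G) {H : Subgroup G} (hH : IsCoatom H) {P : Sylow p G}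
    (hP : (P : Subgroup G) ≤ H) {g : G} (h : MulAut.conj g • plus p H = plus p H) : g ∈ H := by
  rw [← normalizer_plus_eq hG hH hP, mem_normalizer_iff_smul]
  exact h

theorem eq_of_plus_eq (hG : PGen p G) {H K : Subgroup G} (hH : IsCoatom H) (hK : IsCoatom K)
    {P : Sylow p G} (hP : (P : Subgroup G) ≤ H) (h : plus p H = plus p K) : H = K := by
  rw [← normalizer_plus_eq hG hH hP, h, normalizer_plus_eq hG hK (P := P)]
  rw [← sylow_le_plus_iff, ← h, sylow_le_plus_iff]
  exact hP

omit [Fact p.Prime] in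
theorem eq_of_smul_le {H K : Subgroup G} {g : G} (hK : K = MulAut.conj g • H) (h : H ≤ K) :
    H = K := by
  apply Subgroup.eq_of_le_of_card_ge h
  rw [hK]
  exact le_of_eq (Nat.card_congr (Subgroup.equivSMul (MulAut.conj g) H).toEquiv).symm

/-- The set of points fixed by `H`. -/
def fs (H : Subgroup G) (X : Type*) [MulAction G X] : Set X := {x | H ≤ stabilizer G x}

omit [Finite G] in
theorem mem_fs {H : Subgroup G} {X : Type*} [MulAction G X] {x : X} :
    x ∈ fs H X ↔ H ≤ stabilizer G x := Iff.rfl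

omit [Finite G] in
theorem fs_eq_fixedPoints (H : Subgroup G) (X : Type*) [MulAction G X] :
    fs H X = fixedPoints H X := by
  ext x
  simp only [mem_fs, mem_fixedPoints, Subtype.forall]
  rfl

omit [Finite G] in
theorem stabilizer_smul' {X : Type*} [MulAction G X] (g : G) (x : X) :
    stabilizer G (g • x) = MulAut.conj g • stabilizer G x :=
  stabilizer_smul_eq_stabilizer_map_conj g x

theorem eq_of_plus_le {X : Type*} [MulAction G X] [IsPreprimitive G X] [Nontrivial X]
    (hG : PGen p G) {P : Sylow p G} {β γ : X} (hP : (P : Subgroup G) ≤ stabilizer G β)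
    (h : plus p (stabilizer G β) ≤ stabilizer G γ) : γ = β := by
  obtain ⟨g, hg⟩ := MulAction.exists_smul_eq G β γ
  have hco : IsCoatom (stabilizer G β) := IsPreprimitive.isCoatom_stabilizer_of_isPreprimitive _ _
  have h1 : plus p (stabilizer G γ) = MulAut.conj g • plus p (stabilizer G β) := by
    rw [smul_plus, ← stabilizer_smul', hg]
  have h2 := eq_of_smul_le h1 (le_plus_iff_of_plus_le.1 h)
  have h3 := mem_of_smul_plus_eq hG hco hP (g := g) (by rw [← h1, h2])
  rw [← hg]
  exact h3

end Fin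

end Cfsg.Agent.H401
end

-- part: H401/Sub
section
set_option autoImplicit false
open Subgroup MulAction
open scoped Pointwise

namespace Cfsg.Agent.H401

variable {G : Type*} [Group G] {p : ℕ} [Finite G] [Fact p.Prime]

/-- A Sylow subgroup of a subgroup containing a Sylow subgroup is Sylow. -/
theorem exists_sylow_map {M : Subgroup G} {P : Sylow p G} (hP : (P : Subgroup G) ≤ M)
    (Q : Sylow p M) : ∃ Q' : Sylow p G, (Q' : Subgroup G) = (Q : Subgroup M).map M.subtype := by
  obtain ⟨m, hm⟩ := MulAction.exists_smul_eq M (P.subtype hP) Q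
  refine ⟨(m : G) • P, ?_⟩
  rw [← hm, Sylow.coe_subgroup_smul, Sylow.coe_subgroup_smul, Sylow.coe_subtype]
  ext x
  simp only [mem_pointwise_smul_iff_inv_smul_mem, mem_map, coe_subtype, Subtype.exists,
    ← map_inv, MulAut.smul_def, MulAut.conj_apply, mem_subgroupOf]
  constructor
  · intro h
    have hx : x ∈ M := by
      have := M.mul_mem (M.mul_mem m.2 (hP h)) (M.inv_mem m.2)
      simpa [mul_assoc] using this
    exact ⟨x, hx, by simpa using h, rfl⟩
  · rintro ⟨y, hy, h, rfl⟩
    simpa using h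

theorem exists_sylow_of_map {M : Subgroup G} {Q' : Sylow p G} (hQ : (Q' : Subgroup G) ≤ M) :
    ∃ Q : Sylow p M, (Q : Subgroup M) = (Q' : Subgroup G).subgroupOf M :=
  ⟨Q'.subtype hQ, Sylow.coe_subtype _ _⟩

theorem map_plus {M : Subgroup G} {P : Sylow p G} (hP : (P : Subgroup G) ≤ M) (U : Subgroup M) :
    (plus p U).map M.subtype = plus p (U.map M.subtype) := by
  apply le_antisymm
  · rw [map_le_iff_le_comap, plus_le_iff]
    intro Q hQ
    obtain ⟨Q', hQ'⟩ := exists_sylow_map hP Q
    rw [← map_le_iff_le_comap, ← hQ']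
    apply le_plus
    rw [hQ']
    exact map_mono hQ
  · rw [plus_le_iff]
    intro Q' hQ'
    have hQM : (Q' : Subgroup G) ≤ M := hQ'.trans (map_subtype_le _)
    obtain ⟨Q, hQ⟩ := exists_sylow_of_map hQM
    have : (Q' : Subgroup G) = (Q : Subgroup M).map M.subtype := by
      rw [hQ, subgroupOf_map_subtype, inf_eq_left.2 hQM]
    rw [this]
    apply map_mono
    apply le_plus
    rw [hQ, subgroupOf, ← comap_map_eq_self_of_injective (subtype_injective M) U]
    exact comap_mono hQ'

theorem pGen_plus {H : Subgroup G} {P : Sylow p G} (hP : (P : Subgroup G) ≤ H) :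
    PGen p (plus p H) := by
  have hPM : (P : Subgroup G) ≤ plus p H := le_plus hP
  have h := map_plus hPM (⊤ : Subgroup (plus p H))
  rw [← MonoidHom.range_eq_map, range_subtype, plus_plus] at h
  unfold PGen
  apply map_injective (subtype_injective (plus p H))
  rw [h, ← MonoidHom.range_eq_map, range_subtype]

end Cfsg.Agent.H401
end

-- part: H401/Equi
section
/-!
# Counting in equivariant maps
-/

set_option autoImplicit false
open Subgroup MulAction
open scoped Pointwise

namespace Cfsg.Agent.H401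

section Fiber

variable {M X Z : Type*} [Group M] [MulAction M X] [MulAction M Z]

theorem ncard_fiber_smul (S : Set X) (hS : ∀ m : M, ∀ x ∈ S, m • x ∈ S) (φ : X → Z)
    (hφ : ∀ m : M, ∀ x ∈ S, φ (m • x) = m • φ x) (m : M) (z : Z) :
    {x | x ∈ S ∧ φ x = m • z}.ncard = {x | x ∈ S ∧ φ x = z}.ncard := by
  have : {x | x ∈ S ∧ φ x = m • z} = (fun x => m • x) '' {x | x ∈ S ∧ φ x = z} := by
    ext x
    simp only [Set.mem_ofPred_eq, Set.mem_image]
    constructor
    · rintro ⟨hx, h⟩
      refine ⟨m⁻¹ • x, ⟨hS _ _ hx, ?_⟩, smul_inv_smul _ _⟩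
      rw [hφ _ _ hx, h, inv_smul_smul]
    · rintro ⟨y, ⟨hy, h⟩, rfl⟩
      exact ⟨hS _ _ hy, by rw [hφ _ _ hy, h]⟩
  rw [this, Set.ncard_image_of_injective _ (MulAction.injective m)]

theorem ncard_preimage [Finite X] [Finite Z] [IsPretransitive M Z] (S : Set X)
    (hS : ∀ m : M, ∀ x ∈ S, m • x ∈ S) (φ : X → Z)
    (hφ : ∀ m : M, ∀ x ∈ S, φ (m • x) = m • φ x) (z : Z) (T : Set Z) :
    {x | x ∈ S ∧ φ x ∈ T}.ncard = {x | x ∈ S ∧ φ x = z}.ncard * T.ncard := by
  classical
  have := Fintype.ofFinite X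
  have := Fintype.ofFinite Z
  rw [Set.ncard_eq_toFinset_card' {x | x ∈ S ∧ φ x ∈ T}, Set.ncard_eq_toFinset_card' T,
    Finset.card_eq_sum_card_fiberwise (f := φ) (t := T.toFinset)]
  · rw [Finset.sum_const_nat (m := {x | x ∈ S ∧ φ x = z}.ncard), mul_comm]
    intro w hw
    obtain ⟨m, rfl⟩ := MulAction.exists_smul_eq M z w
    rw [← ncard_fiber_smul S hS φ hφ m z, Set.ncard_eq_toFinset_card']
    congr 1
    ext x
    simp only [Finset.mem_filter, Set.mem_toFinset, Set.mem_ofPred_eq] at hw ⊢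
    constructor
    · rintro ⟨⟨h1, h2⟩, h3⟩
      exact ⟨h1, h3⟩
    · rintro ⟨h1, h3⟩
      exact ⟨⟨h1, by rw [h3]; exact hw⟩, h3⟩
  · intro x hx
    simp only [Finset.mem_coe, Set.mem_toFinset, Set.mem_ofPred_eq] at hx ⊢
    exact hx.2

/-- The quotient of an orbit by a subgroup above the stabilizer. -/
theorem exists_equi {δ : X} {U : Subgroup M} (h : stabilizer M δ ≤ U) :
    ∃ φ : X → M ⧸ U, φ δ = ((1 : M) : M ⧸ U) ∧
      ∀ m : M, ∀ x ∈ orbit M δ, φ (m • x) = m • φ x := by
  classical
  have key : ∀ a b : M, a • δ = b • δ → (a : M ⧸ U) = (b : M ⧸ U) := by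
    intro a b hab
    rw [QuotientGroup.eq]
    apply h
    rw [mem_stabilizer_iff, mul_smul, ← hab, inv_smul_smul]
  let φ : X → M ⧸ U := fun x => if hx : x ∈ orbit M δ then ((Classical.choose hx : M) : M ⧸ U)
    else ((1 : M) : M ⧸ U)
  have hφ : ∀ a : M, φ (a • δ) = (a : M ⧸ U) := by
    intro a
    have ha : a • δ ∈ orbit M δ := mem_orbit _ _
    simp only [φ, dif_pos ha]
    exact key _ _ (Classical.choose_spec ha)
  refine ⟨φ, ?_, ?_⟩
  · have := hφ 1
    rwa [one_smul] at this
  · rintro m x ⟨a, rfl⟩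
    simp only
    rw [smul_smul, hφ, hφ]
    rfl

theorem fs_smul (H : Subgroup M) (m : M) (x : X) :
    m • x ∈ fs (MulAut.conj m • H) X ↔ x ∈ fs H X := by
  rw [mem_fs, mem_fs, stabilizer_smul', Subgroup.pointwise_smul_le_pointwise_smul_iff]

theorem ncard_fs_smul (H : Subgroup M) (m : M) (S : Set X) (hS : ∀ m : M, ∀ x ∈ S, m • x ∈ S) :
    (fs (MulAut.conj m • H) X ∩ S).ncard = (fs H X ∩ S).ncard := by
  have : fs (MulAut.conj m • H) X ∩ S = (fun x => m • x) '' (fs H X ∩ S) := by
    ext x
    simp only [Set.mem_image, Set.mem_inter_iff]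
    constructor
    · rintro ⟨h1, h2⟩
      refine ⟨m⁻¹ • x, ⟨?_, hS _ _ h2⟩, smul_inv_smul _ _⟩
      rw [← fs_smul H m, smul_inv_smul]
      exact h1
    · rintro ⟨y, ⟨h1, h2⟩, rfl⟩
      exact ⟨(fs_smul H m y).2 h1, hS _ _ h2⟩
  rw [this, Set.ncard_image_of_injective _ (MulAction.injective m)]

theorem ncard_fs_smul' (H : Subgroup M) (m : M) :
    (fs (MulAut.conj m • H) X).ncard = (fs H X).ncard := by
  have := ncard_fs_smul (X := X) H m Set.univ (fun _ _ _ => trivial)
  simpa using this

end Fiber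

section Mod

variable {M X Z : Type*} [Group M] [MulAction M X] [MulAction M Z]

/-- For a `P`-invariant set the number of points is congruent to the number of fixed points. -/
theorem ncard_modEq {p : ℕ} [Fact p.Prime] [Finite X] {P : Subgroup M} (hP : IsPGroup p P)
    (S : Set X) (hS : ∀ m ∈ P, ∀ x ∈ S, m • x ∈ S) :
    S.ncard ≡ (fs P X ∩ S).ncard [MOD p] := by
  let A : SubMulAction P X :=
    { carrier := S
      smul_mem' := fun g x hx => hS g g.2 x hx }
  have h := hP.card_modEq_card_fixedPoints A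
  have e : (fs P X ∩ S).ncard = Nat.card (fixedPoints P A) := by
    rw [← Nat.card_coe_set_eq]
    refine Nat.card_congr ⟨fun x => ⟨⟨x.1, x.2.2⟩, fun g => ?_⟩, fun x => ⟨x.1.1, ?_, x.1.2⟩, ?_, ?_⟩
    · exact Subtype.ext (x.2.1 g.2)
    · intro g hg
      exact congrArg Subtype.val (x.2 ⟨g, hg⟩)
    · intro x; rfl
    · intro x; rfl
  rw [e, ← Nat.card_coe_set_eq]
  exact h

theorem exists_lc {p : ℕ} [Fact p.Prime] [Finite X] {P : Subgroup M} (hP : IsPGroup p P)
    (S : Set X) (hS : ∀ m ∈ P, ∀ x ∈ S, m • x ∈ S) :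
    ∃ l, S.ncard = (fs P X ∩ S).ncard + p * l := by
  have h := ncard_modEq hP S hS
  have hle : (fs P X ∩ S).ncard ≤ S.ncard := Set.ncard_le_ncard Set.inter_subset_right S.toFinite
  obtain ⟨l, hl⟩ := (Nat.modEq_iff_dvd' hle).1 h.symm
  exact ⟨l, by omega⟩

theorem exists_lc' {p : ℕ} [Fact p.Prime] [Finite X] {P : Subgroup M} (hP : IsPGroup p P) :
    ∃ l, Nat.card X = (fs P X).ncard + p * l := by
  have := exists_lc (X := X) hP Set.univ (fun _ _ _ _ => trivial)
  simpa using this

theorem mem_orbit_smul {δ x : X} (m : M) (hx : x ∈ orbit M δ) : m • x ∈ orbit M δ := by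
  obtain ⟨a, rfl⟩ := hx
  exact ⟨m * a, by simp [mul_smul]⟩

/-- The comparison of an orbit with a quotient of it. -/
theorem orbit_count {p : ℕ} [Fact p.Prime] [Finite M] [Finite X] (P : Sylow p M) {δ : X}
    {U : Subgroup M} (h : stabilizer M δ ≤ U) :
    ∃ b s, 0 < b ∧ (orbit M δ).ncard = b * Nat.card (M ⧸ U) ∧
      b * (fs (P : Subgroup M) (M ⧸ U)).ncard =
        (fs (P : Subgroup M) X ∩ orbit M δ).ncard + p * s ∧
      (b = 1 → U = stabilizer M δ) ∧
      (s = 0 → ∀ Q : Sylow p M, (Q : Subgroup M) ≤ U → (Q : Subgroup M) ≤ stabilizer M δ) := by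
  obtain ⟨φ, hφ1, hφ⟩ := exists_equi h
  have hS : ∀ m : M, ∀ x ∈ orbit M δ, m • x ∈ orbit M δ := fun m x hx => mem_orbit_smul m hx
  set b := {x | x ∈ orbit M δ ∧ φ x = ((1 : M) : M ⧸ U)}.ncard with hb
  have hcount := ncard_preimage (orbit M δ) hS φ hφ ((1 : M) : M ⧸ U)
  have h1 := hcount Set.univ
  have h2 := hcount (fs (P : Subgroup M) (M ⧸ U))
  simp only [Set.mem_univ, and_true, Set.ofPred_mem_eq, Set.ncard_univ] at h1
  -- the preimage of the fixed set
  set T : Set X := {x | x ∈ orbit M δ ∧ φ x ∈ fs (P : Subgroup M) (M ⧸ U)} with hT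
  have hTinv : ∀ m ∈ (P : Subgroup M), ∀ x ∈ T, m • x ∈ T := by
    rintro m hm x ⟨hx1, hx2⟩
    refine ⟨hS m x hx1, ?_⟩
    rw [hφ m x hx1]
    have : m • φ x = φ x := hx2 hm
    rw [this]
    exact hx2
  have hfT : fs (P : Subgroup M) X ∩ T = fs (P : Subgroup M) X ∩ orbit M δ := by
    ext x
    constructor
    · rintro ⟨h1, h2, h3⟩
      exact ⟨h1, h2⟩
    · rintro ⟨h1, h2⟩
      refine ⟨h1, h2, ?_⟩
      intro m hm
      have h3 : m • x = x := h1 hm
      rw [mem_stabilizer_iff, ← hφ m x h2, h3]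
  obtain ⟨s, hs⟩ := exists_lc P.isPGroup' T hTinv
  rw [hfT] at hs
  refine ⟨b, s, ?_, h1, ?_, ?_, ?_⟩
  · rw [hb, Set.ncard_pos]
    exact ⟨δ, mem_orbit_self δ, hφ1⟩
  · rw [← h2, hs]
  · intro hb1
    apply le_antisymm _ h
    intro u hu
    rw [hb, Set.ncard_eq_one] at hb1
    obtain ⟨a, ha⟩ := hb1
    have e1 : δ ∈ ({a} : Set X) := by
      rw [← ha]
      exact ⟨mem_orbit_self δ, hφ1⟩
    have e2 : u • δ ∈ ({a} : Set X) := by
      rw [← ha]
      refine ⟨mem_orbit _ _, ?_⟩
      rw [hφ u δ (mem_orbit_self δ), hφ1]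
      change ((u * 1 : M) : M ⧸ U) = _
      rw [mul_one, eq_comm, QuotientGroup.eq]
      simpa using hu
    rw [Set.mem_singleton_iff] at e1 e2
    rw [mem_stabilizer_iff, e2, ← e1]
  · intro hs0 Q hQ
    rw [hs0, mul_zero, add_zero] at hs
    have hTeq : fs (P : Subgroup M) X ∩ orbit M δ = T := by
      apply Set.eq_of_subset_of_ncard_le _ (le_of_eq hs) T.toFinite
      rw [← hfT]
      exact Set.inter_subset_right
    obtain ⟨m, hm⟩ := MulAction.exists_smul_eq M Q P
    have hPm : (P : Subgroup M) = MulAut.conj m • (Q : Subgroup M) := by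
      rw [← hm, Sylow.coe_subgroup_smul]
    have hmT : m • δ ∈ T := by
      refine ⟨mem_orbit _ _, ?_⟩
      rw [hφ m δ (mem_orbit_self δ), hφ1, hPm, fs_smul, mem_fs]
      intro q hq
      rw [mem_stabilizer_iff]
      change ((q * 1 : M) : M ⧸ U) = _
      rw [mul_one, eq_comm, QuotientGroup.eq]
      simpa using hQ hq
    rw [← hTeq] at hmT
    have := hmT.1
    rw [hPm, fs_smul] at this
    exact this

end Mod

end Cfsg.Agent.H401
end

-- part: H401/Alt
section
/-!
# Jordan's theorem for groups generated by their Sylow subgroups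
-/

set_option autoImplicit false
open Subgroup MulAction
open scoped Pointwise

namespace Cfsg.Agent.H401

/-- The arithmetic condition under which a primitive group of degree `p + a` with a `p`-cycle
contains the alternating group. -/
def AltCrit (p a : ℕ) : Prop := 3 ≤ a ∨ (a = 2 ∧ (p = 3 ∨ p = 5))

theorem AltCrit.mono {p a a' : ℕ} (h : AltCrit p a) (h' : a ≤ a') : AltCrit p a' := by
  unfold AltCrit at *
  omega

theorem AltCrit.two_le {p a : ℕ} (h : AltCrit p a) : 2 ≤ a := by
  unfold AltCrit at h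
  omega

section

variable {D Z : Type*} [Group D] [Finite D] [MulAction D Z] {p : ℕ} [Fact p.Prime]

theorem fs_zpowers {g : D} {z : Z} : z ∈ fs (zpowers g) Z ↔ g • z = z := by
  rw [mem_fs, zpowers_le]
  rfl

omit [Finite D] in
theorem zpowers_eq {P : Subgroup D} (hP : Nat.card P = p) {g : D} (hg : g ∈ P) (hg1 : g ≠ 1) :
    zpowers g = P := by
  have : Finite P := Nat.finite_of_card_ne_zero (by rw [hP]; exact (Fact.out : p.Prime).ne_zero)
  apply Subgroup.eq_of_le_of_card_ge ((zpowers_le).2 hg)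
  have h1 : Nat.card (zpowers g) ∣ p := by
    rw [← hP]
    exact Subgroup.card_dvd_of_le ((zpowers_le).2 hg)
  rcases (Nat.dvd_prime Fact.out).1 h1 with h | h
  · exfalso
    rw [Nat.card_zpowers, orderOf_eq_one_iff] at h
    exact hg1 h
  · rw [h, hP]

theorem exists_cycle [Fintype Z] [DecidableEq Z] {P : Subgroup D} (hP : Nat.card P = p) {a : ℕ}
    (hf : (fs P Z).ncard = a) (hZ : Fintype.card Z = a + p) (ha : a < p) :
    ∃ g ∈ P, (toPermHom D Z g).IsCycle ∧ (toPermHom D Z g).support.card = p := by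
  have hp : p.Prime := Fact.out
  have hnt : P ≠ ⊥ := by
    rintro rfl
    rw [Subgroup.card_bot] at hP
    exact hp.one_lt.ne hP
  obtain ⟨g, hg, hg1⟩ := (Subgroup.ne_bot_iff_exists_ne_one.1 hnt).elim
    fun x hx => (⟨x, x.2, fun h => hx (Subtype.ext h)⟩ : ∃ x : D, x ∈ P ∧ x ≠ 1)
  have hz := zpowers_eq hP hg hg1
  have hsupp : (toPermHom D Z (g : D)).support.card = p := by
    have h1 : (((toPermHom D Z (g : D)).support : Set Z)) = (fs P Z)ᶜ := by
      ext z
      rw [← hz, Set.mem_compl_iff, fs_zpowers]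
      simp
    have h2 := Set.ncard_add_ncard_compl (fs P Z)
    rw [← h1, Set.ncard_coe_finset, hf, Nat.card_eq_fintype_card, hZ] at h2
    omega
  refine ⟨g, hg, ?_, hsupp⟩
  have ho : orderOf (toPermHom D Z (g : D)) = p := by
    have h1 : orderOf (toPermHom D Z (g : D)) ∣ p := by
      have h2 := orderOf_map_dvd (toPermHom D Z) (g : D)
      rwa [← Nat.card_zpowers (g : D), hz, hP] at h2
    rcases (Nat.dvd_prime hp).1 h1 with h | h
    · exfalso
      rw [orderOf_eq_one_iff] at h
      rw [h] at hsupp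
      simp at hsupp
      exact hp.ne_zero hsupp.symm
    · exact h
  apply Equiv.Perm.isCycle_of_prime_order'
  · rw [ho]
    exact hp
  · rw [ho, hZ]
    omega

theorem sign_eq_one [Fintype Z] [DecidableEq Z] (hp2 : p ≠ 2) (hD : PGen p D) (d : D) :
    toPermHom D Z d ∈ alternatingGroup Z := by
  have h : (alternatingGroup Z).comap (toPermHom D Z) = ⊤ := by
    apply hD.eq_top
    intro Q q hq
    rw [mem_comap, Equiv.Perm.mem_alternatingGroup]
    obtain ⟨k, hk⟩ := (IsPGroup.iff_orderOf.1 Q.isPGroup') ⟨q, hq⟩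
    rw [Subgroup.orderOf_mk] at hk
    have hodd : Odd (orderOf q) := by
      rw [hk]
      exact ((Fact.out : p.Prime).odd_of_ne_two hp2).pow
    rcases Int.units_eq_one_or (Equiv.Perm.sign (toPermHom D Z q)) with h1 | h1
    · exact h1
    · exfalso
      have h2 : (Equiv.Perm.sign (toPermHom D Z q)) ^ orderOf q = 1 := by
        rw [← map_pow, ← map_pow, pow_orderOf_eq_one, map_one, map_one]
      rw [h1, hodd.neg_one_pow] at h2
      exact absurd h2 (by decide)
  have : d ∈ (alternatingGroup Z).comap (toPermHom D Z) := by rw [h]; trivial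
  exact this

theorem range_eq_alternating [Fintype Z] [DecidableEq Z] [IsPretransitive D Z] (hp2 : p ≠ 2)
    (hD : PGen p D) {P : Subgroup D} (hP : Nat.card P = p) {a : ℕ}
    (hf : (fs P Z).ncard = a) (hZ : Fintype.card Z = a + p) (ha : a < p) (hcrit : AltCrit p a) :
    (toPermHom D Z).range = alternatingGroup Z := by
  obtain ⟨g, hg, hgc, hgp⟩ := exists_cycle hP hf hZ ha
  have hp : p.Prime := Fact.out
  have hp3 : 3 ≤ p := by
    have := hp.two_le
    omega
  have htr : IsPretransitive (toPermHom D Z).range Z := by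
    constructor
    intro x y
    obtain ⟨d, hd⟩ := MulAction.exists_smul_eq D x y
    exact ⟨⟨toPermHom D Z d, d, rfl⟩, hd⟩
  have hprim := Cfsg.Agent.H529.TwoCycles.isPreprimitive_of_cycle hp hgc hgp (by omega) htr
    ⟨g, rfl⟩
  have hle : (toPermHom D Z).range ≤ alternatingGroup Z := by
    rintro _ ⟨d, rfl⟩
    exact sign_eq_one hp2 hD d
  have h2 := hcrit.two_le
  apply le_antisymm hle
  rcases hcrit with h | ⟨rfl, rfl | rfl⟩
  · exact Cfsg.Agent.S0713.result _ hprim hp (by omega) (by omega) hgc hgp ⟨g, rfl⟩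
  · exact Equiv.Perm.alternatingGroup_le_of_isPreprimitive_of_isThreeCycle_mem hprim
      (card_support_eq_three_iff.1 hgp) ⟨g, rfl⟩
  · exact (Cfsg.Agent.H529.TwinCycle.eq_alternating_seven (by omega) hle hprim hgc hgp
      ⟨g, rfl⟩).ge

end

end Cfsg.Agent.H401
end

-- part: H401/Reps
section
set_option autoImplicit false
open Subgroup MulAction
open scoped Pointwise

namespace Cfsg.Agent.H401

universe u

variable {M : Type*} {X : Type u} [Group M] [MulAction M X]

theorem ncard_eq_sum [Finite X] {ι : Type*} [Fintype ι] (q : X → ι) (T : Set X) :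
    T.ncard = ∑ i, (T ∩ {x | q x = i}).ncard := by
  classical
  have := Fintype.ofFinite X
  rw [Set.ncard_eq_toFinset_card' T,
    Finset.card_eq_sum_card_fiberwise (f := q) (t := Finset.univ) (fun _ _ => by simp)]
  apply Finset.sum_congr rfl
  intro i _
  rw [Set.ncard_eq_toFinset_card']
  congr 1
  ext x
  simp

/-- Representatives of the orbits different from a given fixed point. -/
theorem exists_reps [Finite X] (β : X) (hβ : ∀ m : M, m • β = β) :
    ∃ (ι : Type u) (_ : Fintype ι) (δ : ι → X), (∀ i, δ i ≠ β) ∧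
      (∀ x, x ≠ β → ∃ i, x ∈ orbit M (δ i)) ∧
      (∀ T : Set X, β ∈ T → T.ncard = 1 + ∑ i, (T ∩ orbit M (δ i)).ncard) := by
  classical
  have : Fintype (orbitRel.Quotient M X) := Fintype.ofFinite _
  let b : orbitRel.Quotient M X := Quotient.mk _ β
  have hb : ∀ x : X, (Quotient.mk _ x : orbitRel.Quotient M X) = b ↔ x = β := by
    intro x
    simp only [b]
    rw [Quotient.eq, orbitRel_apply]
    constructor
    · rintro ⟨m, hm⟩
      rw [← hm]
      exact hβ m
    · rintro rfl
      exact mem_orbit_self _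
  have hfib : ∀ ω : orbitRel.Quotient M X,
      {x : X | (Quotient.mk _ x : orbitRel.Quotient M X) = ω} = orbit M ω.out := by
    intro ω
    ext x
    simp only [Set.mem_ofPred_eq]
    rw [← orbitRel_apply, ← Quotient.eq (r := orbitRel M X), Quotient.out_eq]
  refine ⟨{ω : orbitRel.Quotient M X // ω ≠ b}, inferInstance, fun ω => ω.1.out, ?_, ?_, ?_⟩
  · rintro ⟨ω, hω⟩ h
    apply hω
    rw [← Quotient.out_eq ω]
    exact (hb _).2 h
  · intro x hx
    refine ⟨⟨Quotient.mk _ x, fun h => hx ((hb x).1 h)⟩, ?_⟩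
    rw [← hfib]
    rfl
  · intro T hT
    rw [ncard_eq_sum (fun x => (Quotient.mk _ x : orbitRel.Quotient M X)) T,
      Fintype.sum_eq_add_sum_subtype_ne _ b]
    congr 1
    · have : T ∩ {x | (Quotient.mk _ x : orbitRel.Quotient M X) = b} = {β} := by
        ext x
        simp only [Set.mem_inter_iff, Set.mem_ofPred_eq, hb, Set.mem_singleton_iff]
        constructor
        · exact fun h => h.2
        · rintro rfl
          exact ⟨hT, rfl⟩
      rw [this, Set.ncard_singleton]
    · apply Finset.sum_congr rfl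
      intro i _
      rw [hfib]

end Cfsg.Agent.H401
end

-- part: H401/Num
section
set_option autoImplicit false

namespace Cfsg.Agent.H401

/-- The bound of the main theorem for primitive actions with a Sylow subgroup of prime order. -/
def Bd (p f l : ℕ) : Prop :=
  (l = 1 → f < p) ∧ (2 ≤ l → f / p < ((p - 1) * (l - 1) + 1) / p)

theorem Bd.le_two {p f l : ℕ} (h : Bd p f l) (hp : 0 < p) (hl : 2 ≤ l) :
    f ≤ (p - 1) * (l - 1) := by
  have h1 := h.2 hl
  have h2 : f < p * (f / p + 1) := by
    rw [mul_add, mul_one]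
    have := Nat.div_add_mod f p
    have := Nat.mod_lt f hp
    omega
  have h3 : p * (((p - 1) * (l - 1) + 1) / p) ≤ (p - 1) * (l - 1) + 1 := Nat.mul_div_le _ _
  have h4 : p * (f / p + 1) ≤ p * (((p - 1) * (l - 1) + 1) / p) := Nat.mul_le_mul_left _ h1
  omega

theorem Bd.le {p f l : ℕ} (h : Bd p f l) (hp : 0 < p) (hl : 1 ≤ l) : f ≤ (p - 1) * l := by
  rcases hl.eq_or_lt with h1 | h1
  · have := h.1 h1.symm
    rw [← h1]
    omega
  · refine (h.le_two hp h1).trans ?_
    exact Nat.mul_le_mul_left _ (Nat.sub_le _ _)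

theorem not_Bd {p f l : ℕ} (h : ¬ Bd p f l) (hp : 0 < p) (hl : 1 ≤ l) (hf : ¬ p ∣ f) :
    p + 1 ≤ f ∧ (p - 1) * l + 2 ≤ f + 2 * (p - 1) := by
  rcases hl.eq_or_lt with h1 | h1
  · have h2 : ¬ f < p := fun h2 => h ⟨fun _ => h2, fun h3 => by omega⟩
    have h3 : f ≠ p := by
      rintro rfl
      exact hf dvd_rfl
    rw [← h1]
    omega
  · have h2 : ¬ (f / p < ((p - 1) * (l - 1) + 1) / p) := fun h2 =>
      h ⟨fun h3 => by omega, fun _ => h2⟩
    rw [not_lt] at h2
    obtain ⟨k, rfl⟩ : ∃ k, l = k + 2 := ⟨l - 2, by omega⟩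
    obtain ⟨q, rfl⟩ : ∃ q, p = q + 1 := ⟨p - 1, by omega⟩
    simp only [Nat.add_sub_cancel] at h2 ⊢
    have e1 : q * (k + 2 - 1) + 1 = (q + 1) + q * k := by
      have : k + 2 - 1 = k + 1 := by omega
      rw [this]
      ring
    rw [e1, Nat.add_div_left _ hp] at h2
    set Q := q * k / (q + 1) with hQ
    have h3 := Nat.div_add_mod (q * k) (q + 1)
    rw [← hQ] at h3
    have h4 := Nat.mod_lt (q * k) hp
    have h5 : (q + 1) * (Q + 1) ≤ (q + 1) * (f / (q + 1)) := Nat.mul_le_mul_left _ h2
    have h6 := Nat.div_add_mod f (q + 1)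
    have h7 : f % (q + 1) ≠ 0 := fun h => hf (Nat.dvd_of_mod_eq_zero h)
    have e2 : q * (k + 2) = q * k + 2 * q := by ring
    have e3 : (q + 1) * (Q + 1) = (q + 1) * Q + (q + 1) := by ring
    have e4 : 0 ≤ (q + 1) * Q := Nat.zero_le _
    omega

theorem Bd_pred {p f l : ℕ} (hf : ¬ p ∣ f) (h1 : Bd p (f - 1) l) :
    Bd p f l := by
  have hf0 : f ≠ 0 := by
    rintro rfl
    exact hf (dvd_zero _)
  obtain ⟨g, rfl⟩ : ∃ g, f = g + 1 := ⟨f - 1, by omega⟩
  simp only [Nat.add_sub_cancel] at h1
  refine ⟨fun h2 => ?_, fun h2 => ?_⟩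
  · have := h1.1 h2
    rcases (Nat.succ_le_of_lt this).eq_or_lt with h3 | h3
    · exfalso
      apply hf
      rw [← h3]
    · exact h3
  · have h3 := h1.2 h2
    have : (g + 1) / p = g / p := by
      rw [Nat.succ_div_of_not_dvd hf]
    rw [this]
    exact h3

theorem numeric {p : ℕ} (hp3 : 3 ≤ p) {f l : ℕ} (hl : 1 ≤ l) (hf : ¬ p ∣ f) (hB : ¬ Bd p f l)
    {ι : Type*} [Fintype ι] (a c b s : ι → ℕ) (hc : ∀ i, 1 ≤ c i) (hb : ∀ i, 0 < b i)
    (hBd : ∀ i, Bd p (a i) (c i)) (E1 : f + p * ∑ i, s i = 1 + ∑ i, b i * a i)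
    (E2 : f + p * l = 1 + ∑ i, b i * (a i + p * c i)) :
    (∀ i, s i = 0) ∧ p + 1 ≤ f ∧ (p - 1) * l + 2 ≤ f + 2 * (p - 1) ∧ (∀ i, c i < l) ∧
      ∑ i, b i * c i = l ∧ f = 1 + ∑ i, b i * a i ∧
      ∃ e : ι → ℕ, (∀ i, a i + e i = (p - 1) * c i) ∧ (∀ i, 2 ≤ c i → p - 1 ≤ e i) ∧
        ∑ i, b i * e i + f = (p - 1) * l + 1 := by
  classical
  obtain ⟨h1, h2⟩ := not_Bd hB (by omega) hl hf
  have he : ∀ i, ∃ e, a i + e = (p - 1) * c i := fun i =>
    ⟨(p - 1) * c i - a i, by have := (hBd i).le (by omega) (hc i); omega⟩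
  choose e he using he
  have hsum : ∑ i, b i * (a i + p * c i) = ∑ i, b i * a i + p * ∑ i, b i * c i := by
    rw [Finset.mul_sum, ← Finset.sum_add_distrib]
    apply Finset.sum_congr rfl
    intros
    ring
  have hsum2 : ∑ i, b i * a i + ∑ i, b i * e i = (p - 1) * ∑ i, b i * c i := by
    rw [Finset.mul_sum, ← Finset.sum_add_distrib]
    apply Finset.sum_congr rfl
    intro i _
    rw [← mul_add, he i]
    ring
  rw [hsum] at E2
  set A := ∑ i, b i * a i
  set C := ∑ i, b i * c i with hC
  set E := ∑ i, b i * e i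
  set S := ∑ i, s i with hS
  have hl2 : l = C + S := by
    have : p * l = p * (C + S) := by
      rw [mul_add]
      omega
    exact Nat.eq_of_mul_eq_mul_left (by omega) this
  have hS0 : S = 0 := by
    by_contra hne
    have hS1 : 1 ≤ S := Nat.one_le_iff_ne_zero.2 hne
    obtain ⟨q, rfl⟩ : ∃ q, p = q + 1 := ⟨p - 1, by omega⟩
    simp only [Nat.add_sub_cancel] at *
    rw [hl2, mul_add] at h2
    have : q * 1 ≤ q * S := Nat.mul_le_mul_left _ hS1
    have e4 : (q + 1) * S = q * S + S := by ring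
    omega
  rw [hS0] at hl2 E1
  have hs : ∀ i, s i = 0 := by
    intro i
    rw [hS, Finset.sum_eq_zero_iff] at hS0
    exact hS0 i (Finset.mem_univ i)
  have hclt : ∀ i, c i < l := by
    intro i
    have hle : C = b i * c i + ∑ j ∈ Finset.univ.erase i, b j * c j :=
      (Finset.add_sum_erase _ (fun j => b j * c j) (Finset.mem_univ i)).symm
    have hle2 : A = b i * a i + ∑ j ∈ Finset.univ.erase i, b j * a j :=
      (Finset.add_sum_erase _ (fun j => b j * a j) (Finset.mem_univ i)).symm
    have hbi : c i ≤ b i * c i := Nat.le_mul_of_pos_left _ (hb i)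
    by_contra hcon
    rw [not_lt] at hcon
    have hci := hc i
    have h3 : b i * c i = c i ∧ ∑ j ∈ Finset.univ.erase i, b j * c j = 0 := by
      omega
    have h4 : b i = 1 := by
      have h5 : b i * c i = 1 * c i := by rw [h3.1, one_mul]
      exact Nat.eq_of_mul_eq_mul_right hci h5
    have h6 : ∑ j ∈ Finset.univ.erase i, b j * a j = 0 := by
      rw [Finset.sum_eq_zero_iff] at h3 ⊢
      intro j hj
      have := h3.2 j hj
      have h7 := hb j
      have h8 := hc j
      rcases Nat.mul_eq_zero.1 this with h9 | h9 <;> omega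
    have hcl : c i = l := by omega
    have h7 : a i = f - 1 := by
      rw [h4] at hle2
      omega
    apply hB
    apply Bd_pred hf
    rw [← h7, ← hcl]
    exact hBd i
  refine ⟨hs, h1, h2, hclt, by omega, by omega, e, he, ?_, ?_⟩
  · intro i hi
    have h3 := (hBd i).le_two (by omega) hi
    have h4 := he i
    obtain ⟨k, hk⟩ : ∃ k, c i = k + 1 := ⟨c i - 1, by omega⟩
    rw [hk] at h3 h4
    simp only [Nat.add_sub_cancel] at h3
    rw [mul_add, mul_one] at h4
    omega
  · rw [hl2, add_zero]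
    omega

end Cfsg.Agent.H401
end

-- part: H401/Dat
section
set_option autoImplicit false
open Subgroup MulAction
open scoped Pointwise

namespace Cfsg.Agent.H401

universe u

section

variable {M : Type*} [Group M] [Finite M] {p : ℕ} [Fact p.Prime]

/-- If a Sylow subgroup fixes everything, so does the whole group. -/
theorem stabilizer_eq_top {Z : Type*} [MulAction M Z] (hM : PGen p M) (P : Sylow p M)
    (h : fs (P : Subgroup M) Z = Set.univ) (z : Z) : stabilizer M z = ⊤ := by
  apply hM.eq_top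
  intro Q
  obtain ⟨m, rfl⟩ := MulAction.exists_smul_eq M P Q
  rw [← mem_fs, Sylow.coe_subgroup_smul]
  have : m⁻¹ • z ∈ fs (P : Subgroup M) Z := by rw [h]; trivial
  have h2 := (fs_smul (P : Subgroup M) m (m⁻¹ • z)).2 this
  rwa [smul_inv_smul] at h2

theorem one_le_of_card {Z : Type*} [MulAction M Z] [Finite Z] (hM : PGen p M) (P : Sylow p M)
    {z : Z} (hz : stabilizer M z ≠ ⊤) {c : ℕ}
    (h : Nat.card Z = (fs (P : Subgroup M) Z).ncard + p * c) : 1 ≤ c := by
  by_contra hc
  have : c = 0 := by omega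
  rw [this, mul_zero, add_zero] at h
  apply hz
  apply stabilizer_eq_top hM P
  apply Set.eq_of_subset_of_ncard_le (Set.subset_univ _) _ Set.finite_univ
  rw [Set.ncard_univ, h]

theorem stabilizer_mk_one (U : Subgroup M) : stabilizer M ((1 : M) : M ⧸ U) = U := by
  ext x
  rw [mem_stabilizer_iff]
  change ((x * 1 : M) : M ⧸ U) = _ ↔ _
  rw [mul_one, eq_comm, QuotientGroup.eq]
  simp

end

/-- The bound for coset actions of a fixed group. -/
def ZB (p : ℕ) {M : Type*} [Group M] (U : Subgroup M) : Prop :=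
  ∀ (P : Sylow p M) (l : ℕ), Nat.card (M ⧸ U) = (fs (P : Subgroup M) (M ⧸ U)).ncard + p * l →
    Bd p (fs (P : Subgroup M) (M ⧸ U)).ncard l

/-- The data describing the orbits of `M` different from `{β}` in a minimal counterexample. -/
structure Dat (p : ℕ) {M : Type*} {X : Type u} [Group M] [MulAction M X] (P : Sylow p M) (β : X)
    (f l : ℕ) (ι : Type u) [Fintype ι] where
  δ : ι → X
  U : ι → Subgroup M
  a : ι → ℕ
  c : ι → ℕ
  b : ι → ℕ
  e : ι → ℕ
  ne : ∀ i, δ i ≠ β
  cover : ∀ x, x ≠ β → ∃ i, x ∈ orbit M (δ i)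
  coatom : ∀ i, IsCoatom (U i)
  le : ∀ i, stabilizer M (δ i) ≤ U i
  ha : ∀ i, (fs (P : Subgroup M) (M ⧸ U i)).ncard = a i
  hc : ∀ i, Nat.card (M ⧸ U i) = a i + p * c i
  card_orbit : ∀ i, (orbit M (δ i)).ncard = b i * (a i + p * c i)
  fix_orbit : ∀ i, (fs (P : Subgroup M) X ∩ orbit M (δ i)).ncard = b i * a i
  c_pos : ∀ i, 1 ≤ c i
  b_pos : ∀ i, 0 < b i
  eq_of_b : ∀ i, b i = 1 → U i = stabilizer M (δ i)
  syl : ∀ i, ∀ Q : Sylow p M, (Q : Subgroup M) ≤ U i → (Q : Subgroup M) ≤ stabilizer M (δ i)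
  bd : ∀ i, Bd p (a i) (c i)
  c_lt : ∀ i, c i < l
  sum_c : ∑ i, b i * c i = l
  sum_a : f = 1 + ∑ i, b i * a i
  he : ∀ i, a i + e i = (p - 1) * c i
  e_ge : ∀ i, 2 ≤ c i → p - 1 ≤ e i
  sum_e : ∑ i, b i * e i + f = (p - 1) * l + 1
  f_ge : p + 1 ≤ f
  f_ge' : (p - 1) * l + 2 ≤ f + 2 * (p - 1)

theorem exists_dat {p : ℕ} [Fact p.Prime] (hp3 : 3 ≤ p) {M : Type*} {X : Type u} [Group M]
    [Finite M] [MulAction M X] [Finite X] (hM : PGen p M) (P : Sylow p M) (β : X)
    (hβ : ∀ m : M, m • β = β) (hβ' : ∀ x, x ≠ β → stabilizer M x ≠ ⊤)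
    (IH : ∀ U : Subgroup M, IsCoatom U → Nat.card (M ⧸ U) < Nat.card X → ZB p U)
    {f l : ℕ} (hf : (fs (P : Subgroup M) X).ncard = f) (hX : Nat.card X = f + p * l)
    (hl : 1 ≤ l) (hfp : ¬ p ∣ f) (hB : ¬ Bd p f l) :
    ∃ (ι : Type u) (_ : Fintype ι), Nonempty (Dat p P β f l ι) := by
  obtain ⟨ι, hι, δ, hδ, hcov, hsum⟩ := exists_reps (M := M) β hβ
  have hU : ∀ i, ∃ U : Subgroup M, IsCoatom U ∧ stabilizer M (δ i) ≤ U := by
    intro i
    rcases eq_top_or_exists_le_coatom (stabilizer M (δ i)) with h | h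
    · exact absurd h (hβ' _ (hδ i))
    · exact h
  choose U hU1 hU2 using hU
  have hcnt := fun i => orbit_count (X := X) P (hU2 i)
  choose b s hb hb1 hb2 hb3 hb4 using hcnt
  have hcc := fun i => exists_lc' (X := M ⧸ U i) P.isPGroup'
  choose c hc using hcc
  have hne : ∀ i, 1 ≤ c i := fun i =>
    one_le_of_card hM P (z := ((1 : M) : M ⧸ U i))
      (by rw [stabilizer_mk_one]; exact (hU1 i).1) (hc i)
  have hβf : β ∈ fs (P : Subgroup M) X := fun m _ => hβ m
  have E1 : f + p * ∑ i, s i =
      1 + ∑ i, b i * (fs (P : Subgroup M) (M ⧸ U i)).ncard := by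
    rw [← hf, hsum _ hβf, add_assoc, Finset.mul_sum, ← Finset.sum_add_distrib]
    congr 1
    apply Finset.sum_congr rfl
    intro i _
    rw [hb2 i]
  have E0 : Nat.card X = 1 + ∑ i, (orbit M (δ i)).ncard := by
    have := hsum Set.univ trivial
    simpa using this
  have E2 : f + p * l =
      1 + ∑ i, b i * ((fs (P : Subgroup M) (M ⧸ U i)).ncard + p * c i) := by
    rw [← hX, E0]
    congr 1
    apply Finset.sum_congr rfl
    intro i _
    rw [hb1 i, hc i]
  have hsmall : ∀ i, Nat.card (M ⧸ U i) < Nat.card X := by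
    intro i
    have h1 : Nat.card (M ⧸ U i) ≤ (orbit M (δ i)).ncard := by
      rw [hb1 i]
      exact Nat.le_mul_of_pos_left _ (hb i)
    have h2 : (orbit M (δ i)).ncard ≤ ∑ i, (orbit M (δ i)).ncard :=
      Finset.single_le_sum (f := fun i => (orbit M (δ i)).ncard) (fun _ _ => Nat.zero_le _)
        (Finset.mem_univ i)
    omega
  have hBd : ∀ i, Bd p (fs (P : Subgroup M) (M ⧸ U i)).ncard (c i) := fun i =>
    IH (U i) (hU1 i) (hsmall i) P (c i) (hc i)
  obtain ⟨h0, h1, h2, h3, h4, h5, e, he1, he2, he3⟩ :=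
    numeric hp3 hl hfp hB (fun i => (fs (P : Subgroup M) (M ⧸ U i)).ncard) c b s hne hb hBd E1 E2
  refine ⟨ι, hι, ⟨?_⟩⟩
  exact
    { δ := δ
      U := U
      a := fun i => (fs (P : Subgroup M) (M ⧸ U i)).ncard
      c := c
      b := b
      e := e
      ne := hδ
      cover := hcov
      coatom := hU1
      le := hU2
      ha := fun i => rfl
      hc := hc
      card_orbit := fun i => by rw [hb1 i, hc i]
      fix_orbit := fun i => by
        have := hb2 i
        rw [h0 i] at this
        omega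
      c_pos := hne
      b_pos := hb
      eq_of_b := hb3
      syl := fun i => hb4 i (h0 i)
      bd := hBd
      c_lt := h3
      sum_c := h4
      sum_a := h5
      he := he1
      e_ge := he2
      sum_e := he3
      f_ge := h1
      f_ge' := h2 }

end Cfsg.Agent.H401
end

-- part: H401/L4
section
/-!
# Maximal subgroups with alternating coset action
-/

set_option autoImplicit false
open Subgroup MulAction
open scoped Pointwise

namespace Cfsg.Agent.H401

variable {M : Type*} [Group M] [Finite M] {p : ℕ} [Fact p.Prime]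

omit [Finite M] in
theorem ncard_orbit_eq {Z : Type*} [MulAction M Z] {P : Subgroup M} (hP : Nat.card P = p)
    {z : Z} (hz : z ∉ fs P Z) : (orbit P z).ncard = p := by
  have hp : p.Prime := Fact.out
  have h1 : (orbit P z).ncard = (stabilizer P z).index := by
    rw [← Nat.card_coe_set_eq, Nat.card_congr (orbitEquivQuotientStabilizer P z)]
    rfl
  have h2 : (stabilizer P z).index ∣ p := by
    rw [← hP]
    exact Subgroup.index_dvd_card _
  rcases (Nat.dvd_prime hp).1 h2 with h | h
  · exfalso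
    rw [Subgroup.index_eq_one] at h
    apply hz
    intro g hg
    have : (⟨g, hg⟩ : P) ∈ stabilizer P z := by rw [h]; trivial
    exact this
  · rw [h1, h]

theorem not_dvd_card_of_normal (hM : PGen p M) {P : Sylow p M} (hP : Nat.card P = p)
    {K : Subgroup M} (hK : K.Normal) (hK' : K ≠ ⊤) : ¬ p ∣ Nat.card K := by
  intro h
  obtain ⟨k, hk⟩ := exists_prime_orderOf_dvd_card' (G := K) p h
  have h1 : orderOf (k : M) = p := by rw [Subgroup.orderOf_coe, hk]
  have h2 : IsPGroup p (zpowers (k : M)) := by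
    apply IsPGroup.of_card (n := 1)
    rw [Nat.card_zpowers, h1, pow_one]
  obtain ⟨Q, hQ⟩ := h2.exists_le_sylow
  have h3 : zpowers (k : M) = (Q : Subgroup M) := by
    apply Subgroup.eq_of_le_of_card_ge hQ
    rw [Nat.card_zpowers, h1]
    have : Nat.card Q = Nat.card P := Nat.card_congr (Sylow.equiv Q P).toEquiv
    exact le_of_eq (this.trans hP)
  apply hK'
  apply hM.eq_top_of_normal hK (P := Q)
  rw [← h3, zpowers_le]
  exact k.2

/-- A maximal subgroup whose coset action is alternating of degree less than `2 p`. -/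
structure IsAltCo (P : Sylow p M) (U : Subgroup M) (a : ℕ) : Prop where
  coatom : IsCoatom U
  fix : (fs (P : Subgroup M) (M ⧸ U)).ncard = a
  card : Nat.card (M ⧸ U) = a + p
  lt : a < p
  crit : AltCrit p a

theorem normalCore_ne_top {U : Subgroup M} (hU : U ≠ ⊤) : U.normalCore ≠ ⊤ := by
  intro h
  apply hU
  rw [eq_top_iff, ← h]
  exact normalCore_le U

theorem IsAltCo.range [Fintype M] {P : Sylow p M} {U : Subgroup M} {a : ℕ}
    [Fintype (M ⧸ U)] [DecidableEq (M ⧸ U)] (h : IsAltCo P U a) (hp2 : p ≠ 2) (hM : PGen p M)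
    (hP : Nat.card P = p) : (toPermHom M (M ⧸ U)).range = alternatingGroup (M ⧸ U) :=
  range_eq_alternating hp2 hM hP h.fix (by rw [← Nat.card_eq_fintype_card, h.card]) h.lt h.crit

/-- every proper normal subgroup lies in the core of a subgroup with alternating action -/
theorem normal_le_of_range {P : Sylow p M} {U : Subgroup M} (hU : U ≠ ⊤)
    [Fintype (M ⧸ U)] [DecidableEq (M ⧸ U)] (h5 : 5 ≤ Nat.card (M ⧸ U))
    (hr : (toPermHom M (M ⧸ U)).range = alternatingGroup (M ⧸ U))
    (hM : PGen p M) (hP : Nat.card P = p) {N : Subgroup M} (hN : N.Normal)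
    (hN' : N ≠ ⊤) : N ≤ U.normalCore := by
  have := alternatingGroup.isSimpleGroup (α := M ⧸ U) h5
  set hom := toPermHom M (M ⧸ U) with hhom
  have hNle : N.map hom ≤ alternatingGroup (M ⧸ U) := by
    rw [← hr]
    exact Subgroup.map_le_range _ _
  have hnorm : ((N.map hom).subgroupOf (alternatingGroup (M ⧸ U))).Normal := by
    constructor
    rintro ⟨x, hx⟩ hx' ⟨y, hy⟩
    rw [mem_subgroupOf] at hx' ⊢
    obtain ⟨n, hn, hnx⟩ := hx'
    rw [← hr] at hy
    obtain ⟨m, rfl⟩ := hy
    refine ⟨m * n * m⁻¹, hN.conj_mem n hn m, ?_⟩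
    rw [map_mul, map_mul, map_inv, hnx]
    rfl
  rcases hnorm.eq_bot_or_eq_top with h1 | h1
  · rw [normalCore_eq_ker, ← hhom, ← Subgroup.map_eq_bot_iff]
    rw [subgroupOf_eq_bot] at h1
    rw [← inf_eq_left.2 hNle]
    exact h1.eq_bot
  · exfalso
    have h2 : (P : Subgroup M).map hom ≤ N.map hom := by
      rw [subgroupOf_eq_top] at h1
      refine le_trans ?_ h1
      rw [← hr]
      exact Subgroup.map_le_range _ _
    have h3 : Nat.card ((P : Subgroup M).map hom) ∣ Nat.card N :=
      (Subgroup.card_dvd_of_le h2).trans (Subgroup.card_map_dvd N hom)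
    have h4 : Nat.card ((P : Subgroup M).map hom) ∣ p := by
      have := Subgroup.card_map_dvd (P : Subgroup M) hom
      rwa [show Nat.card (P : Subgroup M) = p from hP] at this
    rcases (Nat.dvd_prime Fact.out).1 h4 with h5 | h5
    · rw [Subgroup.card_eq_one, Subgroup.map_eq_bot_iff, hhom, ← normalCore_eq_ker] at h5
      exact normalCore_ne_top hU (hM.eq_top_of_normal (normalCore_normal U) h5)
    · rw [h5] at h3
      exact not_dvd_card_of_normal hM hP hN hN' h3

/-- every proper normal subgroup lies in the core of an alternating maximal subgroup -/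
theorem IsAltCo.normal_le {P : Sylow p M} {U : Subgroup M} {a : ℕ} (h : IsAltCo P U a)
    (hp2 : p ≠ 2) (hM : PGen p M) (hP : Nat.card P = p) {N : Subgroup M} (hN : N.Normal)
    (hN' : N ≠ ⊤) : N ≤ U.normalCore := by
  classical
  have := Fintype.ofFinite M
  have := Fintype.ofFinite (M ⧸ U)
  have hp3 : 3 ≤ p := by
    have := (Fact.out : p.Prime).two_le
    omega
  refine normal_le_of_range h.coatom.1 ?_ (h.range hp2 hM hP) hM hP hN hN'
  rw [h.card]
  have := h.crit.two_le
  omega

/-- the degree of an alternating maximal subgroup is minimal -/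
theorem IsAltCo.le {P : Sylow p M} {U : Subgroup M} {a : ℕ} (h : IsAltCo P U a)
    (hp2 : p ≠ 2) (hM : PGen p M) (hP : Nat.card P = p) {U' : Subgroup M} (hU' : IsCoatom U')
    {a' : ℕ} (hc : Nat.card (M ⧸ U') = a' + p) : a ≤ a' := by
  classical
  have := Fintype.ofFinite M
  have := Fintype.ofFinite (M ⧸ U)
  have := Fintype.ofFinite (M ⧸ U')
  have hr := h.range hp2 hM hP
  have hp3 : 3 ≤ p := by
    have := (Fact.out : p.Prime).two_le
    omega
  have hle : U'.normalCore ≤ U.normalCore :=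
    h.normal_le hp2 hM hP (normalCore_normal U') (normalCore_ne_top hU'.1)
  have h1 : Nat.card (alternatingGroup (M ⧸ U)) ∣ Nat.card (alternatingGroup (M ⧸ U')) := by
    have e1 : U.normalCore.index = Nat.card (alternatingGroup (M ⧸ U)) := by
      rw [normalCore_eq_ker, Subgroup.index_ker, hr]
    have e2 : U'.normalCore.index ∣ Nat.card (alternatingGroup (M ⧸ U')) := by
      rw [normalCore_eq_ker, Subgroup.index_ker]
      apply Subgroup.card_dvd_of_le
      rintro _ ⟨d, rfl⟩
      exact sign_eq_one hp2 hM d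
    rw [← e1]
    exact (Subgroup.index_dvd_of_le hle).trans e2
  have hn1 : Nontrivial (M ⧸ U) := by
    rw [← Finite.one_lt_card_iff_nontrivial, h.card]
    omega
  have hn2 : Nontrivial (M ⧸ U') := by
    rw [← Finite.one_lt_card_iff_nontrivial, hc]
    omega
  have h2 := Nat.mul_le_mul_left 2 (Nat.le_of_dvd Nat.card_pos h1)
  rw [two_mul_nat_card_alternatingGroup, two_mul_nat_card_alternatingGroup, Nat.card_perm,
    Nat.card_perm, h.card, hc] at h2
  by_contra hlt
  rw [not_le] at hlt
  have h3 := (Nat.factorial_lt (by omega : 0 < a' + p)).2 (by omega : a' + p < a + p)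
  omega

/-- If a subgroup `D` generated by Sylow subgroups has no fixed point in an alternating action,
then it is everything modulo the kernel. -/
theorem IsAltCo.exists_fixed {P : Sylow p M} {U : Subgroup M} {a : ℕ} (h : IsAltCo P U a)
    (hp2 : p ≠ 2) (hM : PGen p M) (hP : Nat.card P = p) {V : Subgroup M} (hV : V ≠ ⊤)
    {Q : Sylow p M} (hQ : (Q : Subgroup M) ≤ V) (hcore : U.normalCore ≤ V) :
    ∃ z : M ⧸ U, plus p V ≤ stabilizer M z := by
  classical
  have := Fintype.ofFinite M
  have := Fintype.ofFinite (M ⧸ U)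
  by_contra hcon
  push Not at hcon
  have hQc : Nat.card (Q : Subgroup M) = p := by
    have : Nat.card Q = Nat.card P := Nat.card_congr (Sylow.equiv Q P).toEquiv
    exact this.trans hP
  have hQfix : (fs (Q : Subgroup M) (M ⧸ U)).ncard = a := by
    obtain ⟨m, hm⟩ := MulAction.exists_smul_eq M P Q
    rw [← hm, Sylow.coe_subgroup_smul, ncard_fs_smul', h.fix]
  have hQD : (Q : Subgroup M) ≤ plus p V := le_plus hQ
  -- a moved point
  have hTc : (fs (Q : Subgroup M) (M ⧸ U))ᶜ.ncard = p := by
    have := Set.ncard_add_ncard_compl (fs (Q : Subgroup M) (M ⧸ U))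
    rw [hQfix, h.card] at this
    omega
  have hTne : ((fs (Q : Subgroup M) (M ⧸ U))ᶜ).Nonempty := by
    rw [← Set.ncard_pos, hTc]
    exact (Fact.out : p.Prime).pos
  obtain ⟨t, ht⟩ := hTne
  have hTorb : (orbit (Q : Subgroup M) t : Set (M ⧸ U)) = (fs (Q : Subgroup M) (M ⧸ U))ᶜ := by
    apply Set.eq_of_subset_of_ncard_le _ _ (Set.toFinite _)
    · rintro _ ⟨q, rfl⟩ hq
      apply ht
      have h1 : q • t = t := by
        have h2 : (q⁻¹ : (Q : Subgroup M)) • (q • t) = q • t := hq (q⁻¹).2
        rw [inv_smul_smul] at h2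
        exact h2.symm
      simp only at hq
      rw [h1] at hq
      exact hq
    · rw [hTc]
      exact (ncard_orbit_eq hQc ht).ge
  -- transitivity
  have hreach : ∀ z : M ⧸ U, ∃ d ∈ plus p V, d • z ∈ (fs (Q : Subgroup M) (M ⧸ U))ᶜ := by
    intro z
    by_contra hz
    push Not at hz
    simp only [Set.mem_compl_iff, not_not] at hz
    apply hcon z
    have hfin : ((stabilizer M z).subgroupOf (plus p V)) = ⊤ := by
      apply (pGen_plus hQ).eq_top
      intro R
      obtain ⟨d, hd⟩ := MulAction.exists_smul_eq (plus p V) (Q.subtype hQD) R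
      rw [← hd, Sylow.coe_subgroup_smul, Sylow.coe_subtype]
      intro x hx
      rw [mem_pointwise_smul_iff_inv_smul_mem, ← map_inv, MulAut.smul_def, MulAut.conj_apply,
        mem_subgroupOf] at hx
      rw [mem_subgroupOf, mem_stabilizer_iff]
      have h1 : ((d⁻¹ : plus p V) : M) • z ∈ fs (Q : Subgroup M) (M ⧸ U) := hz _ (d⁻¹).2
      have h2 := h1 hx
      rw [mem_stabilizer_iff] at h2
      have h3 : (x : M) • z = (d : M) • (((d⁻¹ * x * d⁻¹⁻¹ : plus p V) : M) •
          ((d⁻¹ : plus p V) : M) • z) := by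
        rw [smul_smul, smul_smul]
        congr 1
        simp [mul_assoc]
      rw [h3, h2, smul_smul]
      simp
    rwa [subgroupOf_eq_top] at hfin
  have htrans : IsPretransitive (plus p V) (M ⧸ U) := by
    have key : ∀ z : M ⧸ U, ∃ d : plus p V, d • t = z := by
      intro z
      obtain ⟨d, hd, hdz⟩ := hreach z
      rw [← hTorb] at hdz
      obtain ⟨q, hq⟩ := hdz
      refine ⟨⟨d, hd⟩⁻¹ * ⟨q, hQD q.2⟩, ?_⟩
      rw [mul_smul, inv_smul_eq_iff]
      exact hq
    constructor
    intro x y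
    obtain ⟨d, rfl⟩ := key x
    obtain ⟨d', rfl⟩ := key y
    exact ⟨d' * d⁻¹, by rw [smul_smul, inv_mul_cancel_right]⟩
  have hQ' : Nat.card ((Q : Subgroup M).subgroupOf (plus p V)) = p :=
    (Nat.card_congr (subgroupOfEquivOfLe hQD).toEquiv).trans hQc
  have hfix' : (fs ((Q : Subgroup M).subgroupOf (plus p V)) (M ⧸ U)).ncard = a := by
    rw [← hQfix]
    congr 1
    ext z
    rw [mem_fs, mem_fs]
    constructor
    · intro h1 q hq
      exact h1 (show (⟨q, hQD hq⟩ : plus p V) ∈ (Q : Subgroup M).subgroupOf (plus p V) from hq)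
    · intro h1 q hq
      exact h1 hq
  have hr1 := range_eq_alternating (Z := M ⧸ U) hp2 (pGen_plus hQ) hQ' hfix'
    (by rw [← Nat.card_eq_fintype_card, h.card]) h.lt h.crit
  have hr2 := h.range hp2 hM hP
  apply hV
  rw [eq_top_iff]
  intro m _
  have h1 : toPermHom M (M ⧸ U) m ∈ (toPermHom (plus p V) (M ⧸ U)).range := by
    rw [hr1, ← hr2]
    exact ⟨m, rfl⟩
  obtain ⟨d, hd⟩ := h1
  have h2 : (d : M)⁻¹ * m ∈ U.normalCore := by
    rw [normalCore_eq_ker, MonoidHom.mem_ker, map_mul, map_inv, ← hd, inv_mul_eq_one]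
    rfl
  have h3 := V.mul_mem (plus_le V d.2) (hcore h2)
  rwa [mul_inv_cancel_left] at h3

theorem coe_stabilizer (U : Subgroup M) (g : M) :
    stabilizer M ((g : M) : M ⧸ U) = MulAut.conj g • U := by
  have : ((g : M) : M ⧸ U) = g • (((1 : M) : M ⧸ U)) := by
    change _ = ((g * 1 : M) : M ⧸ U)
    rw [mul_one]
  rw [this, stabilizer_smul', stabilizer_mk_one]

theorem exists_sylow_le {P : Sylow p M} {U : Subgroup M} (h : (fs (P : Subgroup M) (M ⧸ U)).ncard ≠ 0) :
    ∃ Q : Sylow p M, (Q : Subgroup M) ≤ U := by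
  obtain ⟨z, hz⟩ := Set.nonempty_of_ncard_ne_zero h
  obtain ⟨g, rfl⟩ := QuotientGroup.mk_surjective z
  rw [mem_fs, coe_stabilizer] at hz
  refine ⟨g⁻¹ • P, ?_⟩
  rw [Sylow.coe_subgroup_smul, map_inv]
  exact Subgroup.subset_pointwise_smul_iff.1 hz

/-- **Lemma 4.** -/
theorem IsAltCo.conj {P : Sylow p M} {U : Subgroup M} {a : ℕ} (h : IsAltCo P U a)
    (hp2 : p ≠ 2) (hM : PGen p M) (hP : Nat.card P = p) {U' : Subgroup M} (hU' : IsCoatom U')
    {a' : ℕ} (hf : (fs (P : Subgroup M) (M ⧸ U')).ncard = a')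
    (hc : Nat.card (M ⧸ U') = a' + p) (ha' : a' < p) :
    a' = a ∧ ∃ g : M, U = MulAut.conj g • U' := by
  have h1 := h.le hp2 hM hP hU' hc
  have h' : IsAltCo P U' a' := ⟨hU', hf, hc, ha', h.crit.mono h1⟩
  have h2 := h'.le hp2 hM hP h.coatom h.card
  refine ⟨le_antisymm h2 h1, ?_⟩
  have key : ∀ {V V' : Subgroup M} {c c' : ℕ}, IsAltCo P V c → IsAltCo P V' c' →
      ∃ g : M, plus p V ≤ MulAut.conj g • plus p V' := by
    intro V V' c c' hV hV'
    obtain ⟨Q, hQ⟩ := exists_sylow_le (P := P) (U := V) (by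
      rw [hV.fix]
      have := hV.crit.two_le
      omega)
    obtain ⟨z, hz⟩ := hV'.exists_fixed hp2 hM hP hV.coatom.1 hQ
      ((hV.normal_le hp2 hM hP (normalCore_normal V') (normalCore_ne_top hV'.coatom.1)).trans
        (normalCore_le V))
    obtain ⟨g, rfl⟩ := QuotientGroup.mk_surjective z
    rw [coe_stabilizer] at hz
    refine ⟨g, ?_⟩
    rw [smul_plus]
    exact le_plus_iff_of_plus_le.1 hz
  obtain ⟨g, hg⟩ := key h h'
  obtain ⟨k, hk⟩ := key h' h
  have hcard : ∀ (g : M) (V : Subgroup M), Nat.card (MulAut.conj g • V : Subgroup M) = Nat.card V :=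
    fun g V => (Nat.card_congr (Subgroup.equivSMul (MulAut.conj g) V).toEquiv).symm
  have h3 := Subgroup.card_le_of_le hk
  rw [hcard] at h3
  have h4 : plus p U = MulAut.conj g • plus p U' := by
    apply Subgroup.eq_of_le_of_card_ge hg
    rw [hcard]
    exact h3
  obtain ⟨Q, hQ⟩ := exists_sylow_le (P := P) (U := U) (by
      rw [h.fix]
      have := h.crit.two_le
      omega)
  refine ⟨g, ?_⟩
  rw [smul_plus] at h4
  refine eq_of_plus_eq hM h.coatom ?_ hQ h4
  rw [← coe_stabilizer]
  have : IsPreprimitive M (M ⧸ U') := by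
    have hnt : Nontrivial (M ⧸ U') := by
      rw [← Finite.one_lt_card_iff_nontrivial, hc]
      have := (Fact.out : p.Prime).two_le
      omega
    rw [← isCoatom_stabilizer_iff_preprimitive M ((1 : M) : M ⧸ U'), stabilizer_mk_one]
    exact hU'
  have hnt : Nontrivial (M ⧸ U') := by
    rw [← Finite.one_lt_card_iff_nontrivial, hc]
    have := (Fact.out : p.Prime).two_le
    omega
  exact IsPreprimitive.isCoatom_stabilizer_of_isPreprimitive _ _

end Cfsg.Agent.H401
end

-- part: H401/Subsets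
section
/-!
# Maximal subgroups of an alternating group which are set stabilizers
-/

set_option autoImplicit false
open Subgroup MulAction
open scoped Pointwise

namespace Cfsg.Agent.H401

section

variable {M : Type*} [Group M]

theorem ncard_fs_quot {Y : Type*} [MulAction M Y] [IsPretransitive M Y] {U : Subgroup M} {y : Y}
    (hy : stabilizer M y = U) (H : Subgroup M) : (fs H (M ⧸ U)).ncard = (fs H Y).ncard := by
  subst hy
  let e : M ⧸ stabilizer M y → Y := ofQuotientStabilizer M y
  have he : Function.Injective e := injective_ofQuotientStabilizer M y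
  have hs : Function.Surjective e := by
    intro z
    obtain ⟨m, rfl⟩ := MulAction.exists_smul_eq M y z
    exact ⟨(m : M ⧸ stabilizer M y), ofQuotientStabilizer_mk M y m⟩
  have hsm : ∀ (m : M) (q : M ⧸ stabilizer M y), e (m • q) = m • e q := fun m q =>
    ofQuotientStabilizer_smul M y m q
  have : fs H Y = e '' fs H (M ⧸ stabilizer M y) := by
    ext z
    constructor
    · intro hz
      obtain ⟨q, rfl⟩ := hs z
      refine ⟨q, ?_, rfl⟩
      intro h hh
      apply he
      rw [hsm]
      exact hz hh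
    · rintro ⟨q, hq, rfl⟩ h hh
      rw [mem_stabilizer_iff, ← hsm]
      congr 1
      exact hq hh
  rw [this, Set.ncard_image_of_injective _ he]

theorem card_quot {Y : Type*} [MulAction M Y] [IsPretransitive M Y] {U : Subgroup M} {y : Y}
    (hy : stabilizer M y = U) : Nat.card (M ⧸ U) = Nat.card Y := by
  rw [← index_stabilizer_of_transitive M y, hy]
  rfl

end

/-! ### binomial coefficients -/

theorem choose_mul (a w : ℕ) :
    (a + 2).choose (w + 2) * ((w + 2) * (w + 1)) = (a + 2) * (a + 1) * a.choose w := by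
  have h1 := Nat.add_one_mul_choose_eq (a + 1) (w + 1)
  have h2 := Nat.add_one_mul_choose_eq a w
  calc (a + 2).choose (w + 2) * ((w + 2) * (w + 1))
      = ((a + 1 + 1).choose (w + 1 + 1) * (w + 1 + 1)) * (w + 1) := by ring
    _ = ((a + 1 + 1) * (a + 1).choose (w + 1)) * (w + 1) := by rw [h1]
    _ = (a + 2) * ((a + 1).choose (w + 1) * (w + 1)) := by ring
    _ = (a + 2) * ((a + 1) * a.choose w) := by rw [h2]
    _ = _ := by ring

theorem four_choose_lt {a p w : ℕ} (hw : 2 ≤ w) (hwa : w ≤ a) (hap : a < p) :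
    4 * a.choose w < (a + p).choose w := by
  obtain ⟨v, rfl⟩ : ∃ v, w = v + 2 := ⟨w - 2, by omega⟩
  obtain ⟨c, rfl⟩ : ∃ c, a = c + 2 := ⟨a - 2, by omega⟩
  obtain ⟨m, hm⟩ : ∃ m, c + 2 + p = m + 2 := ⟨c + p, by omega⟩
  rw [hm]
  have h1 := choose_mul c v
  have h2 := choose_mul m v
  have h3 : c.choose v ≤ m.choose v := Nat.choose_le_choose v (by omega)
  have h4 : 4 * ((c + 2) * (c + 1)) < (m + 2) * (m + 1) := by nlinarith
  have hpos : 0 < c.choose v := Nat.choose_pos (by omega)
  have h5 : 4 * (c + 2).choose (v + 2) * ((v + 2) * (v + 1)) <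
      (m + 2).choose (v + 2) * ((v + 2) * (v + 1)) := by
    rw [h2]
    calc 4 * (c + 2).choose (v + 2) * ((v + 2) * (v + 1))
        = 4 * ((c + 2).choose (v + 2) * ((v + 2) * (v + 1))) := by ring
      _ = 4 * ((c + 2) * (c + 1)) * c.choose v := by rw [h1]; ring
      _ < (m + 2) * (m + 1) * c.choose v := Nat.mul_lt_mul_of_pos_right h4 hpos
      _ ≤ (m + 2) * (m + 1) * m.choose v := Nat.mul_le_mul_left _ h3
  exact Nat.lt_of_mul_lt_mul_right h5

theorem choose_two_le {m w : ℕ} (hw : 2 ≤ w) (hwm : 2 * w ≤ m) : m.choose 2 ≤ m.choose w := by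
  induction w, hw using Nat.le_induction with
  | base => exact le_rfl
  | succ w hw ih =>
    refine (ih (by omega)).trans ?_
    apply Nat.choose_le_succ_of_lt_half_left
    omega

/-- The arithmetic contradiction for set stabilizers. -/
theorem numeric_sets {p a w f1 l1 : ℕ} (hp3 : 3 ≤ p) (hap : a < p) (hw : 2 ≤ w) (hwa : w ≤ a)
    (hl : 2 ≤ l1) (hf : (p - 1) * (l1 - 2) + 1 ≤ f1) (h1 : f1 = a.choose w)
    (h2 : f1 + p * l1 = (a + p).choose w) : False := by
  have h3 := four_choose_lt hw hwa hap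
  rw [← h1, ← h2] at h3
  obtain ⟨k, rfl⟩ : ∃ k, l1 = k + 2 := ⟨l1 - 2, by omega⟩
  obtain ⟨q, rfl⟩ : ∃ q, p = q + 1 := ⟨p - 1, by omega⟩
  simp only [Nat.add_sub_cancel] at hf
  have e1 : (q + 1) * (k + 2) = q * k + k + 2 * q + 2 := by ring
  rw [e1] at h3 h2
  have hk : k = 0 := by
    by_contra hk
    obtain ⟨j, rfl⟩ : ∃ j, k = j + 1 := ⟨k - 1, by omega⟩
    have h4 : q * (j + 1) = q * j + q := by ring
    have h5 : 2 * j ≤ q * j := Nat.mul_le_mul_right _ (by omega)
    omega
  subst hk
  have h6 := choose_two_le hw (show 2 * w ≤ a + (q + 1) by omega)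
  rw [← h2] at h6
  have h7 : (q + 3).choose 2 ≤ (a + (q + 1)).choose 2 := Nat.choose_le_choose 2 (by omega)
  have h8 : (q + 3) * (q + 2) = (q + 3).choose 2 * 2 := by
    have := Nat.add_one_mul_choose_eq (q + 2) 1
    rw [Nat.choose_one_right] at this
    exact this
  have h9 : (q + 3) * (q + 2) = q * q + 5 * q + 6 := by ring
  have h10 : 2 * q ≤ q * q := Nat.mul_le_mul_right _ (by omega)
  simp only [mul_zero, zero_add] at h3 h6
  -- `q ≥ 2`
  rcases Nat.lt_or_ge q 3 with h11 | h11
  · have : q = 2 := by omega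
    subst this
    omega
  · have h12 : 3 * q ≤ q * q := Nat.mul_le_mul_right _ h11
    omega

section

variable {M : Type*} [Group M] [Finite M] {p : ℕ} [Fact p.Prime]

/-- If the core of an alternating maximal subgroup `U` lies in the maximal subgroup `V`, then `V`
is the stabilizer of a set, and we get a numerical contradiction. -/
theorem IsAltCo.core_not_le {P : Sylow p M} {U : Subgroup M} {a : ℕ} (h : IsAltCo P U a)
    (hp2 : p ≠ 2) (hM : PGen p M) (hP : Nat.card P = p) {V : Subgroup M} (hV : IsCoatom V)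
    {f1 l1 : ℕ} (hf1 : (fs (P : Subgroup M) (M ⧸ V)).ncard = f1)
    (hV1 : Nat.card (M ⧸ V) = f1 + p * l1) (hl1 : 2 ≤ l1) (hf : (p - 1) * (l1 - 2) + 1 ≤ f1) :
    ¬ U.normalCore ≤ V := by
  classical
  intro hcore
  have hp : p.Prime := Fact.out
  have hp3 : 3 ≤ p := by
    have := hp.two_le
    omega
  have := Fintype.ofFinite M
  have := Fintype.ofFinite (M ⧸ U)
  have ha2 := h.crit.two_le
  have halt := h.lt
  obtain ⟨Q, hQ⟩ := exists_sylow_le (P := P) (U := V) (by rw [hf1]; omega)
  obtain ⟨z0, hz0⟩ := h.exists_fixed hp2 hM hP hV.1 hQ hcore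
  set Ws : Set (M ⧸ U) := fs (plus p V) (M ⧸ U) with hWs
  let W : Finset (M ⧸ U) := Ws.toFinset
  have hWcoe : (W : Set (M ⧸ U)) = Ws := by simp [W]
  have hWQ : Ws ⊆ fs (Q : Subgroup M) (M ⧸ U) := fun z hz => (le_plus hQ).trans hz
  have hQfix : (fs (Q : Subgroup M) (M ⧸ U)).ncard = a := by
    obtain ⟨m, hm⟩ := MulAction.exists_smul_eq M P Q
    rw [← hm, Sylow.coe_subgroup_smul, ncard_fs_smul', h.fix]
  have hwa : W.card ≤ a := by
    rw [← Set.ncard_coe_finset, hWcoe, ← hQfix]
    exact Set.ncard_le_ncard hWQ (Set.toFinite _)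
  have hw1 : 1 ≤ W.card := by
    rw [Nat.succ_le_iff, Finset.card_pos]
    exact ⟨z0, by simp [W, hWs, mem_fs, hz0]⟩
  -- `V` preserves `W`
  have hVW : ∀ v ∈ V, v • W = W := by
    intro v hv
    rw [← Finset.coe_inj, Finset.coe_smul_finset, hWcoe]
    have h1 : MulAut.conj v • plus p V = plus p V := by
      rw [smul_plus, smul_eq_of_mem hv]
    ext z
    rw [Set.mem_smul_set_iff_inv_smul_mem]
    have h2 := fs_smul (plus p V) v (v⁻¹ • z)
    rw [smul_inv_smul, h1] at h2
    exact h2.symm
  let y0 : Set.powersetCard (M ⧸ U) W.card := ⟨W, rfl⟩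
  have hr := h.range hp2 hM hP
  have htr : IsPretransitive M (Set.powersetCard (M ⧸ U) W.card) := by
    have h1 := Set.powersetCard.isPretransitive_alternatingGroup (α := M ⧸ U) (n := W.card)
      (by rw [h.card]; omega)
    constructor
    intro x y
    obtain ⟨⟨σ, hσ⟩, hσxy⟩ := h1.exists_smul_eq x y
    rw [← hr] at hσ
    obtain ⟨m, rfl⟩ := hσ
    refine ⟨m, ?_⟩
    rw [← hσxy]
    rfl
  have hst : stabilizer M y0 = V := by
    have h1 : V ≤ stabilizer M y0 := by
      intro v hv
      rw [mem_stabilizer_iff]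
      apply Subtype.ext
      rw [Set.powersetCard.coe_smul]
      exact hVW v hv
    rcases h1.eq_or_lt with h2 | h2
    · exact h2.symm
    · exfalso
      have h3 := hV.2 _ h2
      have h4 : Nat.card (Set.powersetCard (M ⧸ U) W.card) = 1 := by
        rw [← index_stabilizer_of_transitive M y0, h3, Subgroup.index_top]
      rw [Set.powersetCard.card, h.card] at h4
      have h6 : (a + p).choose 1 ≤ (a + p).choose W.card := by
        rcases hw1.eq_or_lt with h7 | h7
        · rw [← h7]
        · refine le_trans ?_ (choose_two_le h7 (by omega))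
          apply Nat.choose_le_succ_of_lt_half_left
          omega
      rw [Nat.choose_one_right] at h6
      omega
  have hcardV : Nat.card (M ⧸ V) = (a + p).choose W.card := by
    rw [card_quot hst, Set.powersetCard.card, h.card]
  -- the fixed points of `P`
  have hfixV : (fs (P : Subgroup M) (M ⧸ V)).ncard = a.choose W.card := by
    rw [ncard_fs_quot hst]
    have hmem : ∀ y : Set.powersetCard (M ⧸ U) W.card, y ∈ fs (P : Subgroup M) _ ↔
        (y.val : Set (M ⧸ U)) ⊆ fs (P : Subgroup M) (M ⧸ U) := by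
      intro y
      obtain ⟨m, rfl⟩ := MulAction.exists_smul_eq M y0 y
      have hval : ((m • y0 : Set.powersetCard (M ⧸ U) W.card).val : Set (M ⧸ U)) = m • Ws := by
        rw [Set.powersetCard.coe_smul, Finset.coe_smul_finset, ← hWcoe]
      rw [hval]
      constructor
      · intro hPy
        rw [mem_fs, stabilizer_smul', hst] at hPy
        have h1 := le_plus hPy
        rw [← smul_plus] at h1
        rintro _ ⟨z, hz, rfl⟩
        rw [mem_fs]
        refine h1.trans ?_
        simp only
        rw [stabilizer_smul']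
        exact Subgroup.pointwise_smul_le_pointwise_smul_iff.2 hz
      · intro hsub g hg
        rw [mem_stabilizer_iff]
        apply Subtype.ext
        rw [Set.powersetCard.coe_smul, ← Finset.coe_inj, Finset.coe_smul_finset, hval]
        ext z
        rw [Set.mem_smul_set_iff_inv_smul_mem]
        constructor
        · intro hz
          have h1 : g • (g⁻¹ • z) = g⁻¹ • z := hsub hz hg
          rw [smul_inv_smul] at h1
          rw [h1]
          exact hz
        · intro hz
          have h1 : g⁻¹ • z = z := hsub hz (inv_mem hg)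
          rw [h1]
          exact hz
    have himg : (fun y : Set.powersetCard (M ⧸ U) W.card => y.val) '' fs (P : Subgroup M) _ =
        ((Finset.powersetCard W.card (fs (P : Subgroup M) (M ⧸ U)).toFinset : Finset _) :
          Set (Finset (M ⧸ U))) := by
      ext T
      simp only [Set.mem_image, Finset.mem_coe, Finset.mem_powersetCard]
      constructor
      · rintro ⟨y, hy, rfl⟩
        rw [hmem] at hy
        refine ⟨?_, y.2⟩
        intro z hz
        rw [Set.mem_toFinset]
        exact hy hz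
      · rintro ⟨h1, h2⟩
        refine ⟨⟨T, h2⟩, ?_, rfl⟩
        rw [hmem]
        intro z hz
        have := h1 hz
        rwa [Set.mem_toFinset] at this
    rw [← Set.ncard_image_of_injective _ Subtype.val_injective, himg, Set.ncard_coe_finset,
      Finset.card_powersetCard, ← Set.ncard_eq_toFinset_card', h.fix]
  rcases hw1.eq_or_lt with hw1' | hw2
  · rw [← hw1', Nat.choose_one_right] at hcardV
    have h7 : p * 2 ≤ p * l1 := Nat.mul_le_mul_left _ hl1
    omega
  · exact numeric_sets hp3 halt hw2 hwa hl1 hf (by rw [← hf1, hfixV]) (by rw [← hV1, hcardV])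

end

end Cfsg.Agent.H401
end

-- part: H401/CD
section
/-!
# Fixed points of a `p`-group on a transitive set of a `p'`-group
-/

set_option autoImplicit false
open Subgroup MulAction
open scoped Pointwise

namespace Cfsg.Agent.H401

variable {M X : Type*} [Group M] [Finite M] [MulAction M X] [Finite X] {p : ℕ} [Fact p.Prime]

omit [MulAction M X] [Finite X] [Fact p.Prime] in
theorem relIndex_ne_zero' (A B : Subgroup M) : A.relIndex B ≠ 0 :=
  Subgroup.index_ne_zero_of_finite

open Cfsg.Agent.Classification.QDW in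
theorem coprime_index_dvd {D K L : Subgroup M} (hD : IsPGroup p D) (hK : ¬ p ∣ Nat.card K)
    (hDK : ∀ b ∈ D, ∀ u ∈ K, b * u * b⁻¹ ∈ K) (hLK : L ≤ K)
    (hDL : ∀ b ∈ D, ∀ u ∈ L, b * u * b⁻¹ ∈ L) :
    (L ⊓ centralizer (D : Set M)).relIndex (K ⊓ centralizer (D : Set M)) ∣ L.relIndex K := by
  have hL : ¬ p ∣ Nat.card L := fun h => hK (h.trans (Subgroup.card_dvd_of_le hLK))
  rw [← Nat.factorization_prime_le_iff_dvd (relIndex_ne_zero' _ _)
    (relIndex_ne_zero' _ _)]
  intro r hr
  have : Fact r.Prime := ⟨hr⟩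
  obtain ⟨R, hRL, hR, hRi, hDR⟩ := FuCop.exists_inv hD hL hDL r
  obtain ⟨T, hTK, hT, hTi, hDT, hRT⟩ := FuCop.exists_inv_ge hD hK hDK (hRL.trans hLK) hR hDR
  obtain ⟨-, hRCi⟩ := FuCop.centralizer_sylow hD hL hDL hRL hR hRi hDR
  obtain ⟨hTC, hTCi⟩ := FuCop.centralizer_sylow hD hK hDK hTK hT hTi hDT
  set C := centralizer (D : Set M) with hC
  have hmul : ∀ {A B E : Subgroup M}, A ≤ B → B ≤ E → ¬ r ∣ A.relIndex B →
      (B.relIndex E).factorization r = (A.relIndex E).factorization r := by
    intro A B E hAB hBE h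
    rw [← Subgroup.relIndex_mul_relIndex A B E hAB hBE,
      Nat.factorization_mul (relIndex_ne_zero' _ _)
        (relIndex_ne_zero' _ _), Finsupp.add_apply,
      Nat.factorization_eq_zero_of_not_dvd h, zero_add]
  have hmul' : ∀ {A B E : Subgroup M}, A ≤ B → B ≤ E → ¬ r ∣ B.relIndex E →
      (A.relIndex E).factorization r = (A.relIndex B).factorization r := by
    intro A B E hAB hBE h
    rw [← Subgroup.relIndex_mul_relIndex A B E hAB hBE,
      Nat.factorization_mul (relIndex_ne_zero' _ _)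
        (relIndex_ne_zero' _ _), Finsupp.add_apply,
      Nat.factorization_eq_zero_of_not_dvd h, add_zero]
  rw [hmul (inf_le_inf_right C hRL) (inf_le_inf_right C hLK) hRCi,
    hmul' (inf_le_inf_right C hRT) (inf_le_inf_right C hTK) hTCi,
    hmul hRL hLK hRi, hmul' hRT hTK hTi]
  -- powers of `r`
  have hpow : ∀ {A B : Subgroup M}, IsPGroup r B → ∃ k, A.relIndex B = r ^ k := by
    intro A B hB
    obtain ⟨k, hk⟩ := (IsPGroup.iff_card).1 hB
    have h2 : A.relIndex B ∣ r ^ k := by rw [← hk]; exact Subgroup.relIndex_dvd_card A B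
    obtain ⟨j, -, hj⟩ := (Nat.dvd_prime_pow hr).1 h2
    exact ⟨j, hj⟩
  obtain ⟨a, ha⟩ := hpow (A := R) hT
  obtain ⟨b, hb⟩ := hpow (A := R ⊓ C) hTC
  have hle : (R ⊓ C).relIndex (T ⊓ C) ≤ R.relIndex T := by
    have h1 : (R ⊓ C).relIndex (T ⊓ C) = R.relIndex (T ⊓ C) := by
      rw [← Subgroup.inf_relIndex_right R (T ⊓ C), ← Subgroup.inf_relIndex_right (R ⊓ C) (T ⊓ C)]
      congr 1
      rw [inf_assoc, ← inf_assoc C, inf_comm C T, inf_assoc, inf_idem]
    rw [h1]
    exact Subgroup.relIndex_le_of_le_right inf_le_left (relIndex_ne_zero' _ _)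
  rw [ha, hb, hr.factorization_pow, hr.factorization_pow, Finsupp.single_eq_same,
    Finsupp.single_eq_same]
  rw [ha, hb] at hle
  exact (Nat.pow_le_pow_iff_right hr.one_lt).1 hle

/-- If the `p'`-group `K` is transitive on `X`, then the number of fixed points of a `p`-group
normalizing `K` and fixing a point divides the number of points. -/
theorem ncard_fs_dvd {D K : Subgroup M} (hD : IsPGroup p D) (hK : ¬ p ∣ Nat.card K)
    (hDK : D ≤ normalizer (K : Set M)) (htr : ∀ x y : X, ∃ k ∈ K, k • x = y)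
    (hne : (fs D X).Nonempty) : (fs D X).ncard ∣ Nat.card X := by
  obtain ⟨x, hx⟩ := hne
  have hcop : (Nat.card D).Coprime (Nat.card K) := by
    obtain ⟨k, hk⟩ := (IsPGroup.iff_card).1 hD
    rw [hk]
    exact ((Nat.Prime.coprime_iff_not_dvd Fact.out).2 hK).pow_left k
  have hsolv : Group.IsSolvable D ∨ Group.IsSolvable K := by
    left
    have := hD.isNilpotent
    infer_instance
  have hDK' : ∀ b ∈ D, ∀ u ∈ K, b * u * b⁻¹ ∈ K := fun b hb u hu =>
    (mem_normalizer_iff.1 (hDK hb) u).1 hu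
  let L : Subgroup M := K ⊓ stabilizer M x
  have hDL : ∀ b ∈ D, ∀ u ∈ L, b * u * b⁻¹ ∈ L := by
    intro b hb u hu
    refine ⟨hDK' b hb u hu.1, ?_⟩
    exact (stabilizer M x).mul_mem ((stabilizer M x).mul_mem (hx hb) hu.2)
      ((stabilizer M x).inv_mem (hx hb))
  have h1 := coprime_index_dvd hD hK hDK' (L := L) inf_le_left hDL
  have e1 : L.relIndex K = Nat.card X := by
    have h2 : (stabilizer K x).index = Nat.card X := by
      have h3 : orbit K x = Set.univ := by
        rw [Set.eq_univ_iff_forall]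
        intro y
        obtain ⟨k, hk, hky⟩ := htr x y
        exact ⟨⟨k, hk⟩, hky⟩
      rw [← Set.ncard_univ, ← h3, ← Nat.card_coe_set_eq,
        Nat.card_congr (orbitEquivQuotientStabilizer K x)]
      rfl
    rw [← h2, Subgroup.relIndex]
    congr 1
    ext k
    simp only [L, mem_subgroupOf, mem_inf, mem_stabilizer_iff]
    exact ⟨fun h => h.2, fun h => ⟨k.2, h⟩⟩
  have e2 : (L ⊓ centralizer (D : Set M)).relIndex (K ⊓ centralizer (D : Set M)) =
      (fs D X).ncard := by
    set C := K ⊓ centralizer (D : Set M) with hC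
    have h3 : (orbit C x : Set X) = fs D X := by
      ext y
      constructor
      · rintro ⟨c, rfl⟩ b hb
        have h4 : b * (c : M) = c * b := by
          have := mem_centralizer_iff.1 c.2.2 b hb
          exact this
        have h5 : b • x = x := hx hb
        change b • ((c : M) • x) = (c : M) • x
        rw [smul_smul, h4, mul_smul, h5]
      · intro hy
        obtain ⟨k, hk, hkx⟩ := htr x y
        obtain ⟨c, hcK, hcC, hcx⟩ := Cfsg.Agent.Solvable.Glauberman.exists_centralizer_smul D K hDK hcop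
          hsolv x y (fun a ha => hx ha) (fun a ha => hy ha) hk hkx
        exact ⟨⟨c, hcK, hcC⟩, hcx⟩
    have h2 : (stabilizer C x).index = (fs D X).ncard := by
      rw [← h3, ← Nat.card_coe_set_eq, Nat.card_congr (orbitEquivQuotientStabilizer C x)]
      rfl
    rw [← h2, Subgroup.relIndex]
    congr 1
    ext k
    simp only [L, mem_subgroupOf, mem_inf, mem_stabilizer_iff]
    exact ⟨fun h => h.1.2, fun h => ⟨⟨k.2.1, h⟩, k.2.2⟩⟩
  rw [← e1, ← e2]
  exact h1

end Cfsg.Agent.H401
end

-- part: H401/Thirteen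
section
/-!
# No group of degree 13 with a Sylow 3-subgroup fixing exactly four points
-/

set_option autoImplicit false
open Subgroup MulAction
open scoped Pointwise

namespace Cfsg.Agent.H401

theorem not_dvd_card_of_fixed {G Y : Type*} [Group G] [Finite G] [MulAction G Y]
    [IsPretransitive G Y] {p : ℕ} [Fact p.Prime] (P : Sylow p G) {y : Y}
    (hy : (P : Subgroup G) ≤ stabilizer G y) : ¬ p ∣ Nat.card Y := by
  intro h
  rw [← MulAction.index_stabilizer_of_transitive G y] at h
  exact P.not_dvd_index (h.trans (Subgroup.index_dvd_of_le hy))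

theorem no_thirteen {G X : Type*} [Group G] [Finite G] [MulAction G X] [Finite X]
    [IsPretransitive G X] (hX : Nat.card X = 13) {p : ℕ} [Fact p.Prime] (hp : p = 3)
    (P : Sylow p G) (hf : (fs (P : Subgroup G) X).ncard = 4) : False := by
  classical
  subst hp
  have := Fintype.ofFinite X
  have hXf : Fintype.card X = 13 := by rw [← Nat.card_eq_fintype_card, hX]
  set hom := toPermHom G X with hhom
  have htr : IsPretransitive hom.range X := by
    constructor
    intro x y
    obtain ⟨d, hd⟩ := MulAction.exists_smul_eq G x y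
    exact ⟨⟨hom d, d, rfl⟩, hd⟩
  rcases Cfsg.Agent.PermutationGroups.PrimeDegree.isSolvable_or_two_transitive
    (by rw [hXf]; norm_num) hom.range with hs | h2
  · -- solvable case
    have hnt : Nontrivial X := by
      rw [← Fintype.one_lt_card_iff_nontrivial, hXf]; norm_num
    have hntH : Nontrivial hom.range := by
      obtain ⟨x, y, hxy⟩ := hnt.exists_pair_ne
      obtain ⟨d, hd⟩ := MulAction.exists_smul_eq hom.range x y
      refine ⟨d, 1, ?_⟩
      rintro rfl
      rw [one_smul] at hd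
      exact hxy hd
    obtain ⟨A, hAc, hAcomm, hAne⟩ :=
      Cfsg.Agent.Lib.SolvableMinNormal.exists_characteristic_abelian (G := hom.range)
    have hprim : IsPreprimitive hom.range X := IsPreprimitive.of_prime_card (by
      rw [hX]; norm_num)
    have hAn : A.Normal := inferInstance
    have hAtr := Cfsg.Agent.SolvableStructure.PrimitiveSolvable.isPretransitive_of_normal hprim A
      hAne
    obtain ⟨x⟩ : Nonempty X := inferInstance
    have hAst := Cfsg.Agent.SolvableStructure.PrimitiveSolvable.stabilizer_eq_bot_of_comm A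
      (fun a ha b hb => hAcomm.is_comm.comm ⟨a, ha⟩ ⟨b, hb⟩ |> congrArg Subtype.val) x
    have hAcard := Cfsg.Agent.SolvableStructure.PrimitiveSolvable.card_eq_of_regular A x hAst
    rw [hX] at hAcard
    let D : Subgroup hom.range := (P : Subgroup G).map hom.rangeRestrict
    have hD : IsPGroup 3 D := P.isPGroup'.map _
    have hfs : fs D X = fs (P : Subgroup G) X := by
      ext y
      rw [mem_fs, mem_fs]
      constructor
      · intro h g hg
        exact h ⟨g, hg, rfl⟩
      · rintro h _ ⟨g, hg, rfl⟩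
        exact h hg
    have hdvd := ncard_fs_dvd (X := X) (D := D) (K := A) hD (by rw [← hAcard]; norm_num)
      (by rw [normalizer_eq_top_iff.2 hAn]; exact le_top)
      (fun x y => by
        obtain ⟨a, ha⟩ := MulAction.exists_smul_eq A x y
        exact ⟨a, a.2, ha⟩)
      (by
        rw [hfs]
        apply Set.nonempty_of_ncard_ne_zero
        rw [hf]
        norm_num)
    rw [hfs, hf, hX] at hdvd
    norm_num at hdvd
  · -- two-transitive case
    have h2' : IsPretransitive G (Fin 2 ↪ X) := by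
      constructor
      intro x y
      obtain ⟨⟨_, d, rfl⟩, hd⟩ := h2.exists_smul_eq x y
      exact ⟨d, hd⟩
    have hcard : Nat.card (Fin 2 ↪ X) = 156 := by
      rw [Nat.card_eq_fintype_card, Fintype.card_embedding_eq, hXf]
      rfl
    have h1 : 1 < (fs (P : Subgroup G) X).ncard := by omega
    obtain ⟨a, ha, b, hb, hab⟩ := (Set.one_lt_ncard).1 h1
    let e : Fin 2 ↪ X := ⟨![a, b], by
      intro i j hij
      fin_cases i <;> fin_cases j <;> simp_all⟩
    have he : (P : Subgroup G) ≤ stabilizer G e := by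
      intro g hg
      rw [mem_stabilizer_iff]
      ext i
      fin_cases i
      · exact ha hg
      · exact hb hg
    apply not_dvd_card_of_fixed P he
    rw [hcard]
    norm_num

end Cfsg.Agent.H401
end

-- part: H401/Orb
section
/-!
# Orbits and fixed points
-/

set_option autoImplicit false
open Subgroup MulAction
open scoped Pointwise

namespace Cfsg.Agent.H401

universe u

section

variable {M X : Type*} [Group M] [MulAction M X]

theorem ncard_fs_orbit (y : X) (H : Subgroup M) :
    (fs H (M ⧸ stabilizer M y)).ncard = (fs H X ∩ orbit M y).ncard := by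
  let e : M ⧸ stabilizer M y → X := ofQuotientStabilizer M y
  have he : Function.Injective e := injective_ofQuotientStabilizer M y
  have hsm : ∀ (m : M) (q : M ⧸ stabilizer M y), e (m • q) = m • e q := fun m q =>
    ofQuotientStabilizer_smul M y m q
  have : fs H X ∩ orbit M y = e '' fs H (M ⧸ stabilizer M y) := by
    ext z
    constructor
    · rintro ⟨hz, m, rfl⟩
      refine ⟨(m : M ⧸ stabilizer M y), ?_, ofQuotientStabilizer_mk M y m⟩
      intro h hh
      apply he
      rw [hsm]
      have : e (m : M ⧸ stabilizer M y) = m • y := ofQuotientStabilizer_mk M y m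
      rw [this]
      exact hz hh
    · rintro ⟨q, hq, rfl⟩
      refine ⟨?_, ?_⟩
      · intro h hh
        rw [mem_stabilizer_iff, ← hsm]
        congr 1
        exact hq hh
      · obtain ⟨m, rfl⟩ := QuotientGroup.mk_surjective q
        exact ⟨m, (ofQuotientStabilizer_mk M y m).symm⟩
  rw [this, Set.ncard_image_of_injective _ he]

theorem card_quot_orbit (y : X) : Nat.card (M ⧸ stabilizer M y) = (orbit M y).ncard := by
  rw [← Nat.card_coe_set_eq, Nat.card_congr (orbitEquivQuotientStabilizer M y)]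

/-- Summing an inequality over the orbits in an invariant set. -/
theorem sum_orbits [Finite X] {A Y : Set X} (hY : ∀ m : M, ∀ y ∈ Y, m • y ∈ Y) {c1 c2 : ℕ}
    (h : ∀ y ∈ Y, c1 * (A ∩ orbit M y).ncard ≤ c2 * (orbit M y).ncard) :
    c1 * (A ∩ Y).ncard ≤ c2 * Y.ncard := by
  classical
  have : Fintype (orbitRel.Quotient M X) := Fintype.ofFinite _
  rw [ncard_eq_sum (fun x => (Quotient.mk _ x : orbitRel.Quotient M X)) (A ∩ Y),
    ncard_eq_sum (fun x => (Quotient.mk _ x : orbitRel.Quotient M X)) Y,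
    Finset.mul_sum, Finset.mul_sum]
  apply Finset.sum_le_sum
  intro ω _
  rcases (Y ∩ {x | (Quotient.mk _ x : orbitRel.Quotient M X) = ω}).eq_empty_or_nonempty with
    h0 | ⟨y, hy, hyω⟩
  · have : A ∩ Y ∩ {x | (Quotient.mk _ x : orbitRel.Quotient M X) = ω} = ∅ := by
      rw [Set.inter_assoc, h0, Set.inter_empty]
    rw [this, Set.ncard_empty, mul_zero]
    exact Nat.zero_le _
  · have hfib : {x : X | (Quotient.mk _ x : orbitRel.Quotient M X) = ω} = orbit M y := by
      ext x
      rw [← hyω]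
      simp only [Set.mem_ofPred_eq]
      rw [Quotient.eq]
      exact orbitRel_apply
    have hsub : orbit M y ⊆ Y := by
      rintro _ ⟨m, rfl⟩
      exact hY m y hy
    rw [hfib, Set.inter_assoc, Set.inter_eq_right.2 hsub]
    exact h y hy

/-- A subset on which a group acts semiregularly. -/
theorem card_dvd_ncard [Finite X] {P : Subgroup M} {S : Set X}
    (hS : ∀ m ∈ P, ∀ x ∈ S, m • x ∈ S) (h : ∀ x ∈ S, P ⊓ stabilizer M x = ⊥) :
    Nat.card P ∣ S.ncard := by
  let A : SubMulAction P X :=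
    { carrier := S
      smul_mem' := fun g x hx => hS g g.2 x hx }
  have hst : ∀ b : A, stabilizer P b = ⊥ := by
    intro b
    rw [eq_bot_iff]
    intro g hg
    have h1 : (g : M) • (b : X) = b := congrArg Subtype.val hg
    have h2 : (g : M) ∈ P ⊓ stabilizer M (b : X) := ⟨g.2, h1⟩
    rw [h _ b.2, mem_bot] at h2
    rw [mem_bot]
    exact Subtype.ext h2
  have e := selfEquivOrbitsQuotientProd hst
  have h1 : Nat.card A = S.ncard := Nat.card_coe_set_eq S
  rw [← h1, Nat.card_congr e, Nat.card_prod]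
  exact dvd_mul_left _ _

end

section Norm

variable {G : Type*} [Group G] [Finite G] {p : ℕ} [Fact p.Prime]

/-- Normalizers grow in `p`-groups. -/
theorem exists_normalizing_gt {P R : Subgroup G} (hP : IsPGroup p P) (hR : R < P) :
    Nat.card R < Nat.card (P ⊓ normalizer (R : Set G) : Subgroup G) := by
  have hnil := hP.isNilpotent
  have hlt : R.subgroupOf P < ⊤ := by
    rw [lt_top_iff_ne_top]
    intro h
    rw [subgroupOf_eq_top] at h
    exact absurd hR (not_lt_of_ge h)
  have h1 := normalizerCondition_of_isNilpotent (G := P) _ hlt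
  obtain ⟨x, hx, hx'⟩ := SetLike.exists_of_lt h1
  have h2 : R ≤ P ⊓ normalizer (R : Set G) := le_inf hR.le le_normalizer
  have h3 : (x : G) ∈ P ⊓ normalizer (R : Set G) := by
    refine ⟨x.2, ?_⟩
    rw [mem_normalizer_iff] at hx
    refine mem_normalizer_iff.2 ?_
    intro r
    constructor
    · intro hr
      have h4 := (hx ⟨r, hR.le hr⟩).1 (by rw [mem_subgroupOf]; exact hr)
      rw [mem_subgroupOf] at h4
      simpa using h4
    · intro hr
      have hrP : r ∈ P := by
        have h5 := P.mul_mem (P.mul_mem (P.inv_mem x.2) (hR.le hr)) x.2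
        have : (x : G)⁻¹ * ((x : G) * r * (x : G)⁻¹) * x = r := by group
        rwa [this] at h5
      have h4 := (hx ⟨r, hrP⟩).2 (by
        rw [mem_subgroupOf]
        simpa using hr)
      rw [mem_subgroupOf] at h4
      exact h4
  by_contra hcon
  rw [not_lt] at hcon
  have h4 := Subgroup.eq_of_le_of_card_ge h2 hcon
  apply hx'
  rw [mem_subgroupOf, h4]
  exact h3

end Norm

end Cfsg.Agent.H401
end
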